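import Mathlib

/-!
# Interface for groups of Hall–Janko type
-/

set_option autoImplicit false

namespace Cfsg.Agent.J2Type.Base

/-- Fusion of involutions in a group of Hall–Janko type: `z` is the given involution, `u` an
involution of `C(z)` outside `Q`. All facts needed about `C(z)`. -/
structure Fus {G : Type*} [Group G] (z u : G) : Prop where
  hz : orderOf z = 2
  hu : orderOf u = 2
  comm : z * u = u * z
  /-- two classes of involutions -/
  nconj : ¬ IsConj z u
  cover : ∀ x : G, orderOf x = 2 → IsConj z x ∨ IsConj u x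
  /-- all commuting pairs (z-type, u-type) are conjugate -/
  pair : ∀ x y : G, IsConj z x → IsConj u y → x * y = y * x → ∃ g, g * z * g⁻¹ = x ∧ g * u * g⁻¹ = y
  cardC : Nat.card (Subgroup.centralizer ({z} : Set G)) = 1920
  /-- `z` commutes with 11 z-type involutions (including itself), 120 u-type ones -/
  card11 : Nat.card {x : G // IsConj z x ∧ x * z = z * x} = 11
  card120 : Nat.card {y : G // IsConj u y ∧ y * z = z * y} = 120
  /-- `E = C(z) ∩ C(u)` is elementary abelian of order 16 -/
  cardE : Nat.card (Subgroup.centralizer ({z} : Set G) ⊓ Subgroup.centralizer ({u} : Set G) : Subgroup G) = 16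
  sqE : ∀ x : G, x * z = z * x → x * u = u * x → x * x = 1
  /-- `E` contains exactly 3 z-type involutions -/
  card3 : Nat.card {x : G // IsConj z x ∧ x * z = z * x ∧ x * u = u * x} = 3
  /-- product of two commuting distinct z-type involutions is of z-type -/
  mul_z : ∀ x y : G, IsConj z x → IsConj z y → x * y = y * x → x ≠ y → IsConj z (x * y)
  /-- two non-commuting z-type involutions of `C(z)`: product has square `z` -/
  sq_z : ∀ x y : G, IsConj z x → IsConj z y → x * z = z * x → y * z = z * y → x * y ≠ y * x →
    (x * y) ^ 2 = z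
  /-- z-type times u-type in `C(z)`, non-commuting: fourth power is `z` -/
  pow4 : ∀ x y : G, IsConj z x → IsConj u y → x * z = z * x → y * z = z * y → x * y ≠ y * x →
    (x * y) ^ 4 = z
  /-- each z-type `x ≠ z` in `C(z)` fails to commute with exactly 8 z-type elements of `C(z)` -/
  card8 : ∀ x : G, IsConj z x → x * z = z * x → x ≠ z →
    Nat.card {y : G // IsConj z y ∧ y * z = z * y ∧ x * y ≠ y * x} = 8
  /-- elements of order 3 of `C(z)` -/
  card24 : ∀ c : G, orderOf c = 3 → c * z = z * c →
    Nat.card (Subgroup.centralizer ({z} : Set G) ⊓ Subgroup.centralizer ({c} : Set G) : Subgroup G) = 24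
  conj3 : ∀ c c' : G, orderOf c = 3 → orderOf c' = 3 → c * z = z * c → c' * z = z * c' →
    ∃ g, g * z = z * g ∧ g * c * g⁻¹ = c'
  z3 : ∀ c y : G, orderOf c = 3 → c * z = z * c → orderOf y = 2 → y * z = z * y → y * c = c * y →
    IsConj z y
  /-- elements of order 5 of `C(z)` -/
  card10 : ∀ w : G, orderOf w = 5 → w * z = z * w →
    Nat.card (Subgroup.centralizer ({z} : Set G) ⊓ Subgroup.centralizer ({w} : Set G) : Subgroup G) = 10
  conj5 : ∀ w w' : G, orderOf w = 5 → orderOf w' = 5 → w * z = z * w → w' * z = z * w' →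
    ∃ g, g * z = z * g ∧ (g * w * g⁻¹ = w' ∨ g * w * g⁻¹ = w' ^ 2)

end Cfsg.Agent.J2Type.Base
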