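import Mathlib

/-! An elementary abelian group of order 16 with a fixed-point-free automorphism of order 5. -/

set_option autoImplicit false
namespace Cfsg.Agent.J2Type.Orb

/-- An elementary abelian group of order 16 with a fixed-point-free automorphism of order 5:
every element is `0`, `W^i x` or `W^i x + W^j x`. -/
theorem cover_of_fpf {V : Type*} [AddCommGroup V] (h2 : ∀ x : V, x + x = 0) (hcard : Nat.card V = 16)
    (W : V →+ V) (hW5 : ∀ x, W (W (W (W (W x)))) = x) (hfix : ∀ x, W x = x → x = 0)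
    (X : Fin 5 → V) (h0 : X 0 ≠ 0) (hX : ∀ i, X (i + 1) = W (X i)) :
    (X 0 + X 1 + X 2 + X 3 + X 4 = 0) ∧ (∀ i, X i ≠ 0) ∧ (∀ i j, i ≠ j → X i ≠ X j) ∧
    (∀ i j k, i ≠ j → i ≠ k → j ≠ k → X i + X j + X k ≠ 0) ∧
    ∀ y : V, y = 0 ∨ (∃ i, y = X i) ∨ ∃ i j, i < j ∧ y = X i + X j := by
  have hinj : Function.Injective W := by
    intro a b hab
    rw [← hW5 a, ← hW5 b, hab]
  have htot : X 0 + X 1 + X 2 + X 3 + X 4 = 0 := by
    apply hfix
    simp only [map_add, ← hX]
    rw [show (0 : Fin 5) + 1 = 1 from rfl, show (1 : Fin 5) + 1 = 2 from rfl,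
      show (2 : Fin 5) + 1 = 3 from rfl, show (3 : Fin 5) + 1 = 4 from rfl,
      show (4 : Fin 5) + 1 = 0 from rfl]
    abel
  have hne : ∀ i, X i ≠ 0 := by
    have key : ∀ i, X i ≠ 0 → X (i + 1) ≠ 0 := by
      intro i hi h
      rw [hX] at h
      exact hi (hinj (by rw [h, map_zero]))
    have e1 := key 0 h0
    have e2 := key 1 e1
    have e3 := key 2 e2
    have e4 := key 3 e3
    intro i
    fin_cases i
    · exact h0
    · exact e1
    · exact e2
    · exact e3
    · exact e4
  have step1 : ∀ i, X i ≠ X (i + 1) := by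
    intro i h
    rw [hX] at h
    exact hne i (hfix _ h.symm)
  have step2 : ∀ i, X i ≠ X (i + 2) := by
    intro i h
    have a1 : X (i + 2) = X (i + 4) := by
      have := congrArg (fun t => W (W t)) h
      simp only [← hX] at this
      rw [show i + 1 + 1 = i + 2 from by fin_cases i <;> rfl,
        show i + 2 + 1 + 1 = i + 4 from by fin_cases i <;> rfl] at this
      exact this
    have : X i = X (i + 4) := h.trans a1
    refine step1 (i + 4) ?_
    rw [← this, show i + 4 + 1 = i from by fin_cases i <;> rfl]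
  have hneq : ∀ i j, i ≠ j → X i ≠ X j := by
    intro i j hij
    have hcase : j = i + 1 ∨ j = i + 2 ∨ i = j + 1 ∨ i = j + 2 := by
      revert i j; decide
    rcases hcase with h | h | h | h
    · rw [h]; exact step1 i
    · rw [h]; exact step2 i
    · rw [h]; exact (step1 j).symm
    · rw [h]; exact (step2 j).symm
  let _ : Module (ZMod 2) V := AddCommGroup.zmodModule (n := 2) (fun x => by rw [two_nsmul]; exact h2 x)
  let L : (Fin 5 → ZMod 2) →ₗ[ZMod 2] V := Fintype.linearCombination (ZMod 2) X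
  have hL : ∀ b, L b = ∑ i, b i • X i := fun b => Fintype.linearCombination_apply (ZMod 2) X b
  have hLs : ∀ i, L (Pi.single i 1) = X i := by
    intro i
    rw [hL]
    simp [Pi.single_apply]
  have hL1 : L 1 = 0 := by
    rw [hL]
    simp only [Fin.sum_univ_five, Pi.one_apply, one_smul]
    exact htot
  have hcases : ∀ b : Fin 5 → ZMod 2, (b = 0 ∨ b = 1) ∨ (∃ i, b = Pi.single i 1 ∨ b = Pi.single i 1 + 1) ∨
      ∃ i j, i < j ∧ (b = Pi.single i 1 + Pi.single j 1 ∨ b = Pi.single i 1 + Pi.single j 1 + 1) := by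
    decide
  have hLcases : ∀ b, ((b = 0 ∨ b = 1) ∧ L b = 0) ∨ (∃ i, L b = X i) ∨ ∃ i j, i < j ∧ L b = X i + X j := by
    intro b
    rcases hcases b with (h | h) | ⟨i, h | h⟩ | ⟨i, j, hij, h | h⟩
    · left; exact ⟨Or.inl h, by rw [h, map_zero]⟩
    · left; exact ⟨Or.inr h, by rw [h, hL1]⟩
    · right; left; exact ⟨i, by rw [h, hLs]⟩
    · right; left; exact ⟨i, by rw [h, map_add, hLs, hL1, add_zero]⟩
    · right; right; exact ⟨i, j, hij, by rw [h, map_add, hLs, hLs]⟩
    · right; right; exact ⟨i, j, hij, by rw [h, map_add, map_add, hLs, hLs, hL1, add_zero]⟩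
  have hker : ∀ b, L b = 0 → b = 0 ∨ b = 1 := by
    intro b hb
    rcases hLcases b with ⟨h, _⟩ | ⟨i, h⟩ | ⟨i, j, hij, h⟩
    · exact h
    · exact absurd (h.symm.trans hb) (hne i)
    · exfalso
      apply hneq i j hij.ne
      have := h.symm.trans hb
      exact add_right_cancel (this.trans (h2 (X j)).symm)
  have hkercard : Nat.card (LinearMap.ker L) = 2 := by
    have : Nat.card (LinearMap.ker L) = Nat.card ({0, 1} : Set (Fin 5 → ZMod 2)) := by
      apply Nat.card_congr
      refine Equiv.subtypeEquivRight ?_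
      intro b
      rw [LinearMap.mem_ker]
      constructor
      · intro h
        rcases hker b h with h | h
        · left; exact h
        · right; exact h
      · rintro (h | h)
        · rw [h, map_zero]
        · rw [h]; exact hL1
    rw [this, Nat.card_coe_set_eq, Set.ncard_pair]
    decide
  have hrange : Nat.card (LinearMap.range L) = 16 := by
    have h1 := Submodule.card_eq_card_quotient_mul_card (LinearMap.ker L)
    have h3 : Nat.card ((Fin 5 → ZMod 2) ⧸ LinearMap.ker L) = Nat.card (LinearMap.range L) :=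
      Nat.card_congr L.quotKerEquivRange.toEquiv
    have h4 : Nat.card (Fin 5 → ZMod 2) = 32 := by
      rw [Nat.card_eq_fintype_card]; decide
    rw [h3, hkercard, h4] at h1
    omega
  have hsurj : ∀ y, ∃ b, L b = y := by
    have hfin : Finite V := Nat.finite_of_card_ne_zero (by rw [hcard]; norm_num)
    have : (LinearMap.range L : Set V) = Set.univ := by
      apply Set.eq_of_subset_of_ncard_le (Set.subset_univ _)
      rw [Set.ncard_univ, hcard]
      have : (LinearMap.range L : Set V).ncard = 16 := hrange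
      rw [this]
    intro y
    have hy : y ∈ (LinearMap.range L : Set V) := by rw [this]; trivial
    exact hy
  refine ⟨htot, hne, hneq, ?_, ?_⟩
  · intro i j k hij hik hjk h
    have : L (Pi.single i 1 + Pi.single j 1 + Pi.single k 1) = 0 := by
      rw [map_add, map_add, hLs, hLs, hLs, h]
    have h5 := hker _ this
    clear this h
    revert i j k
    clear hkercard hrange hsurj hker hLcases hcases hL1 hLs hL
    have key : ∀ i j k : Fin 5, i ≠ j → i ≠ k → j ≠ k →
        ¬ ((Pi.single i 1 + Pi.single j 1 + Pi.single k 1 : Fin 5 → ZMod 2) = 0 ∨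
          (Pi.single i 1 + Pi.single j 1 + Pi.single k 1 : Fin 5 → ZMod 2) = 1) := by decide
    exact fun i j k a b c d => key i j k a b c d
  · intro y
    obtain ⟨b, rfl⟩ := hsurj y
    rcases hLcases b with ⟨_, h⟩ | h | h
    · left; exact h
    · right; left; exact h
    · right; right; exact h

/-- Multiplicative version of `cover_of_fpf`. -/
theorem cover_of_fpf_mul {V : Type*} [CommGroup V] (h2 : ∀ x : V, x * x = 1)
    (hcard : Nat.card V = 16)
    (W : V →* V) (hW5 : ∀ x, W (W (W (W (W x)))) = x) (hfix : ∀ x, W x = x → x = 1)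
    (X : Fin 5 → V) (h0 : X 0 ≠ 1) (hX : ∀ i, X (i + 1) = W (X i)) :
    (X 0 * X 1 * X 2 * X 3 * X 4 = 1) ∧ (∀ i, X i ≠ 1) ∧ (∀ i j, i ≠ j → X i ≠ X j) ∧
    (∀ i j k, i ≠ j → i ≠ k → j ≠ k → X i * X j * X k ≠ 1) ∧
    ∀ y : V, y = 1 ∨ (∃ i, y = X i) ∨ ∃ i j, i < j ∧ y = X i * X j :=
  cover_of_fpf (V := Additive V) h2 hcard (MonoidHom.toAdditive W) hW5 hfix X h0 hX

end Cfsg.Agent.J2Type.Orb
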