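import Mathlib
import Cfsg.Agent.J2Type.Orb

/-! Five pairwise anticommuting involutions in an extraspecial group of order 32 with an
automorphism of order 5. -/

set_option autoImplicit false
namespace Cfsg.Agent.J2Type.QStruct

variable {C : Type*} [Group C]

/-- working hypotheses on an extraspecial normal subgroup -/
structure Hyp (Q : Subgroup C) (z : C) : Prop where
  z_ne : z ≠ 1
  z_sq : z * z = 1
  z_comm : ∀ c, c * z = z * c
  z_mem : z ∈ Q
  comm : ∀ x ∈ Q, ∀ y ∈ Q, x * y = y * x ∨ x * y = z * (y * x)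
  sq : ∀ x ∈ Q, x * x = 1 ∨ x * x = z
  cent : ∀ c, (∀ q ∈ Q, c * q = q * c) → c = 1 ∨ c = z

/-- centre of `Q` inside `Q` -/
theorem Hyp.mem_center {Q : Subgroup C} {z : C} (h : Hyp Q z) (q : Q) :
    q ∈ Subgroup.center Q ↔ ((q : C) = 1 ∨ (q : C) = z) := by
  rw [Subgroup.mem_center_iff]
  constructor
  · intro hq
    apply h.cent
    intro g hg
    have := hq ⟨g, hg⟩
    exact (congrArg Subtype.val this).symm
  · rintro (hq | hq) g
    · apply Subtype.ext
      show (g : C) * (q : C) = (q : C) * (g : C)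
      rw [hq, one_mul, mul_one]
    · apply Subtype.ext
      show (g : C) * (q : C) = (q : C) * (g : C)
      rw [hq, h.z_comm]

theorem Hyp.mk_eq {Q : Subgroup C} {z : C} (h : Hyp Q z) (a b : Q) :
    (QuotientGroup.mk a : Q ⧸ Subgroup.center Q) = QuotientGroup.mk b ↔
      ((b : C) = a ∨ (b : C) = z * a) := by
  rw [QuotientGroup.eq, h.mem_center]
  show ((a : C)⁻¹ * (b : C) = 1 ∨ (a : C)⁻¹ * (b : C) = z) ↔ _
  rw [inv_mul_eq_iff_eq_mul, inv_mul_eq_iff_eq_mul, mul_one, h.z_comm]

theorem Hyp.fix {Q : Subgroup C} [Finite C] [Q.Normal] {z : C} (h : Hyp Q z) (hcard : Nat.card Q = 32)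
    (w : C) (hw5 : w ^ 5 = 1) (hw1 : w ≠ 1) (q : C) (hq : q ∈ Q)
    (hf : w * q * w⁻¹ = q ∨ w * q * w⁻¹ = z * q) : q = 1 ∨ q = z := by
  have hQn : ∀ q ∈ Q, w * q * w⁻¹ ∈ Q := fun q hq => Subgroup.Normal.conj_mem inferInstance q hq w
  -- centraliser of `w` in `Q`
  let F : Subgroup Q := (Subgroup.centralizer ({w} : Set C)).subgroupOf Q
  have hF : ∀ q : Q, q ∈ F ↔ w * (q : C) * w⁻¹ = q := by
    intro q
    rw [Subgroup.mem_subgroupOf, Subgroup.mem_centralizer_singleton_iff, mul_inv_eq_iff_eq_mul]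
    exact eq_comm
  let f : Function.End Q := fun q => ⟨w * q * w⁻¹, hQn q q.2⟩
  have hfn : ∀ n : ℕ, ∀ q : Q, (((f ^ n : Function.End Q) q : Q) : C) = w ^ n * (q : C) * (w ^ n)⁻¹ := by
    intro n
    induction n with
    | zero =>
      intro q
      rw [pow_zero, pow_zero, one_mul, inv_one, mul_one]
      rfl
    | succ n ih =>
      intro q
      rw [pow_succ]
      show (((f ^ n : Function.End Q) (f q) : Q) : C) = _
      rw [ih]
      show w ^ n * (w * (q : C) * w⁻¹) * (w ^ n)⁻¹ = _
      rw [pow_succ]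
      group
  have hf5 : f ^ 5 ^ 1 = 1 := by
    funext q
    apply Subtype.ext
    rw [hfn]
    rw [pow_one, hw5, one_mul, inv_one, mul_one]
    rfl
  classical
  have : Fintype Q := Fintype.ofFinite Q
  have hp5 : Fact (Nat.Prime 5) := ⟨by norm_num⟩
  have hmod := Equiv.Perm.card_fixedPoints_modEq hf5
  have hfix : Fintype.card f.fixedPoints = Nat.card F := by
    rw [← Nat.card_eq_fintype_card]
    apply Nat.card_congr
    refine Equiv.subtypeEquivRight ?_
    intro x
    rw [hF]
    show f x = x ↔ _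
    rw [Subtype.ext_iff]
  rw [hfix, ← Nat.card_eq_fintype_card, hcard] at hmod
  have hdvd : Nat.card F ∣ 32 := hcard ▸ Subgroup.card_subgroup_dvd_card F
  have hFcases : Nat.card F = 2 ∨ Nat.card F = 32 := by
    have : Nat.card F ∈ Nat.divisors 32 := by
      rw [Nat.mem_divisors]; exact ⟨hdvd, by norm_num⟩
    rw [show Nat.divisors 32 = {1, 2, 4, 8, 16, 32} by decide +kernel] at this
    simp only [Finset.mem_insert, Finset.mem_singleton] at this
    rcases this with h1 | h1 | h1 | h1 | h1 | h1 <;> rw [h1] at hmod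
    · exact absurd hmod (by decide)
    · left; exact h1
    · exact absurd hmod (by decide)
    · exact absurd hmod (by decide)
    · exact absurd hmod (by decide)
    · right; exact h1
  have hF2 : Nat.card F = 2 := by
    rcases hFcases with h1 | h1
    · exact h1
    · exfalso
      have htop : F = ⊤ := by
        apply Subgroup.eq_top_of_card_eq
        rw [h1, hcard]
      have hc : ∀ q ∈ Q, w * q = q * w := by
        intro q hq
        have : (⟨q, hq⟩ : Q) ∈ F := by rw [htop]; trivial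
        rw [hF] at this
        exact mul_inv_eq_iff_eq_mul.1 this
      rcases h.cent w hc with h2 | h2
      · exact hw1 h2
      · rw [h2] at hw5
        have : z ^ 5 = z := by
          rw [show z ^ 5 = (z * z) * ((z * z) * z) by simp only [pow_succ, pow_zero, one_mul, mul_assoc],
            h.z_sq, one_mul, one_mul]
        rw [this] at hw5
        exact h.z_ne hw5
  have hF' : ∀ q : Q, q ∈ F → (q : C) = 1 ∨ (q : C) = z := by
    intro q hqF
    have hzF : (⟨z, h.z_mem⟩ : Q) ∈ F := by
      rw [hF, mul_inv_eq_iff_eq_mul]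
      exact h.z_comm w
    by_contra hcon
    push Not at hcon
    have hsub : ({(1 : Q), ⟨z, h.z_mem⟩, q} : Set Q) ⊆ F := by
      intro x hx
      rcases hx with hx | hx | hx
      · rw [hx]; exact F.one_mem
      · rw [hx]; exact hzF
      · rw [hx]; exact hqF
    have h3 : ({(1 : Q), ⟨z, h.z_mem⟩, q} : Set Q).ncard = 3 := by
      rw [Set.ncard_eq_three]
      refine ⟨1, ⟨z, h.z_mem⟩, q, ?_, ?_, ?_, rfl⟩
      · intro hh; exact h.z_ne (congrArg Subtype.val hh).symm
      · intro hh; exact hcon.1 (congrArg Subtype.val hh).symm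
      · intro hh; exact hcon.2 (congrArg Subtype.val hh).symm
    have h4 := Set.ncard_le_ncard hsub (Set.toFinite _)
    rw [h3] at h4
    have h5 : (F : Set Q).ncard = 2 := hF2
    omega
  rcases hf with hf | hf
  · exact hF' ⟨q, hq⟩ ((hF _).2 hf)
  · exfalso
    have e1 : ∀ n : ℕ, w ^ n * q * (w ^ n)⁻¹ = z ^ n * q := by
      intro n
      induction n with
      | zero => group
      | succ n ih =>
        have : w ^ (n + 1) * q * (w ^ (n + 1))⁻¹ = w * (w ^ n * q * (w ^ n)⁻¹) * w⁻¹ := by
          rw [pow_succ']; group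
        rw [this, ih]
        have hzn : w * z ^ n = z ^ n * w := by
          exact (Commute.pow_right (h.z_comm w : Commute w z) n).eq
        rw [← mul_assoc w, hzn, mul_assoc, mul_assoc, ← mul_assoc w, hf, ← mul_assoc, ← pow_succ]
    have := e1 5
    rw [hw5] at this
    have hz5 : z ^ 5 = z := by
      rw [show z ^ 5 = (z * z) * ((z * z) * z) by simp only [pow_succ, pow_zero, one_mul, mul_assoc],
            h.z_sq, one_mul, one_mul]
    rw [hz5] at this
    have h6 : z * q = 1 * q := by rw [← this]; group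
    exact h.z_ne (mul_right_cancel h6)

/-- the five involutions -/
structure Five (Q : Subgroup C) (z : C) (v : Fin 5 → C) : Prop where
  mem : ∀ i, v i ∈ Q
  sq : ∀ i, v i * v i = 1
  anti : ∀ i j, i ≠ j → v i * v j = z * (v j * v i)
  prod : v 0 * v 1 * v 2 * v 3 * v 4 = 1
  cover : ∀ q ∈ Q, (q = 1 ∨ q = z) ∨ (∃ i, q = v i ∨ q = z * v i) ∨
    (∃ i j, i < j ∧ (q = v i * v j ∨ q = z * (v i * v j)))

/-- the orbit of an element of `Q` under an element of order 5 -/
theorem Hyp.orbit {Q : Subgroup C} [Finite C] [Q.Normal] {z : C} (h : Hyp Q z) (hcard : Nat.card Q = 32)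
    (w : C) (hw5 : w ^ 5 = 1) (hw1 : w ≠ 1) (v : Fin 5 → C) (hv : ∀ i, v i ∈ Q)
    (hv0 : ¬ (v 0 = 1 ∨ v 0 = z)) (hvw : ∀ i, v (i + 1) = w * v i * w⁻¹) :
    (v 0 * v 1 * v 2 * v 3 * v 4 = 1 ∨ v 0 * v 1 * v 2 * v 3 * v 4 = z) ∧
    (∀ i, v i ≠ 1 ∧ v i ≠ z) ∧
    (∀ i j, i ≠ j → v i ≠ v j ∧ v i ≠ z * v j) ∧
    (∀ i j k, i ≠ j → i ≠ k → j ≠ k → v i * v j * v k ≠ 1 ∧ v i * v j * v k ≠ z) ∧
    ∀ q ∈ Q, (q = 1 ∨ q = z) ∨ (∃ i, q = v i ∨ q = z * v i) ∨
    (∃ i j, i < j ∧ (q = v i * v j ∨ q = z * (v i * v j))) := by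
  have hZ : Nat.card (Subgroup.center Q) = 2 := by
    have : Nat.card (Subgroup.center Q) = Nat.card ({1, ⟨z, h.z_mem⟩} : Set Q) := by
      apply Nat.card_congr
      refine Equiv.subtypeEquivRight ?_
      intro x
      rw [h.mem_center]
      constructor
      · rintro (hx | hx)
        · left; exact Subtype.ext hx
        · right; exact Subtype.ext hx
      · rintro (hx | hx)
        · left; rw [hx]; rfl
        · right; rw [hx]
    rw [this, Nat.card_coe_set_eq, Set.ncard_pair]
    intro hh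
    exact h.z_ne (congrArg Subtype.val hh).symm
  have h16 : Nat.card (Q ⧸ Subgroup.center Q) = 16 := by
    have := Subgroup.card_eq_card_quotient_mul_card_subgroup (Subgroup.center Q)
    rw [hcard, hZ] at this
    omega
  let mk : Q → Q ⧸ Subgroup.center Q := QuotientGroup.mk
  let _ : CommGroup (Q ⧸ Subgroup.center Q) :=
    { (inferInstance : Group (Q ⧸ Subgroup.center Q)) with
      mul_comm := by
        intro a b
        obtain ⟨a, rfl⟩ := QuotientGroup.mk_surjective a
        obtain ⟨b, rfl⟩ := QuotientGroup.mk_surjective b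
        show mk (a * b) = mk (b * a)
        rw [h.mk_eq]
        rcases h.comm b b.2 a a.2 with h1 | h1
        · left; exact h1
        · right; exact h1 }
  have hsq : ∀ x : Q ⧸ Subgroup.center Q, x * x = 1 := by
    intro a
    obtain ⟨a, rfl⟩ := QuotientGroup.mk_surjective a
    show mk (a * a) = mk 1
    rw [h.mk_eq]
    rcases h.sq a a.2 with h1 | h1
    · left; exact h1.symm
    · right
      show (1 : C) = z * (a * a)
      rw [h1, h.z_sq]
  let cw : Q →* Q := (MulAut.conjNormal w : MulAut Q).toMonoidHom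
  have hcw : ∀ q : Q, ((cw q : Q) : C) = w * q * w⁻¹ := fun q => MulAut.conjNormal_apply w q
  have hle : Subgroup.center Q ≤ (Subgroup.center Q).comap cw := by
    intro q hq
    rw [Subgroup.mem_comap, h.mem_center, hcw]
    rw [h.mem_center] at hq
    rcases hq with hq | hq
    · left; rw [hq]; group
    · right; rw [hq, h.z_comm]; group
  let W : (Q ⧸ Subgroup.center Q) →* (Q ⧸ Subgroup.center Q) :=
    QuotientGroup.map (Subgroup.center Q) (Subgroup.center Q) cw hle
  have hW : ∀ q : Q, W (mk q) = mk (cw q) := fun q => rfl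
  have hW5 : ∀ x, W (W (W (W (W x)))) = x := by
    intro x
    obtain ⟨x, rfl⟩ := QuotientGroup.mk_surjective x
    show W (W (W (W (W (mk x))))) = mk x
    rw [hW, hW, hW, hW, hW]
    congr 1
    apply Subtype.ext
    rw [hcw, hcw, hcw, hcw, hcw]
    have : w * (w * (w * (w * (w * (x : C) * w⁻¹) * w⁻¹) * w⁻¹) * w⁻¹) * w⁻¹ = w ^ 5 * x * (w ^ 5)⁻¹ := by
      simp only [pow_succ, pow_zero, one_mul, mul_assoc, mul_inv_rev]
    rw [this, hw5]
    group
  have hfix : ∀ x, W x = x → x = 1 := by
    intro x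
    obtain ⟨x, rfl⟩ := QuotientGroup.mk_surjective x
    intro hx
    have hx' : mk x = mk (cw x) := hx.symm
    rw [h.mk_eq, hcw] at hx'
    have := h.fix hcard w hw5 hw1 x x.2 hx'
    show mk x = mk 1
    rw [h.mk_eq]
    rcases this with h1 | h1
    · left; exact h1.symm
    · right
      show (1 : C) = z * x
      rw [h1, h.z_sq]
  let X : Fin 5 → Q ⧸ Subgroup.center Q := fun i => mk ⟨v i, hv i⟩
  have hX0 : X 0 ≠ 1 := by
    intro h0
    apply hv0
    have h0' : mk 1 = mk ⟨v 0, hv 0⟩ := h0.symm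
    rw [h.mk_eq] at h0'
    rcases h0' with h1 | h1
    · left; exact h1
    · right; rw [show v 0 = z * 1 from h1, mul_one]
  have hX : ∀ i, X (i + 1) = W (X i) := by
    intro i
    show mk _ = W (mk _)
    rw [hW]
    congr 1
    apply Subtype.ext
    rw [hcw]
    exact hvw i
  obtain ⟨a1, a2, a3, a4, a5⟩ := Orb.cover_of_fpf_mul hsq h16 W hW5 hfix X hX0 hX
  refine ⟨?_, ?_, ?_, ?_, ?_⟩
  · have : mk 1 = mk (⟨v 0, hv 0⟩ * ⟨v 1, hv 1⟩ * ⟨v 2, hv 2⟩ * ⟨v 3, hv 3⟩ * ⟨v 4, hv 4⟩) := a1.symm
    rw [h.mk_eq] at this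
    rcases this with h1 | h1
    · left; exact h1
    · right
      have h1' : v 0 * v 1 * v 2 * v 3 * v 4 = z * 1 := h1
      rw [h1', mul_one]
  · intro i
    constructor
    · intro h1
      apply a2 i
      show mk _ = mk 1
      rw [h.mk_eq]
      left; exact h1.symm
    · intro h1
      apply a2 i
      show mk _ = mk 1
      rw [h.mk_eq]
      right
      show (1 : C) = z * v i
      rw [h1, h.z_sq]
  · intro i j hij
    constructor
    · intro h1
      apply a3 i j hij
      show mk _ = mk _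
      rw [h.mk_eq]
      left; exact h1.symm
    · intro h1
      apply a3 i j hij
      show mk _ = mk _
      rw [h.mk_eq]
      right
      show v j = z * v i
      rw [h1, ← mul_assoc, h.z_sq, one_mul]
  · intro i j k hij hik hjk
    constructor
    · intro h1
      apply a4 i j k hij hik hjk
      show mk (⟨v i, hv i⟩ * ⟨v j, hv j⟩ * ⟨v k, hv k⟩) = mk 1
      rw [h.mk_eq]
      left; exact h1.symm
    · intro h1
      apply a4 i j k hij hik hjk
      show mk (⟨v i, hv i⟩ * ⟨v j, hv j⟩ * ⟨v k, hv k⟩) = mk 1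
      rw [h.mk_eq]
      right
      show (1 : C) = z * (v i * v j * v k)
      rw [h1, h.z_sq]
  · intro q hq
    rcases a5 (mk ⟨q, hq⟩) with h1 | ⟨i, h1⟩ | ⟨i, j, hij, h1⟩
    · left
      have h1' : mk 1 = mk ⟨q, hq⟩ := h1.symm
      rw [h.mk_eq] at h1'
      rcases h1' with h2 | h2
      · left; exact h2
      · right; rw [show q = z * 1 from h2, mul_one]
    · right; left
      have h1' : mk _ = mk ⟨q, hq⟩ := h1.symm
      rw [h.mk_eq] at h1'
      exact ⟨i, h1'⟩
    · right; right
      have h1' : mk (⟨v i, hv i⟩ * ⟨v j, hv j⟩) = mk ⟨q, hq⟩ := h1.symm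
      rw [h.mk_eq] at h1'
      exact ⟨i, j, hij, h1'⟩

/-- orbit of `q` under conjugation by `w` as a function on `Fin 5` -/
def orb (w q : C) (i : Fin 5) : C := w ^ (i : ℕ) * q * (w ^ (i : ℕ))⁻¹

theorem orb_zero (w q : C) : orb w q 0 = q := by
  show w ^ 0 * q * (w ^ 0)⁻¹ = q
  group

theorem orb_succ (w q : C) (hw5 : w ^ 5 = 1) (i : Fin 5) :
    orb w q (i + 1) = w * orb w q i * w⁻¹ := by
  have hk : ∀ n : ℕ, w * (w ^ n * q * (w ^ n)⁻¹) * w⁻¹ = w ^ (n + 1) * q * (w ^ (n + 1))⁻¹ := by
    intro n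
    rw [pow_succ']
    group
  have : i.val < 4 ∨ i.val = 4 := by omega
  rcases this with h | h
  · have h1 : (i + 1).val = i.val + 1 := by
      fin_cases i <;> first | rfl | (exfalso; revert h; decide)
    show w ^ ((i + 1).val) * q * (w ^ ((i + 1).val))⁻¹ = _
    rw [h1]
    exact (hk _).symm
  · have h1 : (i + 1).val = 0 := by
      fin_cases i <;> first | rfl | (exfalso; revert h; decide)
    show w ^ ((i + 1).val) * q * (w ^ ((i + 1).val))⁻¹ = _
    rw [h1]
    show _ = w * (w ^ i.val * q * (w ^ i.val)⁻¹) * w⁻¹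
    rw [hk, h, hw5]
    group

theorem orb_mem {Q : Subgroup C} [Q.Normal] (w q : C) (hq : q ∈ Q) (i : Fin 5) : orb w q i ∈ Q :=
  Subgroup.Normal.conj_mem inferInstance q hq _

/-- existence of a noncentral involution -/
theorem Hyp.exists_invol {Q : Subgroup C} [Finite C] [Q.Normal] {z : C} (h : Hyp Q z)
    (hcard : Nat.card Q = 32) (w : C) (hw5 : w ^ 5 = 1) (hw1 : w ≠ 1) :
    ∃ q ∈ Q, q * q = 1 ∧ ¬ (q = 1 ∨ q = z) := by
  by_contra hcon
  push Not at hcon
  -- a noncentral element
  obtain ⟨q, hq, hqn⟩ : ∃ q ∈ Q, ¬ (q = 1 ∨ q = z) := by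
    by_contra h1
    push Not at h1
    have hsub : (Q : Set C) ⊆ {1, z} := by
      intro x hx
      rcases h1 x hx with h2 | h2
      · left; exact h2
      · right; exact h2
    have h2 := Set.ncard_le_ncard hsub (Set.toFinite _)
    have h3 : ({1, z} : Set C).ncard = 2 := Set.ncard_pair h.z_ne.symm
    have h4 : (Q : Set C).ncard = 32 := hcard
    omega
  obtain ⟨-, b2, b3, b4, -⟩ := h.orbit hcard w hw5 hw1 (orb w q) (orb_mem w q hq)
    (by rw [orb_zero]; exact hqn) (orb_succ w q hw5)
  have hsq : ∀ x ∈ Q, x ≠ 1 → x ≠ z → x * x = z := by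
    intro x hx hx1 hxz
    rcases h.sq x hx with h1 | h1
    · exact absurd (hcon x hx h1) (by push Not; exact ⟨hx1, hxz⟩)
    · exact h1
  -- any two noncentral elements which differ mod z anticommute
  have hanti : ∀ x ∈ Q, ∀ y ∈ Q, x ≠ 1 → x ≠ z → y ≠ 1 → y ≠ z → x * y ≠ 1 → x * y ≠ z →
      x * y = z * (y * x) := by
    intro x hx y hy hx1 hxz hy1 hyz hxy1 hxyz
    rcases h.comm x hx y hy with h1 | h1
    · exfalso
      have h2 := hsq (x * y) (Q.mul_mem hx hy) hxy1 hxyz
      have h3 : x * y * (x * y) = (x * x) * (y * y) := by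
        calc x * y * (x * y) = x * (y * x) * y := by group
          _ = x * (x * y) * y := by rw [← h1]
          _ = _ := by group
      rw [h3, hsq x hx hx1 hxz, hsq y hy hy1 hyz, h.z_sq] at h2
      exact h.z_ne h2.symm
    · exact h1
  set v := orb w q with hv
  have m : ∀ i, v i ∈ Q := orb_mem w q hq
  have hprod : ∀ i j, i ≠ j → v i * v j ≠ 1 ∧ v i * v j ≠ z := by
    intro i j hij
    have e := hsq (v j) (m j) (b2 j).1 (b2 j).2
    constructor
    · intro h1
      apply (b3 i j hij).2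
      have : v i * v j * v j = v j := by rw [h1, one_mul]
      rw [mul_assoc, e] at this
      rw [← this, ← h.z_comm, mul_assoc, h.z_sq, mul_one]
    · intro h1
      apply (b3 i j hij).1
      have : v i * v j * v j = z * v j := by rw [h1]
      rw [mul_assoc, e, h.z_comm] at this
      exact mul_left_cancel this
  have a01 := hanti (v 0) (m 0) (v 1) (m 1) (b2 0).1 (b2 0).2 (b2 1).1 (b2 1).2
    (hprod 0 1 (by decide)).1 (hprod 0 1 (by decide)).2
  have a02 := hanti (v 0) (m 0) (v 2) (m 2) (b2 0).1 (b2 0).2 (b2 2).1 (b2 2).2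
    (hprod 0 2 (by decide)).1 (hprod 0 2 (by decide)).2
  have t012 := b4 0 1 2 (by decide) (by decide) (by decide)
  have a012 := hanti (v 0) (m 0) (v 1 * v 2) (Q.mul_mem (m 1) (m 2)) (b2 0).1 (b2 0).2
    (hprod 1 2 (by decide)).1 (hprod 1 2 (by decide)).2
    (by rw [← mul_assoc]; exact t012.1) (by rw [← mul_assoc]; exact t012.2)
  have : v 0 * (v 1 * v 2) = v 1 * v 2 * v 0 := by
    calc v 0 * (v 1 * v 2) = v 0 * v 1 * v 2 := by group
      _ = z * (v 1 * v 0) * v 2 := by rw [a01]
      _ = z * v 1 * (v 0 * v 2) := by group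
      _ = z * v 1 * (z * (v 2 * v 0)) := by rw [a02]
      _ = z * (v 1 * z) * (v 2 * v 0) := by group
      _ = z * (z * v 1) * (v 2 * v 0) := by rw [h.z_comm]
      _ = (z * z) * (v 1 * v 2 * v 0) := by group
      _ = _ := by rw [h.z_sq, one_mul]
  rw [this] at a012
  have h9 : 1 * (v 1 * v 2 * v 0) = z * (v 1 * v 2 * v 0) := by rw [one_mul]; exact a012
  exact h.z_ne (mul_right_cancel h9).symm

/-- existence of the five anticommuting involutions, permuted cyclically by `w` -/
theorem Hyp.exists_five {Q : Subgroup C} [Finite C] [Q.Normal] {z : C} (h : Hyp Q z)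
    (hcard : Nat.card Q = 32) (w : C) (hw5 : w ^ 5 = 1) (hw1 : w ≠ 1) :
    ∃ v : Fin 5 → C, Five Q z v ∧ (∀ i, v (i + 1) = w * v i * w⁻¹) ∧
      (∀ i, v i ≠ 1 ∧ v i ≠ z) ∧ (∀ i j, i ≠ j → v i ≠ v j ∧ v i ≠ z * v j) := by
  obtain ⟨q, hq, hqq, hqn⟩ := h.exists_invol hcard w hw5 hw1
  -- the main claim for an arbitrary noncentral involution
  have key : ∀ q ∈ Q, q * q = 1 → ¬ (q = 1 ∨ q = z) →
      ∀ i j, i ≠ j → orb w q i * orb w q j = z * (orb w q j * orb w q i) := by
    intro q hq hqq hqn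
    obtain ⟨b1, b2, b3, b4, b5⟩ := h.orbit hcard w hw5 hw1 (orb w q) (orb_mem w q hq)
      (by rw [orb_zero]; exact hqn) (orb_succ w q hw5)
    set v := orb w q with hv
    have m : ∀ i, v i ∈ Q := orb_mem w q hq
    have hs : ∀ i, v (i + 1) = w * v i * w⁻¹ := orb_succ w q hw5
    have hsq : ∀ i, v i * v i = 1 := by
      intro i
      show w ^ (i : ℕ) * q * (w ^ (i : ℕ))⁻¹ * (w ^ (i : ℕ) * q * (w ^ (i : ℕ))⁻¹) = 1
      have : w ^ (i : ℕ) * q * (w ^ (i : ℕ))⁻¹ * (w ^ (i : ℕ) * q * (w ^ (i : ℕ))⁻¹) =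
        w ^ (i : ℕ) * (q * q) * (w ^ (i : ℕ))⁻¹ := by group
      rw [this, hqq]; group
    -- `c a i j`: v i v j = z^a v j v i; shift invariance
    have shC : ∀ i j, v i * v j = v j * v i → v (i + 1) * v (j + 1) = v (j + 1) * v (i + 1) := by
      intro i j hij
      rw [hs, hs]
      calc w * v i * w⁻¹ * (w * v j * w⁻¹) = w * (v i * v j) * w⁻¹ := by group
        _ = w * (v j * v i) * w⁻¹ := by rw [hij]
        _ = _ := by group
    have shA : ∀ i j, v i * v j = z * (v j * v i) → v (i + 1) * v (j + 1) = z * (v (j + 1) * v (i + 1)) := by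
      intro i j hij
      rw [hs, hs]
      calc w * v i * w⁻¹ * (w * v j * w⁻¹) = w * (v i * v j) * w⁻¹ := by group
        _ = w * (z * (v j * v i)) * w⁻¹ := by rw [hij]
        _ = (w * z) * (v j * v i) * w⁻¹ := by group
        _ = (z * w) * (v j * v i) * w⁻¹ := by rw [h.z_comm]
        _ = _ := by group
    have symA : ∀ i j, v i * v j = z * (v j * v i) → v j * v i = z * (v i * v j) := by
      intro i j hij
      rw [hij, ← mul_assoc, h.z_sq, one_mul]
    -- squares of a product of four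
    have hp4 : (v 0 * v 1 * v 2 * v 3) * (v 0 * v 1 * v 2 * v 3) = 1 := by
      have e : v 0 * v 1 * v 2 * v 3 = v 4 ∨ v 0 * v 1 * v 2 * v 3 = z * v 4 := by
        rcases b1 with b | b
        · left
          calc v 0 * v 1 * v 2 * v 3 = (v 0 * v 1 * v 2 * v 3) * (v 4 * v 4) := by rw [hsq, mul_one]
            _ = (v 0 * v 1 * v 2 * v 3 * v 4) * v 4 := by group
            _ = v 4 := by rw [b, one_mul]
        · right
          calc v 0 * v 1 * v 2 * v 3 = (v 0 * v 1 * v 2 * v 3) * (v 4 * v 4) := by rw [hsq, mul_one]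
            _ = (v 0 * v 1 * v 2 * v 3 * v 4) * v 4 := by group
            _ = z * v 4 := by rw [b]
      rcases e with e | e
      · rw [e, hsq]
      · rw [e]
        calc z * v 4 * (z * v 4) = z * (v 4 * z) * v 4 := by group
          _ = z * (z * v 4) * v 4 := by rw [h.z_comm]
          _ = (z * z) * (v 4 * v 4) := by group
          _ = 1 := by rw [h.z_sq, hsq, one_mul]
    -- normal form for the square of a product of four
    have sq4 : ∀ e01 e02 e03 e12 e13 e23 : C, (∀ c, c * e01 = e01 * c) → (∀ c, c * e02 = e02 * c) →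
        (∀ c, c * e03 = e03 * c) → (∀ c, c * e12 = e12 * c) → (∀ c, c * e13 = e13 * c) →
        (∀ c, c * e23 = e23 * c) →
        v 1 * v 0 = e01 * (v 0 * v 1) → v 2 * v 0 = e02 * (v 0 * v 2) → v 3 * v 0 = e03 * (v 0 * v 3) →
        v 2 * v 1 = e12 * (v 1 * v 2) → v 3 * v 1 = e13 * (v 1 * v 3) → v 3 * v 2 = e23 * (v 2 * v 3) →
        (v 0 * v 1 * v 2 * v 3) * (v 0 * v 1 * v 2 * v 3) = e01 * e02 * e03 * e12 * e13 * e23 := by
      intro e01 e02 e03 e12 e13 e23 c01 c02 c03 c12 c13 c23 h01 h02 h03 h12 h13 h23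
      have s1 : v 1 * v 2 * v 3 * v 0 = e01 * e02 * e03 * (v 0 * (v 1 * v 2 * v 3)) := by
        calc v 1 * v 2 * v 3 * v 0 = v 1 * v 2 * (v 3 * v 0) := by group
          _ = v 1 * v 2 * (e03 * (v 0 * v 3)) := by rw [h03]
          _ = (v 1 * v 2 * e03) * v 0 * v 3 := by group
          _ = (e03 * (v 1 * v 2)) * v 0 * v 3 := by rw [c03]
          _ = e03 * v 1 * (v 2 * v 0) * v 3 := by group
          _ = e03 * v 1 * (e02 * (v 0 * v 2)) * v 3 := by rw [h02]
          _ = (e03 * v 1 * e02) * v 0 * v 2 * v 3 := by group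
          _ = (e02 * (e03 * v 1)) * v 0 * v 2 * v 3 := by rw [c02]
          _ = e02 * e03 * (v 1 * v 0) * v 2 * v 3 := by group
          _ = e02 * e03 * (e01 * (v 0 * v 1)) * v 2 * v 3 := by rw [h01]
          _ = (e02 * e03 * e01) * (v 0 * v 1 * v 2 * v 3) := by group
          _ = (e01 * (e02 * e03)) * (v 0 * v 1 * v 2 * v 3) := by rw [c01]
          _ = _ := by group
      have s2 : v 2 * v 3 * v 1 = e12 * e13 * (v 1 * (v 2 * v 3)) := by
        calc v 2 * v 3 * v 1 = v 2 * (v 3 * v 1) := by group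
          _ = v 2 * (e13 * (v 1 * v 3)) := by rw [h13]
          _ = (v 2 * e13) * v 1 * v 3 := by group
          _ = (e13 * v 2) * v 1 * v 3 := by rw [c13]
          _ = e13 * (v 2 * v 1) * v 3 := by group
          _ = e13 * (e12 * (v 1 * v 2)) * v 3 := by rw [h12]
          _ = (e13 * e12) * (v 1 * v 2 * v 3) := by group
          _ = (e12 * e13) * (v 1 * v 2 * v 3) := by rw [c12]
          _ = _ := by group
      calc (v 0 * v 1 * v 2 * v 3) * (v 0 * v 1 * v 2 * v 3)
          = v 0 * (v 1 * v 2 * v 3 * v 0) * (v 1 * v 2 * v 3) := by group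
        _ = v 0 * (e01 * e02 * e03 * (v 0 * (v 1 * v 2 * v 3))) * (v 1 * v 2 * v 3) := by rw [s1]
        _ = (v 0 * (e01 * e02 * e03)) * v 0 * ((v 1 * v 2 * v 3) * (v 1 * v 2 * v 3)) := by group
        _ = ((e01 * e02 * e03) * v 0) * v 0 * ((v 1 * v 2 * v 3) * (v 1 * v 2 * v 3)) := by
            congr 2
            calc v 0 * (e01 * e02 * e03) = (v 0 * e01) * e02 * e03 := by group
              _ = (e01 * v 0) * e02 * e03 := by rw [c01]
              _ = e01 * (v 0 * e02) * e03 := by group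
              _ = e01 * (e02 * v 0) * e03 := by rw [c02]
              _ = e01 * e02 * (v 0 * e03) := by group
              _ = e01 * e02 * (e03 * v 0) := by rw [c03]
              _ = _ := by group
        _ = (e01 * e02 * e03) * (v 0 * v 0) * ((v 1 * v 2 * v 3) * (v 1 * v 2 * v 3)) := by group
        _ = (e01 * e02 * e03) * ((v 1 * v 2 * v 3) * (v 1 * v 2 * v 3)) := by rw [hsq, mul_one]
        _ = (e01 * e02 * e03) * (v 1 * (v 2 * v 3 * v 1) * (v 2 * v 3)) := by group
        _ = (e01 * e02 * e03) * (v 1 * (e12 * e13 * (v 1 * (v 2 * v 3))) * (v 2 * v 3)) := by rw [s2]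
        _ = (e01 * e02 * e03) * ((v 1 * e12) * e13 * v 1 * ((v 2 * v 3) * (v 2 * v 3))) := by group
        _ = (e01 * e02 * e03) * ((e12 * v 1) * e13 * v 1 * ((v 2 * v 3) * (v 2 * v 3))) := by rw [c12]
        _ = (e01 * e02 * e03) * (e12 * (v 1 * e13) * v 1 * ((v 2 * v 3) * (v 2 * v 3))) := by group
        _ = (e01 * e02 * e03) * (e12 * (e13 * v 1) * v 1 * ((v 2 * v 3) * (v 2 * v 3))) := by rw [c13]
        _ = (e01 * e02 * e03) * (e12 * e13 * (v 1 * v 1) * ((v 2 * v 3) * (v 2 * v 3))) := by group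
        _ = (e01 * e02 * e03) * (e12 * e13 * (v 2 * (v 3 * v 2) * v 3)) := by rw [hsq, mul_one]; group
        _ = (e01 * e02 * e03) * (e12 * e13 * (v 2 * (e23 * (v 2 * v 3)) * v 3)) := by rw [h23]
        _ = (e01 * e02 * e03) * (e12 * e13 * ((v 2 * e23) * v 2 * (v 3 * v 3))) := by group
        _ = (e01 * e02 * e03) * (e12 * e13 * ((e23 * v 2) * v 2 * (v 3 * v 3))) := by rw [c23]
        _ = (e01 * e02 * e03) * (e12 * e13 * (e23 * (v 2 * v 2) * (v 3 * v 3))) := by group
        _ = _ := by rw [hsq, hsq]; group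
    have hz1 : ∀ c : C, c * 1 = 1 * c := fun c => by rw [mul_one, one_mul]
    rcases h.comm (v 0) (m 0) (v 1) (m 1) with c01 | c01 <;>
      rcases h.comm (v 0) (m 0) (v 2) (m 2) with c02 | c02
    · -- everything commutes: contradiction
      exfalso
      have c12 := shC 0 1 c01
      have c23 := shC 1 2 c12
      have c34 := shC 2 3 c23
      have c40 := shC 3 4 c34
      have c13 := shC 0 2 c02
      have c24 := shC 1 3 c13
      have c30 := shC 2 4 c24
      have hall : ∀ j, v 0 * v j = v j * v 0 := by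
        intro j
        fin_cases j
        · rfl
        · exact c01
        · exact c02
        · exact c30.symm
        · exact c40.symm
      have : v 0 = 1 ∨ v 0 = z := by
        apply h.cent
        intro q hq
        rcases b5 q hq with (h1 | h1) | ⟨i, h1 | h1⟩ | ⟨i, j, -, h1 | h1⟩
        · rw [h1, mul_one, one_mul]
        · rw [h1, h.z_comm]
        · rw [h1]; exact hall i
        · rw [h1, ← mul_assoc, h.z_comm, mul_assoc, hall i, ← mul_assoc]
        · rw [h1, ← mul_assoc, hall i, mul_assoc, hall j, ← mul_assoc]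
        · rw [h1]
          calc v 0 * (z * (v i * v j)) = (v 0 * z) * v i * v j := by group
            _ = (z * v 0) * v i * v j := by rw [h.z_comm]
            _ = z * (v 0 * v i) * v j := by group
            _ = z * (v i * v 0) * v j := by rw [hall i]
            _ = z * v i * (v 0 * v j) := by group
            _ = z * v i * (v j * v 0) := by rw [hall j]
            _ = _ := by group
      rcases this with h1 | h1
      · exact (b2 0).1 h1
      · exact (b2 0).2 h1
    · exfalso
      have c12 := shC 0 1 c01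
      have c23 := shC 1 2 c12
      have c13 := shA 0 2 c02
      have c24 := shA 1 3 c13
      have c30 := shA 2 4 c24
      have := sq4 1 z z 1 z 1 hz1 h.z_comm h.z_comm hz1 h.z_comm hz1
        (by rw [one_mul]; exact c01.symm) (symA _ _ c02) c30
        (by rw [one_mul]; exact c12.symm) (symA _ _ c13) (by rw [one_mul]; exact c23.symm)
      rw [hp4] at this
      have e : (1 : C) = z := by
        rw [this]
        calc (1 : C) * z * z * 1 * z * 1 = (z * z) * z := by group
          _ = z := by rw [h.z_sq, one_mul]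
      exact h.z_ne e.symm
    · exfalso
      have c12 := shA 0 1 c01
      have c23 := shA 1 2 c12
      have c13 := shC 0 2 c02
      have c24 := shC 1 3 c13
      have c30 := shC 2 4 c24
      have := sq4 z 1 1 z 1 z h.z_comm hz1 hz1 h.z_comm hz1 h.z_comm
        (symA _ _ c01) (by rw [one_mul]; exact c02.symm) (by rw [one_mul]; exact c30)
        (symA _ _ c12) (by rw [one_mul]; exact c13.symm) (symA _ _ c23)
      rw [hp4] at this
      have e : (1 : C) = z := by
        rw [this]
        calc z * (1 : C) * 1 * z * 1 * z = (z * z) * z := by group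
          _ = z := by rw [h.z_sq, one_mul]
      exact h.z_ne e.symm
    · have c12 := shA 0 1 c01
      have c23 := shA 1 2 c12
      have c34 := shA 2 3 c23
      have c40 := shA 3 4 c34
      have c13 := shA 0 2 c02
      have c24 := shA 1 3 c13
      have c30 := shA 2 4 c24
      have c41 := shA 3 0 c30
      intro i j hij
      fin_cases i <;> fin_cases j <;> first
        | exact absurd rfl hij
        | exact c01 | exact c02 | exact c30 | exact c40 | exact c12 | exact c13 | exact c41
        | exact c23 | exact c24 | exact c34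
        | exact symA _ _ c01 | exact symA _ _ c02 | exact symA _ _ c30 | exact symA _ _ c40
        | exact symA _ _ c12 | exact symA _ _ c13 | exact symA _ _ c41
        | exact symA _ _ c23 | exact symA _ _ c24 | exact symA _ _ c34
  -- normalise the product
  obtain ⟨b1, -, -, -, -⟩ := h.orbit hcard w hw5 hw1 (orb w q) (orb_mem w q hq)
      (by rw [orb_zero]; exact hqn) (orb_succ w q hw5)
  obtain ⟨q', hq', hqq', hqn', hpr⟩ : ∃ q' ∈ Q, q' * q' = 1 ∧ ¬ (q' = 1 ∨ q' = z) ∧
      orb w q' 0 * orb w q' 1 * orb w q' 2 * orb w q' 3 * orb w q' 4 = 1 := by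
    rcases b1 with b | b
    · exact ⟨q, hq, hqq, hqn, b⟩
    · refine ⟨z * q, Q.mul_mem h.z_mem hq, ?_, ?_, ?_⟩
      · calc z * q * (z * q) = z * (q * z) * q := by group
          _ = z * (z * q) * q := by rw [h.z_comm]
          _ = (z * z) * (q * q) := by group
          _ = 1 := by rw [h.z_sq, hqq, one_mul]
      · rintro (h1 | h1)
        · apply hqn; right
          calc q = (z * z) * q := by rw [h.z_sq, one_mul]
            _ = z * (z * q) := by group
            _ = z := by rw [h1, mul_one]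
        · apply hqn; left
          calc q = (z * z) * q := by rw [h.z_sq, one_mul]
            _ = z * (z * q) := by group
            _ = 1 := by rw [h1, h.z_sq]
      · have e : ∀ i, orb w (z * q) i = z * orb w q i := by
          intro i
          show w ^ (i : ℕ) * (z * q) * (w ^ (i : ℕ))⁻¹ = z * (w ^ (i : ℕ) * q * (w ^ (i : ℕ))⁻¹)
          calc w ^ (i : ℕ) * (z * q) * (w ^ (i : ℕ))⁻¹ = (w ^ (i : ℕ) * z) * q * (w ^ (i : ℕ))⁻¹ := by group
            _ = (z * w ^ (i : ℕ)) * q * (w ^ (i : ℕ))⁻¹ := by rw [h.z_comm]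
            _ = _ := by group
        rw [e, e, e, e, e]
        set a0 := orb w q 0
        set a1 := orb w q 1
        set a2 := orb w q 2
        set a3 := orb w q 3
        set a4 := orb w q 4
        calc z * a0 * (z * a1) * (z * a2) * (z * a3) * (z * a4)
            = z * (a0 * z) * a1 * z * a2 * z * a3 * z * a4 := by group
          _ = z * (z * a0) * a1 * z * a2 * z * a3 * z * a4 := by rw [h.z_comm a0]
          _ = (z * z) * (a0 * a1 * z) * a2 * z * a3 * z * a4 := by group
          _ = (z * z) * (z * (a0 * a1)) * a2 * z * a3 * z * a4 := by rw [h.z_comm (a0 * a1)]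
          _ = (z * z) * z * (a0 * a1 * a2 * z) * a3 * z * a4 := by group
          _ = (z * z) * z * (z * (a0 * a1 * a2)) * a3 * z * a4 := by rw [h.z_comm (a0 * a1 * a2)]
          _ = (z * z) * (z * z) * (a0 * a1 * a2 * a3 * z) * a4 := by group
          _ = (z * z) * (z * z) * (z * (a0 * a1 * a2 * a3)) * a4 := by rw [h.z_comm (a0 * a1 * a2 * a3)]
          _ = (z * z) * (z * z) * z * (a0 * a1 * a2 * a3 * a4) := by group
          _ = 1 := by rw [b, h.z_sq, one_mul, one_mul, h.z_sq]
  obtain ⟨-, d2, d3, -, d5⟩ := h.orbit hcard w hw5 hw1 (orb w q') (orb_mem w q' hq')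
      (by rw [orb_zero]; exact hqn') (orb_succ w q' hw5)
  refine ⟨orb w q', ⟨orb_mem w q' hq', ?_, key q' hq' hqq' hqn', hpr, d5⟩, orb_succ w q' hw5, d2, d3⟩
  intro i
  show w ^ (i : ℕ) * q' * (w ^ (i : ℕ))⁻¹ * (w ^ (i : ℕ) * q' * (w ^ (i : ℕ))⁻¹) = 1
  have : w ^ (i : ℕ) * q' * (w ^ (i : ℕ))⁻¹ * (w ^ (i : ℕ) * q' * (w ^ (i : ℕ))⁻¹) =
    w ^ (i : ℕ) * (q' * q') * (w ^ (i : ℕ))⁻¹ := by group
  rw [this, hqq']; group

end Cfsg.Agent.J2Type.QStruct
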