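import Mathlib
import Cfsg.Agent.J2Type.QStruct

/-!
# Signed permutation model

Model of a group `C` with a normal extraspecial subgroup `Q` of order 32, `C_C(Q) ≤ Q` and
`|C/Q| = 60` by signed permutations of five letters.
-/

set_option autoImplicit false

namespace Cfsg.Agent.J2Type.Model

open Cfsg.Agent.J2Type.QStruct

/-- Signed permutations of five letters: `⟨σ, s⟩` stands for `v i ↦ z ^ (s i) * v (σ i)`. -/
@[ext] structure SP where
  σ : Equiv.Perm (Fin 5)
  s : Fin 5 → ZMod 2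

instance instDecidableEqSP : DecidableEq SP := fun a b =>
  decidable_of_iff (a.σ = b.σ ∧ a.s = b.s) (by rw [SP.ext_iff])

instance instGroupSP : Group SP where
  mul g h := ⟨g.σ * h.σ, fun i => h.s i + g.s (h.σ i)⟩
  one := ⟨1, fun _ => 0⟩
  inv g := ⟨g.σ⁻¹, fun i => g.s (g.σ⁻¹ i)⟩
  mul_assoc a b c := by
    apply SP.ext
    · exact mul_assoc a.σ b.σ c.σ
    · funext i
      show c.s i + (b.s (c.σ i) + a.s (b.σ (c.σ i))) = (c.s i + b.s (c.σ i)) + a.s (b.σ (c.σ i))
      ring
  one_mul a := by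
    apply SP.ext
    · exact one_mul a.σ
    · funext i
      show a.s i + 0 = a.s i
      ring
  mul_one a := by
    apply SP.ext
    · exact mul_one a.σ
    · funext i
      show 0 + a.s i = a.s i
      ring
  inv_mul_cancel a := by
    apply SP.ext
    · exact inv_mul_cancel a.σ
    · funext i
      show a.s i + a.s (a.σ⁻¹ (a.σ i)) = 0
      rw [show a.σ⁻¹ (a.σ i) = i from a.σ.symm_apply_apply i]
      exact CharTwo.add_self_eq_zero _

theorem mul_σ (g h : SP) : (g * h).σ = g.σ * h.σ := rfl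
theorem mul_s (g h : SP) (i : Fin 5) : (g * h).s i = h.s i + g.s (h.σ i) := rfl
theorem one_σ : (1 : SP).σ = 1 := rfl
theorem one_s (i : Fin 5) : (1 : SP).s i = 0 := rfl
theorem inv_σ (g : SP) : (g⁻¹).σ = g.σ⁻¹ := rfl
theorem inv_s (g : SP) (i : Fin 5) : (g⁻¹).s i = g.s (g.σ⁻¹ i) := rfl

/-- `z ^ a` for `a : ZMod 2` -/
def zp {C : Type*} [Group C] (z : C) (a : ZMod 2) : C := if a = 0 then 1 else z

theorem zp_zero {C : Type*} [Group C] (z : C) : zp z 0 = 1 := if_pos rfl
theorem zp_one {C : Type*} [Group C] (z : C) : zp z 1 = z := if_neg (by decide)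

theorem zmod2_cases (a : ZMod 2) : a = 0 ∨ a = 1 := by
  revert a; decide

theorem zp_add {C : Type*} [Group C] (z : C) (hz : z * z = 1) (a b : ZMod 2) :
    zp z (a + b) = zp z a * zp z b := by
  rcases zmod2_cases a with rfl | rfl <;> rcases zmod2_cases b with rfl | rfl
  · rw [add_zero, zp_zero, one_mul]
  · rw [zero_add, zp_zero, one_mul]
  · rw [add_zero, zp_zero, mul_one]
  · rw [show (1 : ZMod 2) + 1 = 0 from rfl, zp_zero, zp_one, hz]

theorem zp_comm {C : Type*} [Group C] (z : C) (hz : ∀ c, c * z = z * c) (a : ZMod 2) (c : C) :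
    c * zp z a = zp z a * c := by
  rcases zmod2_cases a with rfl | rfl
  · rw [zp_zero, one_mul, mul_one]
  · rw [zp_one, hz]

theorem zp_self {C : Type*} [Group C] (z : C) (hz : z * z = 1) (a : ZMod 2) :
    zp z a * zp z a = 1 := by
  rw [← zp_add z hz, CharTwo.add_self_eq_zero, zp_zero]

theorem zp_mem {C : Type*} [Group C] (Q : Subgroup C) (z : C) (hz : z ∈ Q) (a : ZMod 2) :
    zp z a ∈ Q := by
  rcases zmod2_cases a with rfl | rfl
  · rw [zp_zero]; exact Q.one_mem
  · rw [zp_one]; exact hz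

/-- `(Q, z, v, ρ)` is a model of `C`. -/
structure IsModel {C : Type*} [Group C] (Q : Subgroup C) (z : C) (v : Fin 5 → C)
    (ρ : C →* SP) : Prop where
  z_ne : z ≠ 1
  z_sq : z * z = 1
  z_comm : ∀ c, c * z = z * c
  z_mem : z ∈ Q
  v_mem : ∀ i, v i ∈ Q
  v_sq : ∀ i, v i * v i = 1
  v_anti : ∀ i j, i ≠ j → v i * v j = z * (v j * v i)
  v_prod : v 0 * v 1 * v 2 * v 3 * v 4 = 1
  v_inj : ∀ a b i j, zp z a * v i = zp z b * v j → a = b ∧ i = j
  conj : ∀ c i, c * v i * c⁻¹ = zp z ((ρ c).s i) * v ((ρ c).σ i)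
  ker : ∀ c, ρ c = 1 ↔ c = 1 ∨ c = z
  range : ∀ g, (∃ c, ρ c = g) ↔ (Equiv.Perm.sign g.σ = 1 ∧ ∑ i, g.s i = 0)
  mem_Q : ∀ c, c ∈ Q ↔ (ρ c).σ = 1
  cover : ∀ q ∈ Q, (∃ a, q = zp z a) ∨ (∃ a i, q = zp z a * v i) ∨
    (∃ a i j, i < j ∧ q = zp z a * (v i * v j))

section build

variable {C : Type*} [Group C]

theorem conj_exists {Q : Subgroup C} [Q.Normal] {z : C} (h : Hyp Q z) {v : Fin 5 → C}
    (F : Five Q z v) (d2 : ∀ i, v i ≠ 1 ∧ v i ≠ z) (c : C) (i : Fin 5) :
    ∃ (a : ZMod 2) (j : Fin 5), c * v i * c⁻¹ = zp z a * v j := by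
  have hm : c * v i * c⁻¹ ∈ Q := Subgroup.Normal.conj_mem inferInstance _ (F.mem i) c
  have hs : (c * v i * c⁻¹) * (c * v i * c⁻¹) = 1 := by
    calc (c * v i * c⁻¹) * (c * v i * c⁻¹) = c * (v i * v i) * c⁻¹ := by group
      _ = 1 := by rw [F.sq]; group
  rcases F.cover _ hm with (h1 | h1) | ⟨j, h1 | h1⟩ | ⟨j, k, hjk, h1⟩
  · exfalso
    apply (d2 i).1
    have : v i = c⁻¹ * (c * v i * c⁻¹) * c := by group
    rw [this, h1]; group
  · exfalso
    apply (d2 i).2
    have : v i = c⁻¹ * (c * v i * c⁻¹) * c := by group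
    rw [this, h1, h.z_comm]; group
  · exact ⟨0, j, by rw [zp_zero, one_mul, h1]⟩
  · exact ⟨1, j, by rw [zp_one, h1]⟩
  · exfalso
    have hsq : (v j * v k) * (v j * v k) = z := by
      calc (v j * v k) * (v j * v k) = v j * (v k * v j) * v k := by group
        _ = v j * (z * (v j * v k)) * v k := by rw [F.anti k j hjk.ne']
        _ = (v j * z) * v j * (v k * v k) := by group
        _ = (z * v j) * v j * (v k * v k) := by rw [h.z_comm]
        _ = z * (v j * v j) * (v k * v k) := by group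
        _ = z := by rw [F.sq, F.sq, mul_one, mul_one]
    apply h.z_ne
    rcases h1 with h1 | h1
    · rw [h1, hsq] at hs; exact hs
    · rw [h1] at hs
      rw [← hs]
      calc z = z * z * (v j * v k * (v j * v k)) := by rw [hsq, h.z_sq, one_mul]
        _ = z * (z * (v j * v k)) * (v j * v k) := by group
        _ = z * ((v j * v k) * z) * (v j * v k) := by rw [h.z_comm]
        _ = _ := by group

theorem inj_v {Q : Subgroup C} {z : C} (h : Hyp Q z) {v : Fin 5 → C}
    (d3 : ∀ i j, i ≠ j → v i ≠ v j ∧ v i ≠ z * v j) (a b : ZMod 2) (i j : Fin 5)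
    (he : zp z a * v i = zp z b * v j) : a = b ∧ i = j := by
  have e2 : v i = zp z (a + b) * v j := by
    calc v i = (zp z a * zp z a) * v i := by rw [zp_self z h.z_sq, one_mul]
      _ = zp z a * (zp z a * v i) := by group
      _ = zp z a * (zp z b * v j) := by rw [he]
      _ = _ := by rw [zp_add z h.z_sq, mul_assoc]
  have hij : i = j := by
    by_contra hij
    rcases zmod2_cases (a + b) with h1 | h1
    · rw [h1, zp_zero, one_mul] at e2
      exact (d3 i j hij).1 e2
    · rw [h1, zp_one] at e2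
      exact (d3 i j hij).2 e2
  refine ⟨?_, hij⟩
  subst hij
  have e3 := mul_right_cancel he
  rcases zmod2_cases a with rfl | rfl <;> rcases zmod2_cases b with rfl | rfl
  · rfl
  · rw [zp_zero, zp_one] at e3; exact absurd e3.symm h.z_ne
  · rw [zp_zero, zp_one] at e3; exact absurd e3 h.z_ne
  · rfl

theorem exists_rho {Q : Subgroup C} [Q.Normal] {z : C} (h : Hyp Q z) {v : Fin 5 → C}
    (F : Five Q z v) (d2 : ∀ i, v i ≠ 1 ∧ v i ≠ z)
    (d3 : ∀ i j, i ≠ j → v i ≠ v j ∧ v i ≠ z * v j) :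
    ∃ ρ : C →* SP, ∀ c i, c * v i * c⁻¹ = zp z ((ρ c).s i) * v ((ρ c).σ i) := by
  choose A J hAJ using conj_exists h F d2
  have hJinj : ∀ c, Function.Injective (J c) := by
    intro c i k hik
    have e1 := hAJ c i
    have e2 := hAJ c k
    rw [← hik] at e2
    have e3 : v i = zp z (A c i + A c k) * v k := by
      calc v i = c⁻¹ * (c * v i * c⁻¹) * c := by group
        _ = c⁻¹ * (zp z (A c i) * v (J c i)) * c := by rw [e1]
        _ = c⁻¹ * (zp z (A c i + A c k) * (zp z (A c k) * v (J c i))) * c := by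
            congr 2
            rw [← mul_assoc, ← zp_add z h.z_sq, add_assoc, CharTwo.add_self_eq_zero, add_zero]
        _ = c⁻¹ * (zp z (A c i + A c k) * (c * v k * c⁻¹)) * c := by rw [e2]
        _ = (c⁻¹ * zp z (A c i + A c k)) * (c * v k) := by group
        _ = (zp z (A c i + A c k) * c⁻¹) * (c * v k) := by rw [zp_comm z h.z_comm]
        _ = _ := by group
    have := inj_v h d3 0 (A c i + A c k) i k (by rw [zp_zero, one_mul]; exact e3)
    exact this.2
  let P : C → SP := fun c => ⟨Equiv.ofBijective (J c) (Finite.injective_iff_bijective.1 (hJinj c)), A c⟩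
  refine ⟨MonoidHom.mk' P ?_, ?_⟩
  · intro c d
    have key : ∀ i, A (c * d) i = A d i + A c (J d i) ∧ J (c * d) i = J c (J d i) := by
      intro i
      apply inj_v h d3
      calc zp z (A (c * d) i) * v (J (c * d) i) = c * d * v i * (c * d)⁻¹ := (hAJ _ _).symm
        _ = c * (d * v i * d⁻¹) * c⁻¹ := by group
        _ = c * (zp z (A d i) * v (J d i)) * c⁻¹ := by rw [hAJ d i]
        _ = (c * zp z (A d i)) * v (J d i) * c⁻¹ := by group
        _ = (zp z (A d i) * c) * v (J d i) * c⁻¹ := by rw [zp_comm z h.z_comm]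
        _ = zp z (A d i) * (c * v (J d i) * c⁻¹) := by group
        _ = zp z (A d i) * (zp z (A c (J d i)) * v (J c (J d i))) := by rw [hAJ c (J d i)]
        _ = _ := by rw [zp_add z h.z_sq, mul_assoc]
    apply SP.ext
    · apply Equiv.ext
      intro i
      exact (key i).2
    · funext i
      exact (key i).1
  · intro c i
    exact hAJ c i

/-- product of the five involutions in a permuted order -/
theorem prod_perm {z : C} (hz : z * z = 1) (hc : ∀ c, c * z = z * c) (v : Fin 5 → C)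
    (hanti : ∀ i j, i ≠ j → v i * v j = z * (v j * v i)) (hprod : v 0 * v 1 * v 2 * v 3 * v 4 = 1)
    (σ : Equiv.Perm (Fin 5)) :
    v (σ 0) * v (σ 1) * v (σ 2) * v (σ 3) * v (σ 4) = zp z (if Equiv.Perm.sign σ = 1 then 0 else 1) := by
  have hf : ∀ σ : Equiv.Perm (Fin 5), (if Equiv.Perm.sign σ = 1 then (0 : ZMod 2) else 1) = 0 ∧ Equiv.Perm.sign σ = 1 ∨
      (if Equiv.Perm.sign σ = 1 then (0 : ZMod 2) else 1) = 1 ∧ Equiv.Perm.sign σ = -1 := by
    intro σ
    rcases Int.units_eq_one_or (Equiv.Perm.sign σ) with h1 | h1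
    · left; rw [if_pos h1]; exact ⟨rfl, h1⟩
    · right; rw [if_neg (by rw [h1]; decide)]; exact ⟨rfl, h1⟩
  -- step: an adjacent transposition on the right
  have step : ∀ (σ : Equiv.Perm (Fin 5)) (i j : Fin 5), i ≠ j →
      v (σ 0) * v (σ 1) * v (σ 2) * v (σ 3) * v (σ 4) = zp z (if Equiv.Perm.sign σ = 1 then 0 else 1) →
      v ((σ * Equiv.swap i j) 0) * v ((σ * Equiv.swap i j) 1) * v ((σ * Equiv.swap i j) 2) *
        v ((σ * Equiv.swap i j) 3) * v ((σ * Equiv.swap i j) 4) =
      z * (v (σ 0) * v (σ 1) * v (σ 2) * v (σ 3) * v (σ 4)) →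
      v ((σ * Equiv.swap i j) 0) * v ((σ * Equiv.swap i j) 1) * v ((σ * Equiv.swap i j) 2) *
        v ((σ * Equiv.swap i j) 3) * v ((σ * Equiv.swap i j) 4) =
      zp z (if Equiv.Perm.sign (σ * Equiv.swap i j) = 1 then 0 else 1) := by
    intro σ i j hij h1 h2
    rw [h2, h1]
    have h3 : Equiv.Perm.sign (σ * Equiv.swap i j) = - Equiv.Perm.sign σ := by
      rw [Equiv.Perm.sign_mul, Equiv.Perm.sign_swap hij, mul_neg, mul_one]
    rw [h3]
    rcases Int.units_eq_one_or (Equiv.Perm.sign σ) with h4 | h4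
    · rw [h4, if_pos rfl, if_neg (by decide), zp_zero, zp_one, mul_one]
    · rw [h4, if_neg (by decide), neg_neg, if_pos rfl, zp_zero, zp_one, hz]
  have hne : ∀ (σ : Equiv.Perm (Fin 5)) (i j : Fin 5), i ≠ j → σ i ≠ σ j := fun σ i j hij h => hij (σ.injective h)
  -- the three-letter rewriting
  have sw : ∀ (σ : Equiv.Perm (Fin 5)) (i j : Fin 5), i ≠ j → ∀ a b : C,
      a * v (σ j) * v (σ i) * b = z * (a * v (σ i) * v (σ j) * b) := by
    intro σ i j hij a b
    calc a * v (σ j) * v (σ i) * b = a * (v (σ j) * v (σ i)) * b := by group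
      _ = a * (z * (v (σ i) * v (σ j))) * b := by rw [hanti _ _ (hne σ j i hij.symm)]
      _ = (a * z) * (v (σ i) * v (σ j)) * b := by group
      _ = (z * a) * (v (σ i) * v (σ j)) * b := by rw [hc]
      _ = _ := by group
  have step01 : ∀ σ : Equiv.Perm (Fin 5), 
      v (σ 0) * v (σ 1) * v (σ 2) * v (σ 3) * v (σ 4) = zp z (if Equiv.Perm.sign σ = 1 then 0 else 1) →
      ∀ k : Fin 4, 
      v ((σ * Equiv.swap k.castSucc k.succ) 0) * v ((σ * Equiv.swap k.castSucc k.succ) 1) * v ((σ * Equiv.swap k.castSucc k.succ) 2) *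
        v ((σ * Equiv.swap k.castSucc k.succ) 3) * v ((σ * Equiv.swap k.castSucc k.succ) 4) =
      zp z (if Equiv.Perm.sign (σ * Equiv.swap k.castSucc k.succ) = 1 then 0 else 1) := by
    intro σ hσ k
    apply step σ k.castSucc k.succ (Fin.castSucc_lt_succ).ne hσ
    fin_cases k
    · show v (σ 1) * v (σ 0) * v (σ 2) * v (σ 3) * v (σ 4) = _
      have := sw σ 0 1 (by decide) 1 (v (σ 2) * v (σ 3) * v (σ 4))
      simp only [one_mul, mul_assoc] at this ⊢
      exact this
    · show v (σ 0) * v (σ 2) * v (σ 1) * v (σ 3) * v (σ 4) = _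
      have := sw σ 1 2 (by decide) (v (σ 0)) (v (σ 3) * v (σ 4))
      simp only [mul_assoc] at this ⊢
      exact this
    · show v (σ 0) * v (σ 1) * v (σ 3) * v (σ 2) * v (σ 4) = _
      have := sw σ 2 3 (by decide) (v (σ 0) * v (σ 1)) (v (σ 4))
      simp only [mul_assoc] at this ⊢
      exact this
    · show v (σ 0) * v (σ 1) * v (σ 2) * v (σ 4) * v (σ 3) = _
      have := sw σ 3 4 (by decide) (v (σ 0) * v (σ 1) * v (σ 2)) 1
      simp only [mul_assoc, mul_one] at this ⊢
      exact this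
  have hmem : σ ∈ Submonoid.closure (Set.range fun k : Fin 4 => Equiv.swap k.castSucc k.succ) := by
    rw [Equiv.Perm.mclosure_swap_castSucc_succ]; trivial
  induction hmem using Submonoid.closure_induction_right with
  | one =>
    rw [Equiv.Perm.sign_one, if_pos rfl, zp_zero]
    exact hprod
  | mul_right x hx y hy ih =>
    obtain ⟨k, rfl⟩ := hy
    exact step01 x ih k

/-- the signs of the element `zp z a * (v_S)` -/
theorem exists_sign {Q : Subgroup C} {z : C} (h : Hyp Q z) {v : Fin 5 → C}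
    (F : Five Q z v) (s : Fin 5 → ZMod 2) (hs : ∑ i, s i = 0) :
    ∃ q ∈ Q, ∀ i, q * v i * q⁻¹ = zp z (s i) * v i := by
  have hcases : (s = 0) ∨ (∃ j, s = fun i => if i = j then 0 else 1) ∨
      ∃ j k, j < k ∧ s = fun i => if i = j ∨ i = k then 1 else 0 := by
    revert s; decide
  have hinv : ∀ j, (v j)⁻¹ = v j := fun j => inv_eq_of_mul_eq_one_left (F.sq j)
  have h1 : ∀ j i, v j * v i * (v j)⁻¹ = zp z (if i = j then 0 else 1) * v i := by
    intro j i
    by_cases hij : i = j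
    · rw [if_pos hij, zp_zero, hij]; group
    · rw [if_neg hij, zp_one, F.anti j i (fun e => hij e.symm)]; group
  rcases hcases with rfl | ⟨j, rfl⟩ | ⟨j, k, hjk, rfl⟩
  · refine ⟨1, Q.one_mem, fun i => ?_⟩
    show 1 * v i * 1⁻¹ = zp z 0 * v i
    rw [zp_zero]; group
  · exact ⟨v j, F.mem j, h1 j⟩
  · refine ⟨v j * v k, Q.mul_mem (F.mem j) (F.mem k), fun i => ?_⟩
    show v j * v k * v i * (v j * v k)⁻¹ = zp z (if i = j ∨ i = k then 1 else 0) * v i
    calc v j * v k * v i * (v j * v k)⁻¹ = v j * (v k * v i * (v k)⁻¹) * (v j)⁻¹ := by group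
      _ = v j * (zp z (if i = k then 0 else 1) * v i) * (v j)⁻¹ := by rw [h1 k i]
      _ = (v j * zp z (if i = k then 0 else 1)) * v i * (v j)⁻¹ := by group
      _ = (zp z (if i = k then 0 else 1) * v j) * v i * (v j)⁻¹ := by rw [zp_comm z h.z_comm]
      _ = zp z (if i = k then 0 else 1) * (v j * v i * (v j)⁻¹) := by group
      _ = zp z (if i = k then 0 else 1) * (zp z (if i = j then 0 else 1) * v i) := by rw [h1 j i]
      _ = zp z ((if i = k then 0 else 1) + (if i = j then 0 else 1)) * v i := by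
          rw [← mul_assoc, zp_add z h.z_sq]
      _ = _ := by
          congr 2
          have hjk' : j ≠ k := hjk.ne
          by_cases hi : i = j
          · subst hi
            rw [if_neg hjk', if_pos rfl, if_pos (Or.inl rfl), add_zero]
          · by_cases hi2 : i = k
            · subst hi2
              rw [if_pos rfl, if_neg hi, if_pos (Or.inr rfl), zero_add]
            · rw [if_neg hi, if_neg hi2, if_neg (by push Not; exact ⟨hi, hi2⟩)]
              rfl

/-- The model. -/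
theorem isModel_of_hyp [Finite C] {Q : Subgroup C} [Q.Normal] {z : C} (h : Hyp Q z)
    (h60 : Nat.card (C ⧸ Q) = 60) {v : Fin 5 → C}
    (F : Five Q z v) (d2 : ∀ i, v i ≠ 1 ∧ v i ≠ z)
    (d3 : ∀ i j, i ≠ j → v i ≠ v j ∧ v i ≠ z * v j) :
    ∃ ρ : C →* SP, IsModel Q z v ρ := by
  obtain ⟨ρ, hρ⟩ := exists_rho h F d2 d3
  refine ⟨ρ, ?_⟩
  -- signs
  have hsum : ∀ c, ∑ i, (ρ c).s i = if Equiv.Perm.sign (ρ c).σ = 1 then 0 else 1 := by
    intro c
    have e1 : c * (v 0 * v 1 * v 2 * v 3 * v 4) * c⁻¹ = 1 := by rw [F.prod]; group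
    have e2 : c * (v 0 * v 1 * v 2 * v 3 * v 4) * c⁻¹ =
        (c * v 0 * c⁻¹) * (c * v 1 * c⁻¹) * (c * v 2 * c⁻¹) * (c * v 3 * c⁻¹) * (c * v 4 * c⁻¹) := by
      group
    have e3 : ∀ (a0 a1 a2 a3 a4 : ZMod 2) (b0 b1 b2 b3 b4 : C),
        (zp z a0 * b0) * (zp z a1 * b1) * (zp z a2 * b2) * (zp z a3 * b3) * (zp z a4 * b4) =
        zp z (a0 + a1 + a2 + a3 + a4) * (b0 * b1 * b2 * b3 * b4) := by
      intro a0 a1 a2 a3 a4 b0 b1 b2 b3 b4
      have key : ∀ (a : ZMod 2) (b : C) (a' : ZMod 2) (b' : C), (zp z a * b) * (zp z a' * b') =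
          zp z (a + a') * (b * b') := by
        intro a b a' b'
        calc (zp z a * b) * (zp z a' * b') = zp z a * (b * zp z a') * b' := by group
          _ = zp z a * (zp z a' * b) * b' := by rw [zp_comm z h.z_comm]
          _ = (zp z a * zp z a') * (b * b') := by group
          _ = _ := by rw [zp_add z h.z_sq]
      rw [key, key, key, key]
    rw [e2, hρ, hρ, hρ, hρ, hρ, e3, prod_perm h.z_sq h.z_comm v F.anti F.prod,
      ← zp_add z h.z_sq] at e1
    rw [Fin.sum_univ_five]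
    rcases zmod2_cases ((ρ c).s 0 + (ρ c).s 1 + (ρ c).s 2 + (ρ c).s 3 + (ρ c).s 4 +
        if Equiv.Perm.sign (ρ c).σ = 1 then 0 else 1) with h1 | h1
    · have h2 := congrArg (fun t => t + (if Equiv.Perm.sign (ρ c).σ = 1 then (0 : ZMod 2) else 1)) h1
      simp only [add_assoc, CharTwo.add_self_eq_zero, add_zero, zero_add] at h2 ⊢
      exact h2
    · rw [h1, zp_one] at e1
      exact absurd e1 h.z_ne
  -- the kernel
  have hgen : ∀ c : C, (∀ i, c * v i * c⁻¹ = v i) → c = 1 ∨ c = z := by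
    intro c hc
    have hc' : ∀ i, c * v i = v i * c := fun i => mul_inv_eq_iff_eq_mul.1 (hc i)
    have hzz : c * z = z * c := h.z_comm c
    apply h.cent
    intro q hq
    rcases F.cover q hq with (h1 | h1) | ⟨i, h1 | h1⟩ | ⟨i, j, -, h1 | h1⟩
    · rw [h1, mul_one, one_mul]
    · rw [h1, hzz]
    · rw [h1]; exact hc' i
    · rw [h1, ← mul_assoc, hzz, mul_assoc, hc' i, ← mul_assoc]
    · rw [h1, ← mul_assoc, hc' i, mul_assoc, hc' j, ← mul_assoc]
    · rw [h1]
      calc c * (z * (v i * v j)) = (c * z) * v i * v j := by group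
        _ = (z * c) * v i * v j := by rw [hzz]
        _ = z * (c * v i) * v j := by group
        _ = z * (v i * c) * v j := by rw [hc' i]
        _ = z * v i * (c * v j) := by group
        _ = z * v i * (v j * c) := by rw [hc' j]
        _ = _ := by group
  have hker : ∀ c, ρ c = 1 ↔ c = 1 ∨ c = z := by
    intro c
    constructor
    · intro hc
      apply hgen
      intro i
      rw [hρ, hc, one_σ, one_s, zp_zero, one_mul, Equiv.Perm.one_apply]
    · rintro (rfl | rfl)
      · exact map_one ρ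
      · apply SP.ext
        · apply Equiv.ext
          intro i
          have h1 : c * v i * c⁻¹ = v i := by
            rw [mul_inv_eq_iff_eq_mul]; exact (h.z_comm (v i)).symm
          rw [hρ] at h1
          have := inj_v h d3 ((ρ c).s i) 0 ((ρ c).σ i) i (by rw [zp_zero, one_mul]; exact h1)
          exact this.2
        · funext i
          have h1 : c * v i * c⁻¹ = v i := by
            rw [mul_inv_eq_iff_eq_mul]; exact (h.z_comm (v i)).symm
          rw [hρ] at h1
          have := inj_v h d3 ((ρ c).s i) 0 ((ρ c).σ i) i (by rw [zp_zero, one_mul]; exact h1)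
          exact this.1
  -- membership in Q
  have hρq : ∀ (q : C) (s : Fin 5 → ZMod 2), (∀ i, q * v i * q⁻¹ = zp z (s i) * v i) →
      ρ q = ⟨1, s⟩ := by
    intro q s hq
    have h1 : ∀ i, (ρ q).s i = s i ∧ (ρ q).σ i = i := by
      intro i
      apply inj_v h d3
      rw [← hρ, hq]
    apply SP.ext
    · apply Equiv.ext
      intro i
      exact (h1 i).2
    · funext i
      exact (h1 i).1
  have hmem1 : ∀ c, (ρ c).σ = 1 → c ∈ Q := by
    intro c hc
    have hs : ∑ i, (ρ c).s i = 0 := by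
      rw [hsum, hc, Equiv.Perm.sign_one, if_pos rfl]
    obtain ⟨q, hq, hqs⟩ := exists_sign h F (ρ c).s hs
    have h1 : ρ q = ρ c := by
      rw [hρq q _ hqs]
      apply SP.ext
      · exact hc.symm
      · rfl
    have h2 : ρ (q⁻¹ * c) = 1 := by rw [map_mul, map_inv, h1, inv_mul_cancel]
    have h3 : q⁻¹ * c ∈ Q := by
      rcases (hker _).1 h2 with h3 | h3
      · rw [h3]; exact Q.one_mem
      · rw [h3]; exact h.z_mem
    have h4 : c = q * (q⁻¹ * c) := by group
    rw [h4]
    exact Q.mul_mem hq h3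
  have hmem2 : ∀ c ∈ Q, (ρ c).σ = 1 := by
    intro c hc
    apply Equiv.ext
    intro i
    rw [Equiv.Perm.one_apply]
    rcases h.comm c hc (v i) (F.mem i) with h1 | h1
    · have h2 : c * v i * c⁻¹ = zp z 0 * v i := by rw [h1, zp_zero]; group
      rw [hρ] at h2
      exact (inj_v h d3 _ _ _ _ h2).2
    · have h2 : c * v i * c⁻¹ = zp z 1 * v i := by rw [h1, zp_one]; group
      rw [hρ] at h2
      exact (inj_v h d3 _ _ _ _ h2).2
  have hmemQ : ∀ c, c ∈ Q ↔ (ρ c).σ = 1 := fun c => ⟨hmem2 c, hmem1 c⟩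
  -- the permutation part
  let π : C →* Equiv.Perm (Fin 5) :=
    { toFun := fun c => (ρ c).σ
      map_one' := by rw [map_one]; rfl
      map_mul' := fun a b => by rw [map_mul]; rfl }
  have hπker : π.ker = Q := by
    ext c
    rw [MonoidHom.mem_ker]
    exact (hmemQ c).symm
  have hrange : Nat.card π.range = 60 := by
    rw [← h60, ← hπker]
    exact (Nat.card_congr (QuotientGroup.quotientKerEquivRange π).toEquiv).symm
  have hidx : π.range.index = 2 := by
    have h1 := Subgroup.card_mul_index π.range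
    rw [hrange, Nat.card_eq_fintype_card, Fintype.card_perm, Fintype.card_fin] at h1
    have h2 : Nat.factorial 5 = 120 := rfl
    omega
  have halt : π.range = alternatingGroup (Fin 5) := Equiv.Perm.eq_alternatingGroup_of_index_eq_two hidx
  have hsgn : ∀ c, Equiv.Perm.sign (ρ c).σ = 1 := by
    intro c
    have : π c ∈ alternatingGroup (Fin 5) := halt ▸ ⟨c, rfl⟩
    exact Equiv.Perm.mem_alternatingGroup.1 this
  refine ⟨h.z_ne, h.z_sq, h.z_comm, h.z_mem, F.mem, F.sq, F.anti, F.prod, inj_v h d3, hρ, hker,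
    ?_, hmemQ, ?_⟩
  · intro g
    constructor
    · rintro ⟨c, rfl⟩
      exact ⟨hsgn c, by rw [hsum, hsgn, if_pos rfl]⟩
    · rintro ⟨h1, h2⟩
      have h3 : g.σ ∈ π.range := by
        rw [halt]; exact Equiv.Perm.mem_alternatingGroup.2 h1
      obtain ⟨c, hc⟩ := h3
      have hc' : (ρ c).σ = g.σ := hc
      have hsc : ∑ i, (ρ c).s i = 0 := by rw [hsum, hsgn, if_pos rfl]
      have hs0 : ∑ j, (g.s (g.σ⁻¹ j) + (ρ c).s (g.σ⁻¹ j)) = 0 := by
        rw [Finset.sum_add_distrib, Equiv.sum_comp (g.σ⁻¹) g.s, Equiv.sum_comp (g.σ⁻¹) (ρ c).s, h2, hsc,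
          add_zero]
      obtain ⟨q, hq, hqs⟩ := exists_sign h F (fun j => g.s (g.σ⁻¹ j) + (ρ c).s (g.σ⁻¹ j)) hs0
      refine ⟨q * c, ?_⟩
      rw [map_mul, hρq q _ hqs]
      apply SP.ext
      · rw [mul_σ, hc', one_mul]
      · funext i
        rw [mul_s]
        show (ρ c).s i + (g.s (g.σ⁻¹ ((ρ c).σ i)) + (ρ c).s (g.σ⁻¹ ((ρ c).σ i))) = g.s i
        rw [hc', show g.σ⁻¹ (g.σ i) = i from g.σ.symm_apply_apply i, add_comm, add_assoc,
          CharTwo.add_self_eq_zero, add_zero]
  · intro q hq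
    rcases F.cover q hq with (h1 | h1) | ⟨i, h1 | h1⟩ | ⟨i, j, hij, h1 | h1⟩
    · left; exact ⟨0, by rw [zp_zero, h1]⟩
    · left; exact ⟨1, by rw [zp_one, h1]⟩
    · right; left; exact ⟨0, i, by rw [zp_zero, h1, one_mul]⟩
    · right; left; exact ⟨1, i, by rw [zp_one, h1]⟩
    · right; right; exact ⟨0, i, j, hij, by rw [zp_zero, h1, one_mul]⟩
    · right; right; exact ⟨1, i, j, hij, by rw [zp_one, h1]⟩

end build

end Cfsg.Agent.J2Type.Model
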