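import Mathlib
import Cfsg.Agent.J2Type.Model

/-!
# Computations in the group of signed permutations
-/

set_option autoImplicit false

namespace Cfsg.Agent.J2Type.SPFacts

open Cfsg.Agent.J2Type.Model

/-- the double transposition `(0 1)(2 3)` -/
def σ0 : Equiv.Perm (Fin 5) := Equiv.swap 0 1 * Equiv.swap 2 3
/-- the double transposition `(0 2)(1 3)` -/
def σ1 : Equiv.Perm (Fin 5) := Equiv.swap 0 2 * Equiv.swap 1 3
/-- the 3-cycle `(0 1 2)` -/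
def τ3 : Equiv.Perm (Fin 5) := Equiv.swap 0 1 * Equiv.swap 1 2
/-- the 5-cycle `(0 1 2 3 4)` -/
def τ5 : Equiv.Perm (Fin 5) := finRotate 5

def g0 : SP := ⟨σ0, fun _ => 0⟩
def g3 : SP := ⟨τ3, fun _ => 0⟩
def g5 : SP := ⟨τ5, fun _ => 0⟩
/-- image of `v 0 * v 1` -/
def t01 : SP := ⟨1, fun i => if i = 0 ∨ i = 1 then 1 else 0⟩

/-- the centraliser of an outer involution, modulo `z` -/
def B : Finset SP := ({1, σ0, σ1, σ0 * σ1} : Finset (Equiv.Perm (Fin 5))).biUnion fun σ =>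
  {⟨σ, fun _ => 0⟩, ⟨σ, fun i => if i = 4 then 0 else 1⟩}

def T3 : Finset SP := (Finset.univ : Finset (Fin 3 × ZMod 2 × ZMod 2)).image fun p =>
  ⟨τ3 ^ (p.1 : ℕ), fun i => if i = 3 then p.2.1 else if i = 4 then p.2.2 else p.2.1 + p.2.2⟩

def T5 : Finset SP := (Finset.univ : Finset (Fin 5)).image fun p : Fin 5 => ⟨τ5 ^ p.val, fun _ => 0⟩

theorem card_B : B.card = 8 := by decide +kernel
theorem card_T3 : T3.card = 12 := by decide +kernel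
theorem card_T5 : T5.card = 5 := by decide +kernel

theorem B_E : ∀ g ∈ B, Equiv.Perm.sign g.σ = 1 ∧ ∑ i, g.s i = 0 := by decide +kernel
theorem T3_E : ∀ g ∈ T3, Equiv.Perm.sign g.σ = 1 ∧ ∑ i, g.s i = 0 := by decide +kernel
theorem T5_E : ∀ g ∈ T5, Equiv.Perm.sign g.σ = 1 ∧ ∑ i, g.s i = 0 := by decide +kernel

theorem B_mul : ∀ g ∈ B, g0 * g ∈ B := by decide +kernel
theorem B_sq : ∀ g ∈ B, g * g = 1 := by decide +kernel
theorem B_one : ∀ g ∈ B, g.σ = 1 → g = 1 ∨ g = ⟨1, fun i => if i = 4 then 0 else 1⟩ := by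
  decide +kernel
theorem g0_mem_B : g0 ∈ B := by decide +kernel
theorem T3_comm : ∀ g ∈ T3, g * g3 = g3 * g := by decide +kernel
theorem T5_comm : ∀ g ∈ T5, g * g5 = g5 * g := by decide +kernel
theorem T3_sq : ∀ g ∈ T3, g * g = 1 → g.σ = 1 := by decide +kernel

theorem cent_g0_aux : ∀ σ : Equiv.Perm (Fin 5), Equiv.Perm.sign σ = 1 → σ * σ0 = σ0 * σ →
    ∀ s : Fin 5 → ZMod 2, ∑ i, s i = 0 → (∀ i, s (σ0 i) = s i) →
    (⟨σ, s⟩ : SP) ∈ B ∨ (⟨σ, s⟩ : SP) * t01 ∈ B := by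
  decide +kernel

theorem cent_g0 (g : SP) (h1 : Equiv.Perm.sign g.σ = 1) (h2 : ∑ i, g.s i = 0)
    (h : g * g0 = g0 * g) : g ∈ B ∨ g * t01 ∈ B := by
  apply cent_g0_aux g.σ h1 (congrArg SP.σ h) g.s h2
  intro i
  have := congrFun (congrArg SP.s h) i
  rw [mul_s, mul_s] at this
  show g.s (σ0 i) = g.s i
  have e : (0 : ZMod 2) + g.s (σ0 i) = g.s i + 0 := this
  rw [zero_add, add_zero] at e
  exact e

theorem cent_g3_aux : ∀ σ : Equiv.Perm (Fin 5), Equiv.Perm.sign σ = 1 → σ * τ3 = τ3 * σ →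
    ∀ s : Fin 5 → ZMod 2, ∑ i, s i = 0 → (∀ i, s (τ3 i) = s i) → (⟨σ, s⟩ : SP) ∈ T3 := by
  decide +kernel

theorem cent_g3 (g : SP) (h1 : Equiv.Perm.sign g.σ = 1) (h2 : ∑ i, g.s i = 0)
    (h : g * g3 = g3 * g) : g ∈ T3 := by
  apply cent_g3_aux g.σ h1 (congrArg SP.σ h) g.s h2
  intro i
  have := congrFun (congrArg SP.s h) i
  rw [mul_s, mul_s] at this
  have e : (0 : ZMod 2) + g.s (τ3 i) = g.s i + 0 := this
  rw [zero_add, add_zero] at e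
  exact e

theorem cent_g5_aux : ∀ σ : Equiv.Perm (Fin 5), Equiv.Perm.sign σ = 1 → σ * τ5 = τ5 * σ →
    ∀ s : Fin 5 → ZMod 2, ∑ i, s i = 0 → (∀ i, s (τ5 i) = s i) → (⟨σ, s⟩ : SP) ∈ T5 := by
  decide +kernel

theorem cent_g5 (g : SP) (h1 : Equiv.Perm.sign g.σ = 1) (h2 : ∑ i, g.s i = 0)
    (h : g * g5 = g5 * g) : g ∈ T5 := by
  apply cent_g5_aux g.σ h1 (congrArg SP.σ h) g.s h2
  intro i
  have := congrFun (congrArg SP.s h) i
  rw [mul_s, mul_s] at this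
  have e : (0 : ZMod 2) + g.s (τ5 i) = g.s i + 0 := this
  rw [zero_add, add_zero] at e
  exact e

/-- an element `h` with `h g h⁻¹ = g0` for each outer involution `g` -/
theorem conj_g0_aux1 : ∀ σ : Equiv.Perm (Fin 5), Equiv.Perm.sign σ = 1 → σ * σ = 1 → σ ≠ 1 →
    ∃ τ : Equiv.Perm (Fin 5), Equiv.Perm.sign τ = 1 ∧ τ * σ = σ0 * τ := by
  decide +kernel

theorem conj_g0_aux2 : ∀ s : Fin 5 → ZMod 2, ∑ i, s i = 0 → (∀ i, s i + s (σ0 i) = 0) →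
    ∃ r : Fin 5 → ZMod 2, ∑ i, r i = 0 ∧ ∀ i, s i + r (σ0 i) = r i := by
  decide +kernel

theorem conj_g0 (g : SP) (h1 : Equiv.Perm.sign g.σ = 1) (h2 : ∑ i, g.s i = 0)
    (h : g * g = 1) (hne : g.σ ≠ 1) :
    ∃ k : SP, (Equiv.Perm.sign k.σ = 1 ∧ ∑ i, k.s i = 0) ∧ k * g = g0 * k := by
  obtain ⟨τ, hτ1, hτ⟩ := conj_g0_aux1 g.σ h1 (congrArg SP.σ h) hne
  -- signs of the conjugate
  have hs : ∀ i, g.s (τ⁻¹ i) + g.s (τ⁻¹ (σ0 i)) = 0 := by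
    intro i
    have e := congrFun (congrArg SP.s h) (τ⁻¹ i)
    rw [mul_s, one_s] at e
    have e2 : τ (g.σ (τ⁻¹ i)) = σ0 i := by
      have := congrArg (fun p : Equiv.Perm (Fin 5) => p (τ⁻¹ i)) hτ
      simp only [Equiv.Perm.mul_apply] at this
      rw [this, show τ (τ⁻¹ i) = i from τ.apply_symm_apply i]
    have e3 : g.σ (τ⁻¹ i) = τ⁻¹ (σ0 i) := by
      rw [← e2]; exact (τ.symm_apply_apply _).symm
    rw [← e3]
    exact e
  have hsum : ∑ i, g.s (τ⁻¹ i) = 0 := by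
    rw [Equiv.sum_comp (τ⁻¹) g.s, h2]
  obtain ⟨r, hr1, hr2⟩ := conj_g0_aux2 (fun i => g.s (τ⁻¹ i)) hsum hs
  refine ⟨⟨τ, fun i => r (τ i)⟩, ⟨hτ1, ?_⟩, ?_⟩
  · show ∑ i, r (τ i) = 0
    rw [Equiv.sum_comp τ r, hr1]
  · apply SP.ext
    · exact hτ
    · funext i
      rw [mul_s, mul_s]
      show g.s i + r (τ (g.σ i)) = r (τ i) + 0
      have e2 : τ (g.σ i) = σ0 (τ i) := by
        have := congrArg (fun p : Equiv.Perm (Fin 5) => p i) hτ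
        simpa only [Equiv.Perm.mul_apply] using this
      rw [e2, add_zero, ← hr2 (τ i)]
      show g.s i + r (σ0 (τ i)) = g.s (τ⁻¹ (τ i)) + r (σ0 (τ i))
      rw [show τ⁻¹ (τ i) = i from τ.symm_apply_apply i]

/-- transitivity on signed letters -/
theorem trans_aux : ∀ i j : Fin 5, ∃ σ : Equiv.Perm (Fin 5), Equiv.Perm.sign σ = 1 ∧ σ i = j := by
  decide +kernel

theorem trans_aux2 : ∀ (i : Fin 5) (a : ZMod 2), ∃ s : Fin 5 → ZMod 2, ∑ i, s i = 0 ∧ s i = a := by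
  decide +kernel

/-- inverting `g3` and `g5` -/
def d3 : SP := ⟨Equiv.swap 0 1 * Equiv.swap 3 4, fun _ => 0⟩
def d5 : SP := ⟨Equiv.swap 1 4 * Equiv.swap 2 3, fun _ => 0⟩
theorem d3_E : Equiv.Perm.sign d3.σ = 1 ∧ ∑ i, d3.s i = 0 := by decide +kernel
theorem d5_E : Equiv.Perm.sign d5.σ = 1 ∧ ∑ i, d5.s i = 0 := by decide +kernel
theorem d3_inv : d3 * g3 * d3⁻¹ = g3⁻¹ := by decide +kernel
theorem d5_inv : d5 * g5 * d5⁻¹ = g5⁻¹ := by decide +kernel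
theorem g3_E : Equiv.Perm.sign g3.σ = 1 ∧ ∑ i, g3.s i = 0 := by decide +kernel
theorem g5_E : Equiv.Perm.sign g5.σ = 1 ∧ ∑ i, g5.s i = 0 := by decide +kernel
theorem g0_E : Equiv.Perm.sign g0.σ = 1 ∧ ∑ i, g0.s i = 0 := by decide +kernel
theorem g3_pow : g3 * g3 * g3 = 1 := by decide +kernel
theorem g5_pow : g5 * g5 * g5 * g5 * g5 = 1 := by decide +kernel
theorem g3_ne : g3 ≠ 1 := by decide +kernel
theorem g5_ne : g5 ≠ 1 := by decide +kernel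
theorem g0_sq : g0 * g0 = 1 := by decide +kernel
theorem g0_σ_ne : g0.σ ≠ 1 := by decide +kernel

end Cfsg.Agent.J2Type.SPFacts
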