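import Mathlib
import Cfsg.Agent.J2Type.SPFacts

/-!
# Structure of a group with a signed permutation model
-/

set_option autoImplicit false

namespace Cfsg.Agent.J2Type.CStruct

open Cfsg.Agent.J2Type.Model Cfsg.Agent.J2Type.SPFacts

/-- orbit-stabiliser for conjugation -/
theorem card_conj {C : Type*} [Group C] (x : C) :
    Nat.card {y : C // ∃ k : C, k * x * k⁻¹ = y} * Nat.card {k : C // k * x = x * k} = Nat.card C := by
  have e := Nat.card_congr (MulAction.orbitProdStabilizerEquivGroup (ConjAct C) x)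
  rw [Nat.card_prod] at e
  have e1 : Nat.card (MulAction.orbit (ConjAct C) x) = Nat.card {y : C // ∃ k : C, k * x * k⁻¹ = y} := by
    apply Nat.card_congr
    refine Equiv.subtypeEquivRight ?_
    intro y
    constructor
    · rintro ⟨k, hk⟩
      exact ⟨ConjAct.ofConjAct k, by rw [← hk]; rfl⟩
    · rintro ⟨k, hk⟩
      exact ⟨ConjAct.toConjAct k, by rw [← hk]; rfl⟩
  have e2 : Nat.card (MulAction.stabilizer (ConjAct C) x) = Nat.card {k : C // k * x = x * k} := by
    apply Nat.card_congr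
    refine (Equiv.subtypeEquiv ConjAct.ofConjAct.toEquiv ?_)
    intro k
    rw [MulAction.mem_stabilizer_iff, ConjAct.smul_def, mul_inv_eq_iff_eq_mul]
    rfl
  rw [← e1, ← e2, e]
  exact Nat.card_congr ConjAct.ofConjAct.toEquiv

variable {C : Type*} [Group C] {Q : Subgroup C} {z : C} {v : Fin 5 → C} {ρ : C →* SP}

theorem rho_z (M : IsModel Q z v ρ) : ρ z = 1 := (M.ker z).2 (Or.inr rfl)

theorem rho_zp (M : IsModel Q z v ρ) (a : ZMod 2) : ρ (zp z a) = 1 := by
  rcases zmod2_cases a with rfl | rfl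
  · rw [zp_zero, map_one]
  · rw [zp_one, rho_z M]

theorem eq_of_rho_eq (M : IsModel Q z v ρ) {x y : C} (h : ρ x = ρ y) : ∃ a, x = zp z a * y := by
  have h1 : ρ (x * y⁻¹) = 1 := by rw [map_mul, map_inv, h, mul_inv_cancel]
  rcases (M.ker _).1 h1 with h2 | h2
  · exact ⟨0, by rw [zp_zero, one_mul]; exact mul_inv_eq_one.1 h2⟩
  · exact ⟨1, by rw [zp_one]; exact mul_inv_eq_iff_eq_mul.1 h2⟩

theorem zp_inj (M : IsModel Q z v ρ) {a b : ZMod 2} (h : zp z a = zp z b) : a = b := by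
  rcases zmod2_cases a with rfl | rfl <;> rcases zmod2_cases b with rfl | rfl
  · rfl
  · rw [zp_zero, zp_one] at h; exact absurd h.symm M.z_ne
  · rw [zp_zero, zp_one] at h; exact absurd h M.z_ne
  · rfl

theorem zp_comm' (M : IsModel Q z v ρ) (a : ZMod 2) (c : C) : c * zp z a = zp z a * c :=
  zp_comm z M.z_comm a c

theorem zp_sq (M : IsModel Q z v ρ) (a : ZMod 2) : zp z a * zp z a = 1 := zp_self z M.z_sq a

/-- squares are insensitive to the centre -/
theorem sq_zp_mul (M : IsModel Q z v ρ) (a : ZMod 2) (x : C) :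
    (zp z a * x) * (zp z a * x) = x * x := by
  calc (zp z a * x) * (zp z a * x) = zp z a * (x * zp z a) * x := by group
    _ = zp z a * (zp z a * x) * x := by rw [zp_comm' M]
    _ = (zp z a * zp z a) * (x * x) := by group
    _ = x * x := by rw [zp_sq M, one_mul]

theorem comm_zp_mul (M : IsModel Q z v ρ) (a : ZMod 2) (x y : C) :
    (zp z a * x) * y = y * (zp z a * x) ↔ x * y = y * x := by
  have h1 : y * (zp z a * x) = zp z a * (y * x) := by
    rw [← mul_assoc, zp_comm' M, mul_assoc]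
  rw [h1, mul_assoc]
  exact mul_right_inj _

/-- preimages under `ρ` -/
theorem card_fiber (M : IsModel Q z v ρ) (T : Finset SP)
    (hT : ∀ g ∈ T, Equiv.Perm.sign g.σ = 1 ∧ ∑ i, g.s i = 0) :
    Nat.card {x : C // ρ x ∈ T} = 2 * T.card := by
  have hsec : ∀ g : T, ∃ c, ρ c = g.1 := fun g => (M.range g.1).2 (hT g.1 g.2)
  choose sec hsec using hsec
  let f : T × ZMod 2 → {x : C // ρ x ∈ T} := fun p =>
    ⟨zp z p.2 * sec p.1, by rw [map_mul, rho_zp M, one_mul, hsec]; exact p.1.2⟩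
  have hf : Function.Bijective f := by
    constructor
    · rintro ⟨g, a⟩ ⟨g', a'⟩ h
      have h1 : zp z a * sec g = zp z a' * sec g' := congrArg Subtype.val h
      have h2 := congrArg ρ h1
      rw [map_mul, map_mul, rho_zp M, rho_zp M, one_mul, one_mul, hsec, hsec] at h2
      have h3 : g = g' := Subtype.ext h2
      subst h3
      have h4 := zp_inj M (mul_right_cancel h1)
      rw [h4]
    · rintro ⟨x, hx⟩
      have h1 : ρ x = ρ (sec ⟨ρ x, hx⟩) := by rw [hsec]
      obtain ⟨a, ha⟩ := eq_of_rho_eq M h1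
      exact ⟨(⟨ρ x, hx⟩, a), Subtype.ext ha.symm⟩
  rw [← Nat.card_congr (Equiv.ofBijective f hf), Nat.card_prod, Nat.card_eq_fintype_card,
    Nat.card_eq_fintype_card, Fintype.card_coe, ZMod.card, mul_comm]

theorem rho_v (M : IsModel Q z v ρ) (i : Fin 5) : ρ (v i) = ⟨1, fun j => if j = i then 0 else 1⟩ := by
  have key : ∀ j, (ρ (v i)).s j = (if j = i then 0 else 1) ∧ (ρ (v i)).σ j = j := by
    intro j
    apply M.v_inj
    rw [← M.conj]
    by_cases hij : j = i
    · rw [if_pos hij, zp_zero, hij]; group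
    · rw [if_neg hij, zp_one, M.v_anti i j (fun e => hij e.symm)]; group
  apply SP.ext
  · apply Equiv.ext
    intro j
    exact (key j).2
  · funext j
    exact (key j).1

theorem rho_v01 (M : IsModel Q z v ρ) : ρ (v 0 * v 1) = t01 := by
  rw [map_mul, rho_v M, rho_v M]
  apply SP.ext
  · rfl
  · funext j
    rw [mul_s]
    show (if j = 1 then (0 : ZMod 2) else 1) + (if j = 0 then 0 else 1) = if j = 0 ∨ j = 1 then 1 else 0
    revert j; decide

/-- the square of a product of two of the `v i` -/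
theorem vv_sq (M : IsModel Q z v ρ) {i j : Fin 5} (hij : i ≠ j) : (v i * v j) * (v i * v j) = z := by
  calc (v i * v j) * (v i * v j) = v i * (v j * v i) * v j := by group
    _ = v i * (z * (v i * v j)) * v j := by rw [M.v_anti j i hij.symm]
    _ = (v i * z) * v i * (v j * v j) := by group
    _ = (z * v i) * v i * (v j * v j) := by rw [M.z_comm]
    _ = z * (v i * v i) * (v j * v j) := by group
    _ = z := by rw [M.v_sq, M.v_sq, mul_one, mul_one]

theorem v_ne_one (M : IsModel Q z v ρ) (i : Fin 5) (a : ZMod 2) : zp z a * v i ≠ 1 := by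
  intro h
  have h1 := congrArg ρ h
  rw [map_mul, rho_zp M, one_mul, rho_v M, map_one] at h1
  have h2 := congrFun (congrArg SP.s h1) (i + 1)
  rw [one_s] at h2
  simp at h2

/-- involutions of `Q` -/
theorem invol_Q (M : IsModel Q z v ρ) {x : C} (hx : x ∈ Q) (hxx : x * x = 1) (hx1 : x ≠ 1) :
    x = z ∨ ∃ a i, x = zp z a * v i := by
  rcases M.cover x hx with ⟨a, h1⟩ | h1 | ⟨a, i, j, hij, h1⟩
  · left
    rcases zmod2_cases a with rfl | rfl
    · rw [zp_zero] at h1; exact absurd h1 hx1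
    · rw [zp_one] at h1; exact h1
  · right; exact h1
  · exfalso
    rw [h1, sq_zp_mul M, vv_sq M hij.ne] at hxx
    exact M.z_ne hxx

theorem zv_sq (M : IsModel Q z v ρ) (a : ZMod 2) (i : Fin 5) : (zp z a * v i) * (zp z a * v i) = 1 := by
  rw [sq_zp_mul M, M.v_sq]

theorem zv_ne_z (M : IsModel Q z v ρ) (a : ZMod 2) (i : Fin 5) : zp z a * v i ≠ z := by
  intro h
  apply v_ne_one M i (1 + a)
  rw [zp_add z M.z_sq, mul_assoc, h, zp_one, M.z_sq]

theorem zv_mem (M : IsModel Q z v ρ) (a : ZMod 2) (i : Fin 5) : zp z a * v i ∈ Q :=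
  Q.mul_mem (zp_mem Q z M.z_mem a) (M.v_mem i)

/-- transitivity on noncentral involutions of `Q` -/
theorem trans_v (M : IsModel Q z v ρ) (a b : ZMod 2) (i j : Fin 5) :
    ∃ c, c * (zp z a * v i) * c⁻¹ = zp z b * v j := by
  obtain ⟨σ, hσ1, hσ2⟩ := trans_aux i j
  obtain ⟨s, hs1, hs2⟩ := trans_aux2 i (a + b)
  obtain ⟨c, hc⟩ := (M.range ⟨σ, s⟩).2 ⟨hσ1, hs1⟩
  refine ⟨c, ?_⟩
  calc c * (zp z a * v i) * c⁻¹ = (c * zp z a) * v i * c⁻¹ := by group
    _ = (zp z a * c) * v i * c⁻¹ := by rw [zp_comm' M]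
    _ = zp z a * (c * v i * c⁻¹) := by group
    _ = zp z a * (zp z (s i) * v (σ i)) := by rw [M.conj, hc]
    _ = zp z a * (zp z (a + b) * v j) := by rw [hσ2, hs2]
    _ = _ := by rw [← mul_assoc, ← zp_add z M.z_sq, ← add_assoc, CharTwo.add_self_eq_zero, zero_add]

theorem card_invol_Q (M : IsModel Q z v ρ) : Nat.card {x : C // x ∈ Q ∧ x * x = 1 ∧ x ≠ 1} = 11 := by
  let f : Option (ZMod 2 × Fin 5) → {x : C // x ∈ Q ∧ x * x = 1 ∧ x ≠ 1} := fun o =>
    match o with
    | none => ⟨z, M.z_mem, M.z_sq, M.z_ne⟩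
    | some p => ⟨zp z p.1 * v p.2, zv_mem M _ _, zv_sq M _ _, v_ne_one M _ _⟩
  have hf : Function.Bijective f := by
    constructor
    · rintro (_ | ⟨a, i⟩) (_ | ⟨b, j⟩) h
      · rfl
      · exact absurd (congrArg Subtype.val h).symm (zv_ne_z M b j)
      · exact absurd (congrArg Subtype.val h) (zv_ne_z M a i)
      · have h1 : zp z a * v i = zp z b * v j := congrArg Subtype.val h
        obtain ⟨h2, h3⟩ := M.v_inj _ _ _ _ h1
        rw [h2, h3]
    · rintro ⟨x, hx, hxx, hx1⟩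
      rcases invol_Q M hx hxx hx1 with h | ⟨a, i, h⟩
      · exact ⟨none, Subtype.ext h.symm⟩
      · exact ⟨some (a, i), Subtype.ext h.symm⟩
  rw [← Nat.card_congr (Equiv.ofBijective f hf), Nat.card_eq_fintype_card]
  rfl

theorem v_comm_iff (M : IsModel Q z v ρ) (i j : Fin 5) : v i * v j = v j * v i ↔ i = j := by
  constructor
  · intro h
    by_contra hij
    rw [M.v_anti i j hij] at h
    have : z * (v j * v i) = 1 * (v j * v i) := by rw [one_mul]; exact h
    exact M.z_ne (mul_right_cancel this)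
  · rintro rfl; rfl

theorem zv_comm_iff (M : IsModel Q z v ρ) (a b : ZMod 2) (i j : Fin 5) :
    (zp z a * v i) * (zp z b * v j) = (zp z b * v j) * (zp z a * v i) ↔ i = j := by
  rw [comm_zp_mul M, eq_comm, comm_zp_mul M, v_comm_iff M, eq_comm]

/-- two noncommuting involutions of `Q` -/
theorem sq_of_not_comm (M : IsModel Q z v ρ) {x y : C} (hx : x ∈ Q) (hxx : x * x = 1)
    (hy : y ∈ Q) (hyy : y * y = 1) (hne : x * y ≠ y * x) : (x * y) ^ 2 = z := by
  have hx1 : x ≠ 1 := by rintro rfl; exact hne (by rw [one_mul, mul_one])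
  have hy1 : y ≠ 1 := by rintro rfl; exact hne (by rw [one_mul, mul_one])
  rcases invol_Q M hx hxx hx1 with rfl | ⟨a, i, rfl⟩
  · exact absurd (M.z_comm y).symm hne
  rcases invol_Q M hy hyy hy1 with rfl | ⟨b, j, rfl⟩
  · exact absurd (M.z_comm _) hne
  have hij : i ≠ j := by
    intro h
    exact hne ((zv_comm_iff M a b i j).2 h)
  have : zp z a * v i * (zp z b * v j) = zp z (a + b) * (v i * v j) := by
    calc zp z a * v i * (zp z b * v j) = zp z a * (v i * zp z b) * v j := by group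
      _ = zp z a * (zp z b * v i) * v j := by rw [zp_comm' M]
      _ = (zp z a * zp z b) * (v i * v j) := by group
      _ = _ := by rw [zp_add z M.z_sq]
  rw [pow_two, this, sq_zp_mul M, vv_sq M hij]

theorem card_not_comm (M : IsModel Q z v ρ) {x : C} (hx : x ∈ Q) (hxx : x * x = 1)
    (hx1 : x ≠ 1) (hxz : x ≠ z) : Nat.card {y : C // y ∈ Q ∧ y * y = 1 ∧ x * y ≠ y * x} = 8 := by
  rcases invol_Q M hx hxx hx1 with rfl | ⟨a, i, rfl⟩
  · exact absurd rfl hxz
  let f : ZMod 2 × {j : Fin 5 // j ≠ i} → {y : C // y ∈ Q ∧ y * y = 1 ∧ (zp z a * v i) * y ≠ y * (zp z a * v i)} :=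
    fun p => ⟨zp z p.1 * v p.2.1, zv_mem M _ _, zv_sq M _ _, fun h =>
      p.2.2 ((zv_comm_iff M a p.1 i p.2.1).1 h).symm⟩
  have hf : Function.Bijective f := by
    constructor
    · rintro ⟨b, j⟩ ⟨b', j'⟩ h
      have h1 : zp z b * v j.1 = zp z b' * v j'.1 := congrArg Subtype.val h
      obtain ⟨h2, h3⟩ := M.v_inj _ _ _ _ h1
      rw [h2, Subtype.ext h3]
    · rintro ⟨y, hy, hyy, hne⟩
      have hy1 : y ≠ 1 := by rintro rfl; exact hne (by rw [one_mul, mul_one])
      rcases invol_Q M hy hyy hy1 with rfl | ⟨b, j, rfl⟩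
      · exact absurd (M.z_comm _) hne
      · have hij : j ≠ i := by
          intro h
          exact hne ((zv_comm_iff M a b i j).2 h.symm)
        exact ⟨(b, ⟨j, hij⟩), rfl⟩
  rw [← Nat.card_congr (Equiv.ofBijective f hf), Nat.card_prod, Nat.card_eq_fintype_card,
    Nat.card_eq_fintype_card, ZMod.card, Fintype.card_subtype_compl, Fintype.card_fin,
    Fintype.card_unique]

/-! ### Outer involutions -/

theorem rho_sq_of_sq {x : C} (h : x * x = 1) : ρ x * ρ x = 1 := by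
  rw [← map_mul, h, map_one]

/-- an element `x` with `ρ(x)² = 1` outside `Q` is conjugate, up to `z`, to any `x0` over `g0` -/
theorem conj_x0 (M : IsModel Q z v ρ) {x0 x : C} (h0 : ρ x0 = g0) (hx : ρ x * ρ x = 1)
    (hσ : (ρ x).σ ≠ 1) : ∃ k, k * x * k⁻¹ = x0 := by
  have hE := (M.range (ρ x)).1 ⟨x, rfl⟩
  obtain ⟨g, hg, hgx⟩ := conj_g0 (ρ x) hE.1 hE.2 hx hσ
  obtain ⟨k, hk⟩ := (M.range g).2 hg
  have h1 : ρ (k * x * k⁻¹) = ρ x0 := by
    rw [map_mul, map_mul, map_inv, hk, h0, hgx]; group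
  obtain ⟨a, ha⟩ := eq_of_rho_eq M h1
  rcases zmod2_cases a with rfl | rfl
  · exact ⟨k, by rw [ha, zp_zero, one_mul]⟩
  · -- correct by `v 0 * v 1`
    refine ⟨(v 0 * v 1) * k, ?_⟩
    have h2 : (v 0 * v 1) * k * x * ((v 0 * v 1) * k)⁻¹ = (v 0 * v 1) * (k * x * k⁻¹) * (v 0 * v 1)⁻¹ := by
      group
    rw [h2, ha, zp_one]
    -- x0 (v0 v1) x0⁻¹ = v1 v0
    have h3 : x0 * (v 0 * v 1) * x0⁻¹ = v 1 * v 0 := by
      calc x0 * (v 0 * v 1) * x0⁻¹ = (x0 * v 0 * x0⁻¹) * (x0 * v 1 * x0⁻¹) := by group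
        _ = _ := by
          rw [M.conj, M.conj, h0]
          show zp z 0 * v (σ0 0) * (zp z 0 * v (σ0 1)) = v 1 * v 0
          rw [zp_zero, one_mul, one_mul, show σ0 0 = 1 by decide, show σ0 1 = 0 by decide]
    have h4 : (v 0 * v 1) * (z * x0) * (v 0 * v 1)⁻¹ = x0 := by
      rw [mul_inv_eq_iff_eq_mul]
      have h5 : x0 * (v 0 * v 1) = (v 1 * v 0) * x0 := mul_inv_eq_iff_eq_mul.1 h3
      rw [h5]
      calc v 0 * v 1 * (z * x0) = (v 0 * v 1 * z) * x0 := by group
        _ = (z * (v 0 * v 1)) * x0 := by rw [M.z_comm]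
        _ = (v 1 * v 0) * x0 := by rw [← M.v_anti 1 0 (by decide)]
    exact h4

/-- if there is an involution outside `Q`, then every `x` with `ρ(x)² = 1` outside `Q` is an
involution -/
theorem sq_of_rho_sq (M : IsModel Q z v ρ) {u x : C} (hu : u * u = 1) (huQ : u ∉ Q)
    (hx : ρ x * ρ x = 1) (hσ : (ρ x).σ ≠ 1) : x * x = 1 := by
  obtain ⟨x0, h0⟩ := (M.range g0).2 g0_E
  obtain ⟨k, hk⟩ := conj_x0 M h0 (rho_sq_of_sq hu) (fun h => huQ ((M.mem_Q u).2 h))
  obtain ⟨k', hk'⟩ := conj_x0 M h0 hx hσ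
  have h1 : x0 * x0 = 1 := by
    rw [← hk]
    calc k * u * k⁻¹ * (k * u * k⁻¹) = k * (u * u) * k⁻¹ := by group
      _ = 1 := by rw [hu]; group
  have h2 : x = k'⁻¹ * x0 * k' := by rw [← hk']; group
  rw [h2]
  calc k'⁻¹ * x0 * k' * (k'⁻¹ * x0 * k') = k'⁻¹ * (x0 * x0) * k' := by group
    _ = 1 := by rw [h1]; group

/-- all involutions outside `Q` are conjugate -/
theorem outer_conj (M : IsModel Q z v ρ) {x y : C} (hx : x * x = 1) (hxQ : x ∉ Q)
    (hy : y * y = 1) (hyQ : y ∉ Q) : ∃ k, k * x * k⁻¹ = y := by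
  obtain ⟨x0, h0⟩ := (M.range g0).2 g0_E
  obtain ⟨k, hk⟩ := conj_x0 M h0 (rho_sq_of_sq hx) (fun h => hxQ ((M.mem_Q x).2 h))
  obtain ⟨k', hk'⟩ := conj_x0 M h0 (rho_sq_of_sq hy) (fun h => hyQ ((M.mem_Q y).2 h))
  refine ⟨k'⁻¹ * k, ?_⟩
  have h2 : y = k'⁻¹ * x0 * k' := by rw [← hk']; group
  rw [h2, ← hk]; group

/-- the centraliser of an outer involution over `g0` -/
theorem comm_x0_iff (M : IsModel Q z v ρ) {x0 : C} (h0 : ρ x0 = g0) (hsq : x0 * x0 = 1) (x : C) :
    x * x0 = x0 * x ↔ ρ x ∈ B := by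
  have hx0Q : x0 ∉ Q := by
    rw [M.mem_Q, h0]; exact g0_σ_ne
  have main : ∀ x, ρ x ∈ B → x * x0 = x0 * x ∧ x * x = 1 ∨ (ρ x).σ = 1 ∧ ρ x ∈ B := by
    intro x hx
    by_cases hσ : (ρ x).σ = 1
    · right; exact ⟨hσ, hx⟩
    · left
      have hxx : x * x = 1 := sq_of_rho_sq M hsq hx0Q (B_sq _ hx) hσ
      have hx0x : (x0 * x) * (x0 * x) = 1 := by
        by_cases hσ' : (ρ (x0 * x)).σ = 1
        · -- then x0 * x is in Q and over B
          have hB : ρ (x0 * x) ∈ B := by rw [map_mul, h0]; exact B_mul _ hx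
          rcases B_one _ hB hσ' with h1 | h1
          · rcases (M.ker _).1 h1 with h2 | h2
            · rw [h2, one_mul]
            · rw [h2, M.z_sq]
          · have h2 : ρ (x0 * x) = ρ (v 4) := by
              rw [h1, rho_v M]
            obtain ⟨a, ha⟩ := eq_of_rho_eq M h2
            rw [ha, zv_sq M]
        · apply sq_of_rho_sq M hsq hx0Q _ hσ'
          have hB : ρ (x0 * x) ∈ B := by rw [map_mul, h0]; exact B_mul _ hx
          exact B_sq _ hB
      refine ⟨?_, hxx⟩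
      have e1 : x⁻¹ = x := inv_eq_of_mul_eq_one_left hxx
      have e2 : x0⁻¹ = x0 := inv_eq_of_mul_eq_one_left hsq
      have e3 : (x0 * x)⁻¹ = x0 * x := inv_eq_of_mul_eq_one_left hx0x
      rw [← e3, mul_inv_rev, e1, e2]
  constructor
  · intro h
    have h1 : ρ x * g0 = g0 * ρ x := by rw [← h0, ← map_mul, h, map_mul]
    have hE := (M.range (ρ x)).1 ⟨x, rfl⟩
    rcases cent_g0 (ρ x) hE.1 hE.2 h1 with h2 | h2
    · exact h2
    · exfalso
      -- `x * (v 0 * v 1)` commutes with `x0`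
      have h3 : ρ (x * (v 0 * v 1)) ∈ B := by rw [map_mul, rho_v01 M]; exact h2
      have h4 : (x * (v 0 * v 1)) * x0 = x0 * (x * (v 0 * v 1)) := by
        rcases main _ h3 with h5 | ⟨hσ, -⟩
        · exact h5.1
        · rcases B_one _ h3 hσ with h6 | h6
          · rcases (M.ker _).1 h6 with h7 | h7
            · rw [h7, one_mul, mul_one]
            · rw [h7, M.z_comm]
          · have h7 : ρ (x * (v 0 * v 1)) = ρ (v 4) := by rw [h6, rho_v M]
            obtain ⟨a, ha⟩ := eq_of_rho_eq M h7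
            rw [ha, comm_zp_mul M]
            have h8 : x0 * v 4 * x0⁻¹ = v 4 := by
              rw [M.conj, h0]
              show zp z 0 * v (σ0 4) = v 4
              rw [zp_zero, one_mul, show σ0 4 = 4 by decide]
            exact (mul_inv_eq_iff_eq_mul.1 h8).symm
      have h5 : (v 0 * v 1) * x0 = x0 * (v 0 * v 1) := by
        have h6 : x * ((v 0 * v 1) * x0) = x * (x0 * (v 0 * v 1)) := by
          calc x * ((v 0 * v 1) * x0) = (x * (v 0 * v 1)) * x0 := by group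
            _ = x0 * (x * (v 0 * v 1)) := h4
            _ = (x0 * x) * (v 0 * v 1) := by group
            _ = (x * x0) * (v 0 * v 1) := by rw [h]
            _ = _ := by group
        exact mul_left_cancel h6
      have h3' : x0 * (v 0 * v 1) * x0⁻¹ = v 1 * v 0 := by
        calc x0 * (v 0 * v 1) * x0⁻¹ = (x0 * v 0 * x0⁻¹) * (x0 * v 1 * x0⁻¹) := by group
          _ = _ := by
            rw [M.conj, M.conj, h0]
            show zp z 0 * v (σ0 0) * (zp z 0 * v (σ0 1)) = v 1 * v 0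
            rw [zp_zero, one_mul, one_mul, show σ0 0 = 1 by decide, show σ0 1 = 0 by decide]
      rw [← h5] at h3'
      have h7 : v 0 * v 1 = v 1 * v 0 := by rw [← h3']; group
      exact absurd ((v_comm_iff M 0 1).1 h7) (by decide)
  · intro h
    rcases main x h with h5 | ⟨hσ, -⟩
    · exact h5.1
    · rcases B_one _ h hσ with h6 | h6
      · rcases (M.ker _).1 h6 with h7 | h7
        · rw [h7, one_mul, mul_one]
        · rw [h7, M.z_comm]
      · have h7 : ρ x = ρ (v 4) := by rw [h6, rho_v M]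
        obtain ⟨a, ha⟩ := eq_of_rho_eq M h7
        rw [ha, comm_zp_mul M]
        have h8 : x0 * v 4 * x0⁻¹ = v 4 := by
          rw [M.conj, h0]
          show zp z 0 * v (σ0 4) = v 4
          rw [zp_zero, one_mul, show σ0 4 = 4 by decide]
        exact (mul_inv_eq_iff_eq_mul.1 h8).symm

theorem card_cent_x0 (M : IsModel Q z v ρ) {x0 : C} (h0 : ρ x0 = g0) (hsq : x0 * x0 = 1) :
    Nat.card {x : C // x * x0 = x0 * x} = 16 := by
  have : Nat.card {x : C // x * x0 = x0 * x} = Nat.card {x : C // ρ x ∈ B} :=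
    Nat.card_congr (Equiv.subtypeEquivRight (fun x => comm_x0_iff M h0 hsq x))
  rw [this, card_fiber M B B_E, card_B]

theorem sq_cent_x0 (M : IsModel Q z v ρ) {x0 : C} (h0 : ρ x0 = g0) (hsq : x0 * x0 = 1) {x : C}
    (hx : x * x0 = x0 * x) : x * x = 1 := by
  have hB := (comm_x0_iff M h0 hsq x).1 hx
  have hx0Q : x0 ∉ Q := by
    rw [M.mem_Q, h0]; exact g0_σ_ne
  by_cases hσ : (ρ x).σ = 1
  · rcases B_one _ hB hσ with h6 | h6
    · rcases (M.ker _).1 h6 with h7 | h7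
      · rw [h7, one_mul]
      · rw [h7, M.z_sq]
    · have h7 : ρ x = ρ (v 4) := by rw [h6, rho_v M]
      obtain ⟨a, ha⟩ := eq_of_rho_eq M h7
      rw [ha, zv_sq M]
  · exact sq_of_rho_sq M hsq hx0Q (B_sq _ hB) hσ

/-- involutions of `Q` commuting with `x0` -/
theorem invol_Q_cent_x0 (M : IsModel Q z v ρ) {x0 : C} (h0 : ρ x0 = g0) (a : ZMod 2) (i : Fin 5) :
    (zp z a * v i) * x0 = x0 * (zp z a * v i) ↔ i = 4 := by
  rw [comm_zp_mul M, eq_comm]
  have h8 : x0 * v i * x0⁻¹ = v (σ0 i) := by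
    rw [M.conj, h0]
    show zp z 0 * v (σ0 i) = v (σ0 i)
    rw [zp_zero, one_mul]
  constructor
  · intro h
    have h9 : x0 * v i * x0⁻¹ = v i := by rw [h]; group
    rw [h8] at h9
    have h10 := (M.v_inj 0 0 (σ0 i) i (by rw [h9])).2
    have key : ∀ i : Fin 5, σ0 i = i → i = 4 := by decide
    exact key i h10
  · rintro rfl
    rw [show σ0 4 = 4 by decide] at h8
    exact mul_inv_eq_iff_eq_mul.1 h8

theorem card_U_x0 (M : IsModel Q z v ρ) {x0 : C} (h0 : ρ x0 = g0) :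
    Nat.card {x : C // x ∈ Q ∧ x * x = 1 ∧ x ≠ 1 ∧ x * x0 = x0 * x} = 3 := by
  let f : Option (ZMod 2) → {x : C // x ∈ Q ∧ x * x = 1 ∧ x ≠ 1 ∧ x * x0 = x0 * x} := fun o =>
    match o with
    | none => ⟨z, M.z_mem, M.z_sq, M.z_ne, (M.z_comm x0).symm⟩
    | some a => ⟨zp z a * v 4, zv_mem M _ _, zv_sq M _ _, v_ne_one M _ _, (invol_Q_cent_x0 M h0 a 4).2 rfl⟩
  have hf : Function.Bijective f := by
    constructor
    · rintro (_ | a) (_ | b) h
      · rfl
      · exact absurd (congrArg Subtype.val h).symm (zv_ne_z M b 4)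
      · exact absurd (congrArg Subtype.val h) (zv_ne_z M a 4)
      · have h1 : zp z a * v 4 = zp z b * v 4 := congrArg Subtype.val h
        obtain ⟨h2, h3⟩ := M.v_inj _ _ _ _ h1
        rw [h2]
    · rintro ⟨x, hx, hxx, hx1, hxc⟩
      rcases invol_Q M hx hxx hx1 with h | ⟨a, i, h⟩
      · exact ⟨none, Subtype.ext h.symm⟩
      · subst h
        have h2 := (invol_Q_cent_x0 M h0 a i).1 hxc
        subst h2
        exact ⟨some a, rfl⟩
  rw [← Nat.card_congr (Equiv.ofBijective f hf), Nat.card_eq_fintype_card]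
  rfl

/-- fourth power of the product of an involution of `Q` with a noncommuting outer one -/
theorem pow4_x0 (M : IsModel Q z v ρ) {x0 q : C} (h0 : ρ x0 = g0) (hsq : x0 * x0 = 1) (hq : q ∈ Q)
    (hqq : q * q = 1) (hne : q * x0 ≠ x0 * q) : (q * x0) ^ 4 = z := by
  have hq1 : q ≠ 1 := by rintro rfl; exact hne (by rw [one_mul, mul_one])
  rcases invol_Q M hq hqq hq1 with rfl | ⟨a, i, rfl⟩
  · exact absurd (M.z_comm _).symm hne
  have hi4 : i ≠ 4 := fun h => hne ((invol_Q_cent_x0 M h0 a i).2 h)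
  have h8 : x0 * v i * x0⁻¹ = v (σ0 i) := by
    rw [M.conj, h0]
    show zp z 0 * v (σ0 i) = v (σ0 i)
    rw [zp_zero, one_mul]
  have e2 : x0⁻¹ = x0 := inv_eq_of_mul_eq_one_left hsq
  rw [e2] at h8
  have hne' : i ≠ σ0 i := by
    intro h
    apply hi4
    have key : ∀ i : Fin 5, σ0 i = i → i = 4 := by decide
    exact key i h.symm
  have h9 : (zp z a * v i * x0) * (zp z a * v i * x0) = v i * v (σ0 i) := by
    calc (zp z a * v i * x0) * (zp z a * v i * x0)
        = (zp z a * (v i * x0)) * (zp z a * (v i * x0)) := by group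
      _ = (v i * x0) * (v i * x0) := sq_zp_mul M a _
      _ = v i * (x0 * v i * x0) := by group
      _ = _ := by rw [h8]
  have h10 : (zp z a * v i * x0) ^ 4 = ((zp z a * v i * x0) * (zp z a * v i * x0)) *
      ((zp z a * v i * x0) * (zp z a * v i * x0)) := by
    simp only [pow_succ, pow_zero, one_mul, mul_assoc]
  rw [h10, h9, vv_sq M hne']

/-! ### Transfer to arbitrary outer involutions -/

/-- `u` is conjugate to some `x0` over `g0`. -/
theorem exists_x0 (M : IsModel Q z v ρ) {u : C} (hu : u * u = 1) (huQ : u ∉ Q) :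
    ∃ k x0, ρ x0 = g0 ∧ x0 * x0 = 1 ∧ k * u * k⁻¹ = x0 := by
  obtain ⟨x0, h0⟩ := (M.range g0).2 g0_E
  obtain ⟨k, hk⟩ := conj_x0 M h0 (rho_sq_of_sq hu) (fun h => huQ ((M.mem_Q u).2 h))
  refine ⟨k, x0, h0, ?_, hk⟩
  rw [← hk]
  calc k * u * k⁻¹ * (k * u * k⁻¹) = k * (u * u) * k⁻¹ := by group
    _ = 1 := by rw [hu]; group

theorem conj_comm_iff (k u x : C) :
    (k * x * k⁻¹) * (k * u * k⁻¹) = (k * u * k⁻¹) * (k * x * k⁻¹) ↔ x * u = u * x := by
  have h1 : (k * x * k⁻¹) * (k * u * k⁻¹) = k * (x * u) * k⁻¹ := by group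
  have h2 : (k * u * k⁻¹) * (k * x * k⁻¹) = k * (u * x) * k⁻¹ := by group
  rw [h1, h2]
  constructor
  · intro h
    exact mul_left_cancel (mul_right_cancel h)
  · intro h; rw [h]

theorem conj_sq_iff (k x : C) : (k * x * k⁻¹) * (k * x * k⁻¹) = 1 ↔ x * x = 1 := by
  have h1 : (k * x * k⁻¹) * (k * x * k⁻¹) = k * (x * x) * k⁻¹ := by group
  rw [h1]
  constructor
  · intro h
    have : x * x = k⁻¹ * (k * (x * x) * k⁻¹) * k := by group
    rw [this, h]; group
  · intro h; rw [h]; group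

theorem card_cent_outer (M : IsModel Q z v ρ) {u : C} (hu : u * u = 1) (huQ : u ∉ Q) :
    Nat.card {x : C // x * u = u * x} = 16 := by
  obtain ⟨k, x0, h0, hsq, rfl⟩ := exists_x0 M hu huQ
  rw [← card_cent_x0 M h0 hsq]
  apply Nat.card_congr
  refine Equiv.subtypeEquiv (MulAut.conj k).toEquiv ?_
  intro x
  exact (conj_comm_iff k u x).symm

theorem sq_cent_outer (M : IsModel Q z v ρ) {u : C} (hu : u * u = 1) (huQ : u ∉ Q) {x : C}
    (hx : x * u = u * x) : x * x = 1 := by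
  obtain ⟨k, x0, h0, hsq, rfl⟩ := exists_x0 M hu huQ
  have := sq_cent_x0 M h0 hsq ((conj_comm_iff k u x).2 hx)
  exact (conj_sq_iff k x).1 this

theorem card_U_outer (M : IsModel Q z v ρ) [Q.Normal] {u : C} (hu : u * u = 1) (huQ : u ∉ Q) :
    Nat.card {x : C // x ∈ Q ∧ x * x = 1 ∧ x ≠ 1 ∧ x * u = u * x} = 3 := by
  obtain ⟨k, x0, h0, hsq, rfl⟩ := exists_x0 M hu huQ
  rw [← card_U_x0 M h0]
  apply Nat.card_congr
  refine Equiv.subtypeEquiv (MulAut.conj k).toEquiv ?_
  intro x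
  show _ ↔ (k * x * k⁻¹ ∈ Q ∧ (k * x * k⁻¹) * (k * x * k⁻¹) = 1 ∧ k * x * k⁻¹ ≠ 1 ∧
    (k * x * k⁻¹) * (k * u * k⁻¹) = (k * u * k⁻¹) * (k * x * k⁻¹))
  rw [conj_comm_iff, conj_sq_iff]
  have h1 : k * x * k⁻¹ ∈ Q ↔ x ∈ Q := (Subgroup.Normal.mem_comm_iff (inferInstance) (a := k * x) (b := k⁻¹)).trans (by rw [inv_mul_cancel_left])
  have h2 : k * x * k⁻¹ ≠ 1 ↔ x ≠ 1 := by
    rw [Ne, Ne, mul_inv_eq_one, mul_eq_left]
  rw [h1, h2]

theorem pow4_outer (M : IsModel Q z v ρ) [Q.Normal] {u q : C} (hu : u * u = 1) (huQ : u ∉ Q)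
    (hq : q ∈ Q) (hqq : q * q = 1) (hne : q * u ≠ u * q) : (q * u) ^ 4 = z := by
  obtain ⟨k, x0, h0, hsq, rfl⟩ := exists_x0 M hu huQ
  have h1 := pow4_x0 M h0 hsq (q := k * q * k⁻¹) (Subgroup.Normal.conj_mem inferInstance _ hq k)
    ((conj_sq_iff k q).2 hqq) (fun h => hne ((conj_comm_iff k u q).1 h))
  have h2 : k * q * k⁻¹ * (k * u * k⁻¹) = k * (q * u) * k⁻¹ := by group
  rw [h2, conj_pow] at h1
  have h3 : (q * u) ^ 4 = k⁻¹ * (k * (q * u) ^ 4 * k⁻¹) * k := by group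
  rw [h3, h1, mul_assoc, ← M.z_comm]
  group

theorem card_outer (M : IsModel Q z v ρ) (hcard : Nat.card C = 1920) [Q.Normal] {u : C} (hu : u * u = 1)
    (huQ : u ∉ Q) : Nat.card {x : C // x ∉ Q ∧ x * x = 1} = 120 := by
  have h1 : Nat.card {x : C // x ∉ Q ∧ x * x = 1} = Nat.card {y : C // ∃ k : C, k * u * k⁻¹ = y} := by
    apply Nat.card_congr
    refine Equiv.subtypeEquivRight ?_
    intro x
    constructor
    · rintro ⟨h1, h2⟩
      exact outer_conj M hu huQ h2 h1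
    · rintro ⟨k, rfl⟩
      refine ⟨?_, (conj_sq_iff k u).2 hu⟩
      intro h
      apply huQ
      have h3 : u = k⁻¹ * (k * u * k⁻¹) * k⁻¹⁻¹ := by group
      rw [h3]
      exact Subgroup.Normal.conj_mem inferInstance _ h _
  have h2 := card_conj u
  rw [card_cent_outer M hu huQ, ← h1, hcard] at h2
  omega

end Cfsg.Agent.J2Type.CStruct
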