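import Mathlib
import Cfsg.Agent.J2Type.CStruct

/-!
# Elements of order 3 and 5 in a group with a signed permutation model
-/

set_option autoImplicit false

namespace Cfsg.Agent.J2Type.COdd

open Cfsg.Agent.J2Type.Model Cfsg.Agent.J2Type.SPFacts Cfsg.Agent.J2Type.CStruct

variable {C : Type*} [Group C] {Q : Subgroup C} {z : C} {v : Fin 5 → C} {ρ : C →* SP}

/-- an element of odd order over a given element -/
theorem exists_odd_lift (M : IsModel Q z v ρ) {n : ℕ} (hn : Odd n) {g : SP}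
    (hg : Equiv.Perm.sign g.σ = 1 ∧ ∑ i, g.s i = 0) (hgn : g ^ n = 1) :
    ∃ c, ρ c = g ∧ c ^ n = 1 := by
  obtain ⟨c, hc⟩ := (M.range g).2 hg
  have h1 : ρ (c ^ n) = 1 := by rw [map_pow, hc, hgn]
  rcases (M.ker _).1 h1 with h2 | h2
  · exact ⟨c, hc, h2⟩
  · refine ⟨z * c, ?_, ?_⟩
    · rw [map_mul, rho_z M, one_mul, hc]
    · have h3 : Commute z c := (M.z_comm c).symm
      rw [h3.mul_pow, h2]
      obtain ⟨k, rfl⟩ := hn
      have h4 : z ^ (2 * k + 1) = z := by
        rw [pow_succ, pow_mul, pow_two, M.z_sq, one_pow, one_mul]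
      rw [h4, M.z_sq]

/-- for elements of odd order equality up to the centre is equality -/
theorem eq_of_odd (M : IsModel Q z v ρ) {n : ℕ} (hn : Odd n) {x y : C} (h : ρ x = ρ y)
    (hx : x ^ n = 1) (hy : y ^ n = 1) : x = y := by
  obtain ⟨a, ha⟩ := eq_of_rho_eq M h
  rcases zmod2_cases a with rfl | rfl
  · rw [ha, zp_zero, one_mul]
  · exfalso
    rw [zp_one] at ha
    have h3 : Commute z y := (M.z_comm y).symm
    rw [ha, h3.mul_pow, hy, mul_one] at hx
    obtain ⟨k, rfl⟩ := hn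
    have h4 : z ^ (2 * k + 1) = z := by
      rw [pow_succ, pow_mul, pow_two, M.z_sq, one_pow, one_mul]
    rw [h4] at hx
    exact M.z_ne hx

theorem comm_iff_odd (M : IsModel Q z v ρ) {n : ℕ} (hn : Odd n) {x y : C} (hy : y ^ n = 1) :
    x * y = y * x ↔ ρ x * ρ y = ρ y * ρ x := by
  constructor
  · intro h; rw [← map_mul, h, map_mul]
  · intro h
    have h1 : ρ (x * y * x⁻¹) = ρ y := by
      rw [map_mul, map_mul, map_inv, h]; group
    have h2 := eq_of_odd M hn h1 (by rw [conj_pow, hy]; group) hy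
    exact mul_inv_eq_iff_eq_mul.1 h2

theorem g3_pow3 : g3 ^ 3 = 1 := by
  rw [pow_succ, pow_two]; exact g3_pow

theorem g5_pow5 : g5 ^ 5 = 1 := by
  rw [pow_succ, pow_succ, pow_succ, pow_two]; exact g5_pow

/-- conjugacy of subgroups of prime order equal to the Sylow order -/
theorem exists_conj_pow {p : ℕ} [hp : Fact p.Prime] [Finite C] (hcard : Nat.card C = p * (Nat.card C / p))
    (hco : Nat.Coprime p (Nat.card C / p)) {x y : C} (hx : orderOf x = p) (hy : orderOf y = p) :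
    ∃ k : C, ∃ n : ℕ, k * x * k⁻¹ = y ^ n := by
  classical
  have hfac : (Nat.card C).factorization p = 1 := by
    rw [hcard, Nat.factorization_mul (by exact hp.out.ne_zero)
      (by
        intro h
        rw [h, mul_zero] at hcard
        exact Nat.card_pos.ne' hcard)]
    rw [Finsupp.add_apply, Nat.Prime.factorization_self hp.out,
      Nat.factorization_eq_zero_of_not_dvd, add_zero]
    intro h
    have := hco.symm
    rw [Nat.Coprime, Nat.gcd_eq_right h] at this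
    exact hp.out.one_lt.ne' this
  have hP : ∀ x : C, orderOf x = p → Nat.card (Subgroup.zpowers x) = p ^ (Nat.card C).factorization p := by
    intro x hx
    rw [Nat.card_zpowers, hx, hfac, pow_one]
  let P : Sylow p C := Sylow.ofCard (Subgroup.zpowers x) (hP x hx)
  let R : Sylow p C := Sylow.ofCard (Subgroup.zpowers y) (hP y hy)
  obtain ⟨k, hk⟩ := MulAction.exists_smul_eq C P R
  refine ⟨k, ?_⟩
  have h1 : k * x * k⁻¹ ∈ (R : Subgroup C) := by
    rw [← hk, Sylow.coe_subgroup_smul]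
    have hx' : x ∈ (P : Subgroup C) := Subgroup.mem_zpowers x
    exact Subgroup.smul_mem_pointwise_smul x (MulAut.conj k) _ hx'
  have h2 : k * x * k⁻¹ ∈ Subgroup.zpowers y := h1
  have h3 := (mem_zpowers_iff_mem_range_orderOf).1 h2
  rw [Finset.mem_image] at h3
  obtain ⟨n, -, hn⟩ := h3
  exact ⟨n, hn.symm⟩

/-- all elements of order 3 are conjugate to a given one over `g3` -/
theorem conj_three (M : IsModel Q z v ρ) [Finite C] (hcard : Nat.card C = 1920) {c c3 : C}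
    (hc : orderOf c = 3) (h3 : ρ c3 = g3) (h33 : c3 ^ 3 = 1) : ∃ k, k * c * k⁻¹ = c3 := by
  have hp : Fact (Nat.Prime 3) := ⟨by norm_num⟩
  have ho : orderOf c3 = 3 := by
    apply orderOf_eq_prime h33
    rintro rfl
    rw [map_one] at h3
    exact g3_ne h3.symm
  obtain ⟨k, n, hk⟩ := exists_conj_pow (p := 3) (by rw [hcard]) (by rw [hcard]; norm_num) hc ho
  have hn : c3 ^ n = c3 ^ (n % 3) := by rw [← ho, pow_mod_orderOf]
  have h4 : n % 3 = 0 ∨ n % 3 = 1 ∨ n % 3 = 2 := by omega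
  rcases h4 with h4 | h4 | h4
  · exfalso
    rw [hn, h4, pow_zero] at hk
    have : c = 1 := by
      have e : c = k⁻¹ * (k * c * k⁻¹) * k := by group
      rw [e, hk]; group
    rw [this, orderOf_one] at hc
    norm_num at hc
  · exact ⟨k, by rw [hk, hn, h4, pow_one]⟩
  · -- invert
    obtain ⟨d, hd⟩ := (M.range d3).2 d3_E
    have h5 : d * c3 * d⁻¹ = c3⁻¹ := by
      apply eq_of_odd M (n := 3) (by decide)
      · rw [map_mul, map_mul, map_inv, map_inv, hd, h3, d3_inv]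
      · rw [conj_pow, h33]; group
      · rw [inv_pow, h33, inv_one]
    refine ⟨d * k, ?_⟩
    have h6 : d * k * c * (d * k)⁻¹ = d * (k * c * k⁻¹) * d⁻¹ := by group
    rw [h6, hk, hn, h4]
    have h7 : d * c3 ^ 2 * d⁻¹ = (d * c3 * d⁻¹) ^ 2 := by rw [conj_pow]
    rw [h7, h5]
    have h8 : c3 = c3 ^ 3 * (c3⁻¹) ^ 2 := by group
    rw [h33, one_mul] at h8
    exact h8.symm

theorem three_conj (M : IsModel Q z v ρ) [Finite C] (hcard : Nat.card C = 1920) {c c' : C}
    (hc : orderOf c = 3) (hc' : orderOf c' = 3) : ∃ k, k * c * k⁻¹ = c' := by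
  obtain ⟨c3, h3, h33⟩ := exists_odd_lift M (n := 3) (by decide) g3_E g3_pow3
  obtain ⟨k, hk⟩ := conj_three M hcard hc h3 h33
  obtain ⟨k', hk'⟩ := conj_three M hcard hc' h3 h33
  refine ⟨k'⁻¹ * k, ?_⟩
  have h2 : c' = k'⁻¹ * c3 * k' := by rw [← hk']; group
  rw [h2, ← hk]; group

theorem card_cent_three (M : IsModel Q z v ρ) [Finite C] (hcard : Nat.card C = 1920) {c : C}
    (hc : orderOf c = 3) : Nat.card {x : C // x * c = c * x} = 24 := by
  obtain ⟨c3, h3, h33⟩ := exists_odd_lift M (n := 3) (by decide) g3_E g3_pow3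
  obtain ⟨k, hk⟩ := conj_three M hcard hc h3 h33
  have h1 : Nat.card {x : C // x * c = c * x} = Nat.card {x : C // x * c3 = c3 * x} := by
    rw [← hk]
    apply Nat.card_congr
    refine Equiv.subtypeEquiv (MulAut.conj k).toEquiv ?_
    intro x
    exact (conj_comm_iff k c x).symm
  have h2 : Nat.card {x : C // x * c3 = c3 * x} = Nat.card {x : C // ρ x ∈ T3} := by
    apply Nat.card_congr
    refine Equiv.subtypeEquivRight ?_
    intro x
    rw [comm_iff_odd M (n := 3) (by decide) h33, h3]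
    have hE := (M.range (ρ x)).1 ⟨x, rfl⟩
    exact ⟨fun h => cent_g3 _ hE.1 hE.2 h, fun h => T3_comm _ h⟩
  rw [h1, h2, card_fiber M T3 T3_E, card_T3]

/-- involutions commuting with an element of order 3 lie in `Q` -/
theorem mem_Q_of_comm_three (M : IsModel Q z v ρ) [Finite C] [Q.Normal] (hcard : Nat.card C = 1920)
    {c y : C} (hc : orderOf c = 3) (hy : y * y = 1) (h : y * c = c * y) : y ∈ Q := by
  obtain ⟨c3, h3, h33⟩ := exists_odd_lift M (n := 3) (by decide) g3_E g3_pow3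
  obtain ⟨k, hk⟩ := conj_three M hcard hc h3 h33
  have h1 : (k * y * k⁻¹) * c3 = c3 * (k * y * k⁻¹) := by
    rw [← hk]; exact (conj_comm_iff k c y).2 h
  rw [comm_iff_odd M (n := 3) (by decide) h33, h3] at h1
  have hE := (M.range (ρ (k * y * k⁻¹))).1 ⟨_, rfl⟩
  have h2 := cent_g3 _ hE.1 hE.2 h1
  have h4 := T3_sq _ h2 (rho_sq_of_sq ((conj_sq_iff k y).2 hy))
  have h5 : k * y * k⁻¹ ∈ Q := (M.mem_Q _).2 h4
  have h6 : y = k⁻¹ * (k * y * k⁻¹) * k⁻¹⁻¹ := by group
  rw [h6]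
  exact Subgroup.Normal.conj_mem inferInstance _ h5 _

/-- every element of order 5 is conjugate to `c5` or its square -/
theorem conj_five (M : IsModel Q z v ρ) [Finite C] (hcard : Nat.card C = 1920) {c c5 : C}
    (hc : orderOf c = 5) (h5 : ρ c5 = g5) (h55 : c5 ^ 5 = 1) :
    ∃ k, k * c * k⁻¹ = c5 ∨ k * c * k⁻¹ = c5 ^ 2 := by
  have hp : Fact (Nat.Prime 5) := ⟨by norm_num⟩
  have ho : orderOf c5 = 5 := by
    apply orderOf_eq_prime h55
    rintro rfl
    rw [map_one] at h5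
    exact g5_ne h5.symm
  obtain ⟨k, n, hk⟩ := exists_conj_pow (p := 5) (by rw [hcard]) (by rw [hcard]; norm_num) hc ho
  have hn : c5 ^ n = c5 ^ (n % 5) := by rw [← ho, pow_mod_orderOf]
  obtain ⟨d, hd⟩ := (M.range d5).2 d5_E
  have h6 : d * c5 * d⁻¹ = c5⁻¹ := by
    apply eq_of_odd M (n := 5) (by decide)
    · rw [map_mul, map_mul, map_inv, map_inv, hd, h5, d5_inv]
    · rw [conj_pow, h55]; group
    · rw [inv_pow, h55, inv_one]
  have h4 : n % 5 = 0 ∨ n % 5 = 1 ∨ n % 5 = 2 ∨ n % 5 = 3 ∨ n % 5 = 4 := by omega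
  rcases h4 with h4 | h4 | h4 | h4 | h4
  · exfalso
    rw [hn, h4, pow_zero] at hk
    have : c = 1 := by
      have e : c = k⁻¹ * (k * c * k⁻¹) * k := by group
      rw [e, hk]; group
    rw [this, orderOf_one] at hc
    norm_num at hc
  · exact ⟨k, Or.inl (by rw [hk, hn, h4, pow_one])⟩
  · exact ⟨k, Or.inr (by rw [hk, hn, h4])⟩
  · refine ⟨d * k, Or.inr ?_⟩
    have h7 : d * k * c * (d * k)⁻¹ = d * (k * c * k⁻¹) * d⁻¹ := by group
    rw [h7, hk, hn, h4, ← conj_pow, h6]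
    have h8 : c5 ^ 2 = c5 ^ 5 * (c5⁻¹) ^ 3 := by group
    rw [h55, one_mul] at h8
    exact h8.symm
  · refine ⟨d * k, Or.inl ?_⟩
    have h7 : d * k * c * (d * k)⁻¹ = d * (k * c * k⁻¹) * d⁻¹ := by group
    rw [h7, hk, hn, h4, ← conj_pow, h6]
    have h8 : c5 = c5 ^ 5 * (c5⁻¹) ^ 4 := by group
    rw [h55, one_mul] at h8
    exact h8.symm

theorem card_cent_g5 (M : IsModel Q z v ρ) {c5 : C} (h5 : ρ c5 = g5) (h55 : c5 ^ 5 = 1) :
    Nat.card {x : C // x * c5 = c5 * x} = 10 := by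
  have h2 : Nat.card {x : C // x * c5 = c5 * x} = Nat.card {x : C // ρ x ∈ T5} := by
    apply Nat.card_congr
    refine Equiv.subtypeEquivRight ?_
    intro x
    rw [comm_iff_odd M (n := 5) (by decide) h55, h5]
    have hE := (M.range (ρ x)).1 ⟨x, rfl⟩
    exact ⟨fun h => cent_g5 _ hE.1 hE.2 h, fun h => T5_comm _ h⟩
  rw [h2, card_fiber M T5 T5_E, card_T5]

theorem card_cent_five (M : IsModel Q z v ρ) [Finite C] (hcard : Nat.card C = 1920) {c : C}
    (hc : orderOf c = 5) : Nat.card {x : C // x * c = c * x} = 10 := by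
  obtain ⟨c5, h5, h55⟩ := exists_odd_lift M (n := 5) (by decide) g5_E g5_pow5
  obtain ⟨k, hk⟩ := conj_five M hcard hc h5 h55
  have h0 : Nat.card {x : C // x * c = c * x} = Nat.card {x : C // x * (k * c * k⁻¹) = (k * c * k⁻¹) * x} := by
    apply Nat.card_congr
    refine Equiv.subtypeEquiv (MulAut.conj k).toEquiv ?_
    intro x
    exact (conj_comm_iff k c x).symm
  rw [h0]
  rcases hk with hk | hk
  · rw [hk]; exact card_cent_g5 M h5 h55
  · rw [hk, ← card_cent_g5 M h5 h55]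
    apply Nat.card_congr
    refine Equiv.subtypeEquivRight ?_
    intro x
    constructor
    · intro h
      have h1 : Commute x (c5 ^ 2) := h
      have h2 : Commute x ((c5 ^ 2) ^ 3) := h1.pow_right 3
      have h3 : (c5 ^ 2) ^ 3 = c5 := by
        rw [← pow_mul, show 2 * 3 = 5 + 1 by norm_num, pow_succ, h55, one_mul]
      rw [h3] at h2
      exact h2
    · intro h
      have h1 : Commute x c5 := h
      exact (h1.pow_right 2).eq

theorem five_conj (M : IsModel Q z v ρ) [Finite C] (hcard : Nat.card C = 1920) {c c' : C}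
    (hc : orderOf c = 5) (hc' : orderOf c' = 5) : ∃ k, k * c * k⁻¹ = c' ∨ k * c * k⁻¹ = c' ^ 2 := by
  obtain ⟨c5, h5, h55⟩ := exists_odd_lift M (n := 5) (by decide) g5_E g5_pow5
  obtain ⟨k, hk⟩ := conj_five M hcard hc h5 h55
  obtain ⟨k', hk'⟩ := conj_five M hcard hc' h5 h55
  obtain ⟨d, hd⟩ := (M.range d5).2 d5_E
  have h6 : d * c5 * d⁻¹ = c5⁻¹ := by
    apply eq_of_odd M (n := 5) (by decide)
    · rw [map_mul, map_mul, map_inv, map_inv, hd, h5, d5_inv]
    · rw [conj_pow, h55]; group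
    · rw [inv_pow, h55, inv_one]
  have e : ∀ a b : C, a * c * a⁻¹ = b → (k'⁻¹ * a) * c * (k'⁻¹ * a)⁻¹ = k'⁻¹ * b * k'⁻¹⁻¹ := by
    intro a b hab
    rw [← hab]; group
  rcases hk' with hk' | hk'
  · have h2 : k'⁻¹ * c5 * k'⁻¹⁻¹ = c' := by rw [← hk']; group
    rcases hk with hk | hk
    · exact ⟨k'⁻¹ * k, Or.inl (by rw [e k _ hk, h2])⟩
    · exact ⟨k'⁻¹ * k, Or.inr (by rw [e k _ hk, ← conj_pow, h2])⟩
  · have h2 : k'⁻¹ * c5 ^ 2 * k'⁻¹⁻¹ = c' := by rw [← hk']; group
    rcases hk with hk | hk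
    · -- c ~ c5, c' ~ c5^2; c'^2 ~ c5^4 = c5⁻¹ ~ c5
      refine ⟨k'⁻¹ * (d * k), Or.inr ?_⟩
      have h7 : d * k * c * (d * k)⁻¹ = d * (k * c * k⁻¹) * d⁻¹ := by group
      rw [e (d * k) _ h7, hk, h6, ← h2, conj_pow]
      congr 2
      have h8 : c5⁻¹ = c5⁻¹ * c5 ^ 5 := by rw [h55, mul_one]
      rw [h8]; group
    · exact ⟨k'⁻¹ * k, Or.inl (by rw [e k _ hk, h2])⟩

end Cfsg.Agent.J2Type.COdd
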