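import Mathlib
import Cfsg.Prelude.Def_Transfer
import Cfsg.Agent.J2Type.Base
import Cfsg.Agent.J2Type.ModelExists
import Cfsg.Agent.J2Type.COdd

/-!
# Fusion of involutions in groups of Hall–Janko type
-/

set_option autoImplicit false

namespace Cfsg.Agent.J2Type.Fusion

open Cfsg.Agent.J2Type.Model Cfsg.Agent.J2Type.ModelExists Cfsg.Agent.J2Type.CStruct
  Cfsg.Agent.J2Type.COdd Cfsg.Agent.J2Type.Base

theorem card_transfer {G : Type*} [Group G] (H : Subgroup G) (P : G → Prop) (R : H → Prop)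
    (h1 : ∀ x, P x → x ∈ H) (h2 : ∀ x : H, R x ↔ P x) :
    Nat.card {x : G // P x} = Nat.card {x : H // R x} := by
  apply Nat.card_congr
  exact
    { toFun := fun x => ⟨⟨x.1, h1 x.1 x.2⟩, (h2 _).2 x.2⟩
      invFun := fun x => ⟨x.1.1, (h2 _).1 x.2⟩
      left_inv := fun _ => rfl
      right_inv := fun _ => rfl }

/-- an element commuting with all `v i` is central -/
theorem eq_of_comm_v {C : Type*} [Group C] {Q : Subgroup C} {z : C} {v : Fin 5 → C} {ρ : C →* SP}
    (M : IsModel Q z v ρ) {c : C} (h : ∀ i, c * v i = v i * c) : c = 1 ∨ c = z := by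
  apply (M.ker c).1
  have key : ∀ i, (ρ c).s i = 0 ∧ (ρ c).σ i = i := by
    intro i
    apply M.v_inj
    rw [← M.conj, h i, zp_zero]; group
  apply SP.ext
  · apply Equiv.ext
    intro i
    exact (key i).2
  · funext i
    exact (key i).1

variable {G : Type*} [Group G]

theorem orderOf_two_iff (x : G) : orderOf x = 2 ↔ x * x = 1 ∧ x ≠ 1 := by
  rw [orderOf_eq_prime_iff, pow_two]

/-- Sylow 2-subgroups over `Q` lie in the centralizer of `z`. -/
theorem exists_conj_comm [Finite G] (z : G) (Q : Subgroup (Subgroup.centralizer ({z} : Set G)))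
    (hz : z ≠ 1)
    (hQ2 : IsPGroup 2 Q)
    (hcent : ∀ c : Subgroup.centralizer ({z} : Set G), (∀ q ∈ Q, c * q = q * c) → c = 1 ∨ (c : G) = z)
    (hzQ : ∃ q ∈ Q, (q : G) = z)
    (x : G) (hx : x * x = 1) : ∃ g, (g * x * g⁻¹) * z = z * (g * x * g⁻¹) := by
  let QG : Subgroup G := Q.map (Subgroup.centralizer ({z} : Set G)).subtype
  have hQG : IsPGroup 2 QG := hQ2.map _
  obtain ⟨S, hS⟩ := hQG.exists_le_sylow
  have hzQG : z ∈ QG := by
    obtain ⟨q, hq, hqz⟩ := hzQ
    exact ⟨q, hq, hqz⟩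
  have hp : Fact (Nat.Prime 2) := ⟨Nat.prime_two⟩
  have hne : Nontrivial S := ⟨⟨⟨z, hS hzQG⟩, 1, fun h => hz (congrArg Subtype.val h)⟩⟩
  obtain ⟨w, hw⟩ := (Subgroup.nontrivial_iff_exists_ne_one _).1 (S.isPGroup'.center_nontrivial)
  have hwc : ∀ y ∈ (S : Subgroup G), (w : G) * y = y * (w : G) := by
    intro y hy
    have := (Subgroup.mem_center_iff.1 hw.1) ⟨y, hy⟩
    exact (congrArg Subtype.val this).symm
  have hwC : (w : G) ∈ Subgroup.centralizer ({z} : Set G) := by
    rw [Subgroup.mem_centralizer_singleton_iff]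
    exact hwc z (hS hzQG)
  have hwz : (w : G) = z := by
    rcases hcent ⟨(w : G), hwC⟩ (fun q hq => Subtype.ext (hwc q (hS ⟨q, hq, rfl⟩))) with h | h
    · exfalso
      apply hw.2
      exact Subtype.ext (show (w : G) = 1 from congrArg Subtype.val h)
    · exact h
  have hx2 : IsPGroup 2 (Subgroup.zpowers x) := by
    rw [IsPGroup.iff_card]
    by_cases h1 : x = 1
    · exact ⟨0, by rw [h1]; simp⟩
    · refine ⟨1, ?_⟩
      rw [Nat.card_zpowers, (orderOf_two_iff x).2 ⟨hx, h1⟩, pow_one]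
  obtain ⟨R, hR⟩ := hx2.exists_le_sylow
  obtain ⟨g, hg⟩ := MulAction.exists_smul_eq G R S
  refine ⟨g, ?_⟩
  have h1 : g * x * g⁻¹ ∈ (S : Subgroup G) := by
    rw [← hg, Sylow.coe_subgroup_smul]
    exact Subgroup.smul_mem_pointwise_smul x (MulAut.conj g) _ (hR (Subgroup.mem_zpowers x))
  rw [← hwz]
  exact (hwc _ h1).symm

/-- **Fusion theorem** for groups of Hall–Janko type. -/
theorem fus_core [Finite G] (z : G) (hz : orderOf z = 2)
    (Q : Subgroup (Subgroup.centralizer ({z} : Set G))) [Q.Normal]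
    (hQ : Cfsg.IsExtraspecial 2 Q) (hcard : Nat.card Q = 32)
    (hC : Subgroup.centralizer (Q : Set (Subgroup.centralizer ({z} : Set G))) ≤ Q)
    (h60 : Nat.card ((Subgroup.centralizer ({z} : Set G)) ⧸ Q) = 60)
    (hnwc : ∃ g : G, (∃ hq : g * z * g⁻¹ ∈ Subgroup.centralizer ({z} : Set G),
      (⟨g * z * g⁻¹, hq⟩ : Subgroup.centralizer ({z} : Set G)) ∈ Q) ∧ g * z * g⁻¹ ≠ z)
    (hcl : ∃ x y : G, orderOf x = 2 ∧ orderOf y = 2 ∧ ¬ IsConj x y) :
    ∃ u, Fus z u := by
  obtain ⟨z', v, ρ, M⟩ := exists_model Q hQ hcard hC h60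
  obtain ⟨hzz, hz1⟩ := (orderOf_two_iff z).1 hz
  have memC : ∀ x : G, x ∈ Subgroup.centralizer ({z} : Set G) ↔ x * z = z * x := by
    intro x
    rw [Subgroup.mem_centralizer_singleton_iff]
  have hzC : z ∈ Subgroup.centralizer ({z} : Set G) := (memC z).2 rfl
  -- identify the centre
  have hz' : (z' : G) = z := by
    rcases eq_of_comm_v M (c := ⟨z, hzC⟩) (fun i => Subtype.ext ((memC _).1 (v i).2).symm) with h | h
    · exact absurd (congrArg Subtype.val h) hz1
    · exact (congrArg Subtype.val h).symm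
  have hC1920 : Nat.card (Subgroup.centralizer ({z} : Set G)) = 1920 := by
    have := Subgroup.card_eq_card_quotient_mul_card_subgroup Q
    rw [h60, hcard] at this
    omega
  -- elements of `C`
  have sq_iff : ∀ x : Subgroup.centralizer ({z} : Set G), x * x = 1 ↔ (x : G) * (x : G) = 1 := by
    intro x
    exact ⟨fun h => congrArg Subtype.val h, fun h => Subtype.ext h⟩
  have ne_iff : ∀ x : Subgroup.centralizer ({z} : Set G), x ≠ 1 ↔ (x : G) ≠ 1 := by
    intro x
    exact ⟨fun h h' => h (Subtype.ext h'), fun h h' => h (congrArg Subtype.val h')⟩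
  have conjC : ∀ (k x : Subgroup.centralizer ({z} : Set G)), IsConj (x : G) ((k * x * k⁻¹ : Subgroup.centralizer ({z} : Set G)) : G) :=
    fun k x => isConj_iff.2 ⟨k, rfl⟩
  -- involutions in Q are conjugate to z
  have hQz : ∀ x : Subgroup.centralizer ({z} : Set G), x ∈ Q → x * x = 1 → x ≠ 1 → IsConj z (x : G) := by
    obtain ⟨g, ⟨hq, hgQ⟩, hgz⟩ := hnwc
    have h1 : (⟨g * z * g⁻¹, hq⟩ : Subgroup.centralizer ({z} : Set G)) * ⟨g * z * g⁻¹, hq⟩ = 1 := by
      apply Subtype.ext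
      show g * z * g⁻¹ * (g * z * g⁻¹) = 1
      calc g * z * g⁻¹ * (g * z * g⁻¹) = g * (z * z) * g⁻¹ := by group
        _ = 1 := by rw [hzz]; group
    have h2 : (⟨g * z * g⁻¹, hq⟩ : Subgroup.centralizer ({z} : Set G)) ≠ 1 := by
      intro h
      have h3 : g * z * g⁻¹ = 1 := congrArg Subtype.val h
      apply hz1
      have : z = g⁻¹ * (g * z * g⁻¹) * g := by group
      rw [this, h3]; group
    rcases invol_Q M hgQ h1 h2 with h3 | ⟨a, i, h3⟩
    · exact absurd ((congrArg Subtype.val h3).trans hz') hgz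
    intro x hxQ hxx hx1
    rcases invol_Q M hxQ hxx hx1 with h4 | ⟨b, j, h4⟩
    · rw [h4, hz']
    · obtain ⟨k, hk⟩ := trans_v M a b i j
      have h5 : IsConj z (g * z * g⁻¹) := isConj_iff.2 ⟨g, rfl⟩
      have h6 : g * z * g⁻¹ = ((zp z' a * v i : Subgroup.centralizer ({z} : Set G)) : G) := congrArg Subtype.val h3
      have h7 := conjC k (zp z' a * v i)
      rw [hk, ← h4, ← h6] at h7
      exact h5.trans h7
  have hp2 : IsPGroup 2 Q := by
    rw [IsPGroup.iff_card]
    exact ⟨5, hcard⟩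
  have hinto : ∀ x : G, x * x = 1 → ∃ g, (g * x * g⁻¹) * z = z * (g * x * g⁻¹) := by
    intro x hx
    refine exists_conj_comm z Q hz1 hp2 ?_ ⟨z', M.z_mem, hz'⟩ x hx
    intro c hc
    rcases eq_of_comm_v M (c := c) (fun i => hc (v i) (M.v_mem i)) with h | h
    · left; exact h
    · right; rw [h, hz']
  -- an outer involution not conjugate to z
  obtain ⟨u, huQ, huu, hun⟩ : ∃ u : Subgroup.centralizer ({z} : Set G), u ∉ Q ∧ u * u = 1 ∧
      ¬ IsConj z (u : G) := by
    by_contra hcon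
    push Not at hcon
    obtain ⟨x, y, hx, hy, hxy⟩ := hcl
    apply hxy
    have key : ∀ x : G, orderOf x = 2 → IsConj z x := by
      intro x hx
      obtain ⟨hxx, hx1⟩ := (orderOf_two_iff x).1 hx
      obtain ⟨g, hg⟩ := hinto x hxx
      have h1 : IsConj x (g * x * g⁻¹) := isConj_iff.2 ⟨g, rfl⟩
      have h2 : g * x * g⁻¹ ∈ Subgroup.centralizer ({z} : Set G) := (memC _).2 hg
      have h3 : (⟨g * x * g⁻¹, h2⟩ : Subgroup.centralizer ({z} : Set G)) * ⟨g * x * g⁻¹, h2⟩ = 1 := by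
        apply Subtype.ext
        exact (conj_sq_iff g x).2 hxx
      have h4 : (⟨g * x * g⁻¹, h2⟩ : Subgroup.centralizer ({z} : Set G)) ≠ 1 := by
        intro h
        have h3 : g * x * g⁻¹ = 1 := congrArg Subtype.val h
        apply hx1
        have : x = g⁻¹ * (g * x * g⁻¹) * g := by group
        rw [this, h3]; group
      by_cases hQx : (⟨g * x * g⁻¹, h2⟩ : Subgroup.centralizer ({z} : Set G)) ∈ Q
      · exact (hQz _ hQx h3 h4).trans h1.symm
      · exact (hcon _ hQx h3).trans h1.symm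
    exact (key x hx).symm.trans (key y hy)
  have hu1 : u ≠ 1 := by
    rintro rfl
    exact huQ Q.one_mem
  -- types
  have outer_u : ∀ x : Subgroup.centralizer ({z} : Set G), x ∉ Q → x * x = 1 → IsConj (u : G) (x : G) := by
    intro x hx hxx
    obtain ⟨k, hk⟩ := outer_conj M huu huQ hxx hx
    rw [← hk]
    exact conjC k u
  have typeQ : ∀ x : Subgroup.centralizer ({z} : Set G), IsConj z (x : G) ↔ (x ∈ Q ∧ x * x = 1 ∧ x ≠ 1) := by
    intro x
    constructor
    · intro h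
      have h2 : orderOf (x : G) = 2 := by
        obtain ⟨g, hg⟩ := isConj_iff.1 h
        rw [orderOf_two_iff, ← hg]
        refine ⟨(conj_sq_iff g z).2 hzz, ?_⟩
        intro h3
        apply hz1
        have : z = g⁻¹ * (g * z * g⁻¹) * g := by group
        rw [this, h3]; group
      obtain ⟨h3, h4⟩ := (orderOf_two_iff _).1 h2
      refine ⟨?_, (sq_iff x).2 h3, (ne_iff x).2 h4⟩
      by_contra hxQ
      exact hun (h.trans (outer_u x hxQ ((sq_iff x).2 h3)).symm)
    · rintro ⟨h1, h2, h3⟩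
      exact hQz x h1 h2 h3
  have typeU : ∀ x : Subgroup.centralizer ({z} : Set G), IsConj (u : G) (x : G) ↔ (x ∉ Q ∧ x * x = 1) := by
    intro x
    constructor
    · intro h
      have h2 : (x : G) * (x : G) = 1 ∧ (x : G) ≠ 1 := by
        obtain ⟨g, hg⟩ := isConj_iff.1 h
        rw [← hg]
        refine ⟨(conj_sq_iff g (u : G)).2 ((sq_iff u).1 huu), ?_⟩
        intro h3
        apply (ne_iff u).1 hu1
        have : (u : G) = g⁻¹ * (g * u * g⁻¹) * g := by group
        rw [this, h3]; group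
      refine ⟨?_, (sq_iff x).2 h2.1⟩
      intro hxQ
      exact hun ((hQz x hxQ ((sq_iff x).2 h2.1) ((ne_iff x).2 h2.2)).trans h.symm)
    · rintro ⟨h1, h2⟩
      exact outer_u x h1 h2
  have memz : ∀ x : G, x * z = z * x → x ∈ Subgroup.centralizer ({z} : Set G) := fun x h => (memC x).2 h
  have ofC : ∀ x : Subgroup.centralizer ({z} : Set G), (x : G) * z = z * (x : G) := fun x => (memC _).1 x.2
  have comm_iff : ∀ x y : Subgroup.centralizer ({z} : Set G), x * y = y * x ↔ (x : G) * y = y * x := by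
    intro x y
    exact ⟨fun h => congrArg Subtype.val h, fun h => Subtype.ext h⟩
  have ord_iff : ∀ x : Subgroup.centralizer ({z} : Set G), orderOf x = orderOf (x : G) := fun x =>
    (Subgroup.orderOf_coe x).symm
  refine ⟨u, ?_⟩
  refine
    { hz := hz
      hu := (orderOf_two_iff _).2 ⟨(sq_iff u).1 huu, (ne_iff u).1 hu1⟩
      comm := (ofC u).symm
      nconj := hun
      cover := ?_
      pair := ?_
      cardC := hC1920
      card11 := ?_
      card120 := ?_
      cardE := ?_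
      sqE := ?_
      card3 := ?_
      mul_z := ?_
      sq_z := ?_
      pow4 := ?_
      card8 := ?_
      card24 := ?_
      conj3 := ?_
      z3 := ?_
      card10 := ?_
      conj5 := ?_ }
  · intro x hx
    obtain ⟨hxx, hx1⟩ := (orderOf_two_iff x).1 hx
    obtain ⟨g, hg⟩ := hinto x hxx
    have h1 : IsConj x (g * x * g⁻¹) := isConj_iff.2 ⟨g, rfl⟩
    have h2 : g * x * g⁻¹ ∈ Subgroup.centralizer ({z} : Set G) := (memC _).2 hg
    have h3 : (⟨g * x * g⁻¹, h2⟩ : Subgroup.centralizer ({z} : Set G)) * ⟨g * x * g⁻¹, h2⟩ = 1 := by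
      apply Subtype.ext
      exact (conj_sq_iff g x).2 hxx
    have h4 : (⟨g * x * g⁻¹, h2⟩ : Subgroup.centralizer ({z} : Set G)) ≠ 1 := by
      intro h
      have h3 : g * x * g⁻¹ = 1 := congrArg Subtype.val h
      apply hx1
      have : x = g⁻¹ * (g * x * g⁻¹) * g := by group
      rw [this, h3]; group
    by_cases hQx : (⟨g * x * g⁻¹, h2⟩ : Subgroup.centralizer ({z} : Set G)) ∈ Q
    · left; exact (hQz _ hQx h3 h4).trans h1.symm
    · right; exact (outer_u _ hQx h3).trans h1.symm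
  · intro x y hx hy hxy
    obtain ⟨g, hg⟩ := isConj_iff.1 hx
    have h1 : (g⁻¹ * y * g) * z = z * (g⁻¹ * y * g) := by
      rw [← hg] at hxy
      calc (g⁻¹ * y * g) * z = g⁻¹ * (y * (g * z * g⁻¹)) * g := by group
        _ = g⁻¹ * ((g * z * g⁻¹) * y) * g := by rw [hxy]
        _ = _ := by group
    have h2 : IsConj (u : G) (g⁻¹ * y * g) := hy.trans (isConj_iff.2 ⟨g⁻¹, by group⟩)
    have h3 := (typeU ⟨g⁻¹ * y * g, memz _ h1⟩).1 h2
    obtain ⟨k, hk⟩ := outer_conj M huu huQ h3.2 h3.1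
    have h4 : (k : G) * u * (k : G)⁻¹ = g⁻¹ * y * g := congrArg Subtype.val hk
    refine ⟨g * k, ?_, ?_⟩
    · calc g * (k : G) * z * (g * (k : G))⁻¹ = g * ((k : G) * z) * (k : G)⁻¹ * g⁻¹ := by group
        _ = g * (z * (k : G)) * (k : G)⁻¹ * g⁻¹ := by rw [ofC k]
        _ = g * z * g⁻¹ := by group
        _ = x := hg
    · calc g * (k : G) * u * (g * (k : G))⁻¹ = g * ((k : G) * u * (k : G)⁻¹) * g⁻¹ := by group
        _ = g * (g⁻¹ * y * g) * g⁻¹ := by rw [h4]
        _ = y := by group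
  · rw [card_transfer (Subgroup.centralizer ({z} : Set G)) _ (fun x => x ∈ Q ∧ x * x = 1 ∧ x ≠ 1)
      (fun x h => memz x h.2) (fun x => ?_)]
    · exact card_invol_Q M
    · rw [← typeQ]
      exact ⟨fun h => ⟨h, ofC x⟩, fun h => h.1⟩
  · rw [card_transfer (Subgroup.centralizer ({z} : Set G)) _ (fun x => x ∉ Q ∧ x * x = 1)
      (fun x h => memz x h.2) (fun x => ?_)]
    · exact card_outer M hC1920 huu huQ
    · rw [← typeU]
      exact ⟨fun h => ⟨h, ofC x⟩, fun h => h.1⟩
  · rw [← card_cent_outer M huu huQ]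
    have := card_transfer (Subgroup.centralizer ({z} : Set G))
      (fun x => x ∈ Subgroup.centralizer ({z} : Set G) ⊓ Subgroup.centralizer ({(u : G)} : Set G))
      (fun x => x * u = u * x) (fun x h => h.1) (fun x => ?_)
    · exact this
    · rw [comm_iff, Subgroup.mem_inf, Subgroup.mem_centralizer_singleton_iff (g := (u : G))]
      exact ⟨fun h => ⟨x.2, h⟩, fun h => h.2⟩
  · intro x hx hxu
    exact (sq_iff ⟨x, memz x hx⟩).1 (sq_cent_outer M huu huQ (x := ⟨x, memz x hx⟩) (Subtype.ext hxu))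
  · rw [card_transfer (Subgroup.centralizer ({z} : Set G)) _
      (fun x => x ∈ Q ∧ x * x = 1 ∧ x ≠ 1 ∧ x * u = u * x)
      (fun x h => memz x h.2.1) (fun x => ?_)]
    · exact card_U_outer M huu huQ
    · have h1 : x ∈ Q ∧ x * x = 1 ∧ x ≠ 1 ∧ x * u = u * x ↔ (x ∈ Q ∧ x * x = 1 ∧ x ≠ 1) ∧ x * u = u * x := by
        tauto
      rw [h1, ← typeQ, comm_iff]
      exact ⟨fun h => ⟨h.1, ofC x, h.2⟩, fun h => ⟨h.1, h.2.2⟩⟩
  · -- product of two commuting z-type involutions
    intro x y hx hy hxy hne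
    obtain ⟨g, hg⟩ := isConj_iff.1 hx
    have h1 : (g⁻¹ * y * g) * z = z * (g⁻¹ * y * g) := by
      rw [← hg] at hxy
      calc (g⁻¹ * y * g) * z = g⁻¹ * (y * (g * z * g⁻¹)) * g := by group
        _ = g⁻¹ * ((g * z * g⁻¹) * y) * g := by rw [hxy]
        _ = _ := by group
    have h2 : IsConj z (g⁻¹ * y * g) := hy.trans (isConj_iff.2 ⟨g⁻¹, by group⟩)
    have h3 := (typeQ ⟨g⁻¹ * y * g, memz _ h1⟩).1 h2
    have h4 : z' * (⟨g⁻¹ * y * g, memz _ h1⟩ : Subgroup.centralizer ({z} : Set G)) ∈ Q := Q.mul_mem M.z_mem h3.1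
    have h5 : (z' * (⟨g⁻¹ * y * g, memz _ h1⟩ : Subgroup.centralizer ({z} : Set G))) *
        (z' * (⟨g⁻¹ * y * g, memz _ h1⟩ : Subgroup.centralizer ({z} : Set G))) = 1 := by
      have := sq_zp_mul M 1 (⟨g⁻¹ * y * g, memz _ h1⟩ : Subgroup.centralizer ({z} : Set G))
      rw [zp_one] at this
      rw [this, h3.2.1]
    have h6 : z' * (⟨g⁻¹ * y * g, memz _ h1⟩ : Subgroup.centralizer ({z} : Set G)) ≠ 1 := by
      intro h
      apply hne
      have h7 : (z' : G) * (g⁻¹ * y * g) = 1 := congrArg Subtype.val h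
      rw [hz'] at h7
      have h8 : g⁻¹ * y * g = z := by
        calc g⁻¹ * y * g = (z * z) * (g⁻¹ * y * g) := by rw [hzz, one_mul]
          _ = z * (z * (g⁻¹ * y * g)) := by group
          _ = z := by rw [h7, mul_one]
      rw [← hg]
      have : y = g * (g⁻¹ * y * g) * g⁻¹ := by group
      rw [this, h8]
    have h9 := hQz _ h4 h5 h6
    have h10 : ((z' * (⟨g⁻¹ * y * g, memz _ h1⟩ : Subgroup.centralizer ({z} : Set G)) : Subgroup.centralizer ({z} : Set G)) : G)
        = z * (g⁻¹ * y * g) := by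
      show (z' : G) * (g⁻¹ * y * g) = _
      rw [hz']
    rw [h10] at h9
    refine h9.trans (isConj_iff.2 ⟨g, ?_⟩)
    rw [← hg]; group
  · intro x y hx hy hxz hyz hne
    have h1 := (typeQ ⟨x, memz _ hxz⟩).1 hx
    have h2 := (typeQ ⟨y, memz _ hyz⟩).1 hy
    have h3 := sq_of_not_comm M h1.1 h1.2.1 h2.1 h2.2.1 (fun h => hne (congrArg Subtype.val h))
    have h4 := congrArg Subtype.val h3
    rw [← hz', ← h4]
    rfl
  · intro x y hx hy hxz hyz hne
    have h1 := (typeQ ⟨x, memz _ hxz⟩).1 hx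
    have h2 := (typeU ⟨y, memz _ hyz⟩).1 hy
    have h3 := pow4_outer M h2.2 h2.1 h1.1 h1.2.1 (fun h => hne (congrArg Subtype.val h))
    have h4 := congrArg Subtype.val h3
    rw [← hz', ← h4]
    rfl
  · intro x hx hxz hne
    have h1 := (typeQ ⟨x, memz _ hxz⟩).1 hx
    have h2 : (⟨x, memz _ hxz⟩ : Subgroup.centralizer ({z} : Set G)) ≠ z' := by
      intro h
      apply hne
      have := congrArg Subtype.val h
      rw [hz'] at this
      exact this
    rw [← card_not_comm M h1.1 h1.2.1 h1.2.2 h2]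
    apply card_transfer (Subgroup.centralizer ({z} : Set G)) _ _ (fun y h => memz y h.2.1)
    intro y
    constructor
    · rintro ⟨h3, h4, h5⟩
      refine ⟨(typeQ y).2 ⟨h3, h4, ?_⟩, ofC y, fun h => h5 (Subtype.ext h)⟩
      rintro rfl
      exact h5 (by rw [one_mul, mul_one])
    · rintro ⟨h3, h4, h5⟩
      have h6 := (typeQ y).1 h3
      exact ⟨h6.1, h6.2.1, fun h => h5 (congrArg Subtype.val h)⟩
  · intro c hc hcz
    rw [← card_cent_three M hC1920 (c := ⟨c, memz c hcz⟩) (by rw [ord_iff]; exact hc)]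
    have := card_transfer (Subgroup.centralizer ({z} : Set G))
      (fun x => x ∈ Subgroup.centralizer ({z} : Set G) ⊓ Subgroup.centralizer ({c} : Set G))
      (fun x => x * ⟨c, memz c hcz⟩ = ⟨c, memz c hcz⟩ * x) (fun x h => h.1) (fun x => ?_)
    · exact this
    · rw [comm_iff, Subgroup.mem_inf, Subgroup.mem_centralizer_singleton_iff (g := c)]
      exact ⟨fun h => ⟨x.2, h⟩, fun h => h.2⟩
  · intro c c' hc hc' hcz hcz'
    obtain ⟨k, hk⟩ := three_conj M hC1920 (c := ⟨c, memz c hcz⟩) (c' := ⟨c', memz c' hcz'⟩)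
      (by rw [ord_iff]; exact hc) (by rw [ord_iff]; exact hc')
    exact ⟨k, ofC k, congrArg Subtype.val hk⟩
  · intro c y hc hcz hy hyz hyc
    obtain ⟨hyy, hy1⟩ := (orderOf_two_iff y).1 hy
    have h1 := mem_Q_of_comm_three M hC1920 (c := ⟨c, memz c hcz⟩) (y := ⟨y, memz y hyz⟩)
      (by rw [ord_iff]; exact hc) (Subtype.ext hyy) (Subtype.ext hyc)
    exact hQz _ h1 (Subtype.ext hyy) (fun h => hy1 (congrArg Subtype.val h))
  · intro c hc hcz
    rw [← card_cent_five M hC1920 (c := ⟨c, memz c hcz⟩) (by rw [ord_iff]; exact hc)]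
    have := card_transfer (Subgroup.centralizer ({z} : Set G))
      (fun x => x ∈ Subgroup.centralizer ({z} : Set G) ⊓ Subgroup.centralizer ({c} : Set G))
      (fun x => x * ⟨c, memz c hcz⟩ = ⟨c, memz c hcz⟩ * x) (fun x h => h.1) (fun x => ?_)
    · exact this
    · rw [comm_iff, Subgroup.mem_inf, Subgroup.mem_centralizer_singleton_iff (g := c)]
      exact ⟨fun h => ⟨x.2, h⟩, fun h => h.2⟩
  · intro w w' hw hw' hwz hwz'
    obtain ⟨k, hk⟩ := five_conj M hC1920 (c := ⟨w, memz w hwz⟩) (c' := ⟨w', memz w' hwz'⟩)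
      (by rw [ord_iff]; exact hw) (by rw [ord_iff]; exact hw')
    refine ⟨k, ofC k, ?_⟩
    rcases hk with hk | hk
    · left; exact congrArg Subtype.val hk
    · right; exact congrArg Subtype.val hk

end Cfsg.Agent.J2Type.Fusion
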