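import Mathlib
import Cfsg.Prelude.Def_TwoFusion
import Cfsg.Agent.S1180
import Cfsg.Agent.TwoFusion.IsolatedFusion

/-!
# Reduction of the simple two-class case: `t` is not weakly closed in `Q`

`G` a finite group with exactly two classes of involutions, `C = C_G(t)`, `Q` a normal subgroup of `C`.
`A`: `Q` contains an involution different from `t`; `B`: every involution of `C` outside `Q` commutes with an
involution of `Q` other than `t`; `D`: the involutions of `C` outside `Q` form one class of `C`.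
If the conjugates of `t` in `Q` are just `t`, then `t` is isolated and there is no involution in `C` outside `Q`.
-/

set_option autoImplicit false

open Subgroup

namespace Cfsg.Agent.J2Type.NotWeaklyClosed

variable {G : Type*} [Group G]

theorem inv_of_order_two {x : G} (hx : orderOf x = 2) : x * x = 1 := by
  have h := pow_orderOf_eq_one x
  rwa [hx, pow_two] at h

/-- If `t` is the only conjugate of `t` in `Q`, then no involution of `C ∖ Q` is conjugate to `t`. -/
theorem not_isConj_of_outside (t : G) (ht : orderOf t = 2)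
    (Q : Subgroup (centralizer ({t} : Set G)))
    (htQ : ∀ x : centralizer ({t} : Set G), (x : G) = t → x ∈ Q)
    (B : ∀ x : centralizer ({t} : Set G), orderOf (x : G) = 2 → x ∉ Q →
      ∃ v ∈ Q, orderOf (v : G) = 2 ∧ (v : G) ≠ t ∧ (x : G) * v = v * x)
    (D : ∀ x y : centralizer ({t} : Set G), orderOf (x : G) = 2 → orderOf (y : G) = 2 → x ∉ Q → y ∉ Q →
      IsConj x y)
    (hwc : ∀ x ∈ Q, IsConj t (x : G) → (x : G) = t)
    (x : centralizer ({t} : Set G)) (hx2 : orderOf (x : G) = 2) (hxQ : x ∉ Q) : ¬ IsConj t (x : G) := by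
  intro hconj
  obtain ⟨g, hg⟩ := isConj_iff.mp hconj
  -- the element `t' = g⁻¹ t g` of `C` is an involution conjugate to `t` outside `Q`
  have hxt : (x : G) * t = t * x := by
    have := x.2
    rw [mem_centralizer_singleton_iff] at this
    exact this
  have ht'C : g⁻¹ * t * g ∈ centralizer ({t} : Set G) := by
    rw [mem_centralizer_singleton_iff]
    have h1 : t = g⁻¹ * x * g := by rw [← hg]; group
    calc g⁻¹ * t * g * t = g⁻¹ * t * g * (g⁻¹ * x * g) := by rw [← h1]
      _ = g⁻¹ * (t * x) * g := by group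
      _ = g⁻¹ * (x * t) * g := by rw [hxt]
      _ = (g⁻¹ * x * g) * (g⁻¹ * t * g) := by group
      _ = t * (g⁻¹ * t * g) := by rw [← h1]
  set t' : centralizer ({t} : Set G) := ⟨g⁻¹ * t * g, ht'C⟩ with ht'
  have ht'2 : orderOf (t' : G) = 2 := by
    have : (t' : G) = MulAut.conj g⁻¹ t := by simp [ht']
    rw [this, MulEquiv.orderOf_eq, ht]
  have ht'conj : IsConj t (t' : G) := by
    rw [isConj_iff]; exact ⟨g⁻¹, by simp [ht']⟩
  have ht'Q : t' ∉ Q := by
    intro h
    have h1 := hwc t' h ht'conj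
    -- then `t = g⁻¹ t g`, so `x = t`
    have h2 : g⁻¹ * t * g = t := h1
    have h3 : (x : G) = t := by
      rw [← hg]
      calc g * t * g⁻¹ = g * (g⁻¹ * t * g) * g⁻¹ := by rw [h2]
        _ = t := by group
    exact hxQ (htQ x h3)
  obtain ⟨v, hvQ, hv2, hvt, hvc⟩ := B t' ht'2 ht'Q
  -- `v' = g v g⁻¹` and `v' x` are involutions of `C` not conjugate to `t`
  have hvC : (v : G) * t = t * v := by
    have := v.2
    rw [mem_centralizer_singleton_iff] at this
    exact this
  have hcomm : ∀ w : G, (t' : G) * w = w * t' → t * (g * w * g⁻¹) = (g * w * g⁻¹) * t := by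
    intro w hw
    have h1 : t = g * (t' : G) * g⁻¹ := by simp [ht']; group
    calc t * (g * w * g⁻¹) = (g * (t' : G) * g⁻¹) * (g * w * g⁻¹) := by rw [← h1]
      _ = g * ((t' : G) * w) * g⁻¹ := by group
      _ = g * (w * t') * g⁻¹ := by rw [hw]
      _ = (g * w * g⁻¹) * (g * (t' : G) * g⁻¹) := by group
      _ = (g * w * g⁻¹) * t := by rw [← h1]
  have key : ∀ w : centralizer ({t} : Set G), w ∈ Q → orderOf (w : G) = 2 → (w : G) ≠ t →
      (t' : G) * w = w * t' →
      ∃ h : g * (w : G) * g⁻¹ ∈ centralizer ({t} : Set G),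
        (⟨g * (w : G) * g⁻¹, h⟩ : centralizer ({t} : Set G)) ∈ Q := by
    intro w hwQ hw2 hwt hwc'
    have hC : g * (w : G) * g⁻¹ ∈ centralizer ({t} : Set G) := by
      rw [mem_centralizer_singleton_iff]
      exact (hcomm w hwc').symm
    refine ⟨hC, ?_⟩
    by_contra hnQ
    set w' : centralizer ({t} : Set G) := ⟨g * (w : G) * g⁻¹, hC⟩ with hw'
    have hw'2 : orderOf (w' : G) = 2 := by
      have : (w' : G) = MulAut.conj g w := by simp [hw']
      rw [this, MulEquiv.orderOf_eq, hw2]
    have h1 := D w' x hw'2 hx2 hnQ hxQ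
    -- so `w'` is conjugate to `x`, hence `w` is conjugate to `t`
    have h2 : IsConj (w' : G) (x : G) := by
      obtain ⟨c, hc⟩ := isConj_iff.mp h1
      rw [isConj_iff]
      refine ⟨(c : G), ?_⟩
      rw [← hc]; simp
    have h3 : IsConj (w : G) (w' : G) := by
      rw [isConj_iff]; exact ⟨g, by simp [hw']⟩
    have h4 : IsConj t (w : G) := hconj.trans (h2.symm.trans h3.symm)
    exact hwt (hwc w hwQ h4)
  obtain ⟨hC1, hQ1⟩ := key v hvQ hv2 hvt hvc.symm.symm
  -- second one: `v t`
  have htC : t ∈ centralizer ({t} : Set G) := by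
    rw [mem_centralizer_singleton_iff]
  set tC : centralizer ({t} : Set G) := ⟨t, htC⟩ with htCdef
  have htCQ : tC ∈ Q := htQ tC rfl
  have hvtQ : v * tC ∈ Q := Q.mul_mem hvQ htCQ
  have htt := inv_of_order_two ht
  have hvv := inv_of_order_two hv2
  have hvt2 : orderOf ((v * tC : centralizer ({t} : Set G)) : G) = 2 := by
    apply orderOf_eq_prime
    · show ((v : G) * t) ^ 2 = 1
      rw [pow_two]
      calc (v : G) * t * (v * t) = v * (t * v) * t := by group
        _ = v * (v * t) * t := by rw [← hvC]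
        _ = (v * v) * (t * t) := by group
        _ = 1 := by rw [hvv, htt, one_mul]
    · show (v : G) * t ≠ 1
      intro h
      apply hvt
      have : (v : G) = t⁻¹ := eq_inv_of_mul_eq_one_left h
      rw [this]
      exact inv_eq_of_mul_eq_one_left htt
  have hvtt : ((v * tC : centralizer ({t} : Set G)) : G) ≠ t := by
    show (v : G) * t ≠ t
    intro h
    have : (v : G) = 1 := by
      have := mul_right_cancel (b := t) (a := (v : G)) (c := 1) (by rw [one_mul]; exact h)
      exact this
    rw [this, orderOf_one] at hv2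
    omega
  have ht't : (t' : G) * t = t * t' := by
    have := t'.2
    rw [mem_centralizer_singleton_iff] at this
    exact this
  have hvtc : (t' : G) * ((v * tC : centralizer ({t} : Set G)) : G) = ((v * tC : centralizer ({t} : Set G)) : G) * t' := by
    show (t' : G) * ((v : G) * t) = (v : G) * t * t'
    rw [← mul_assoc, hvc, mul_assoc, ht't, mul_assoc]
  obtain ⟨hC2, hQ2⟩ := key (v * tC) hvtQ hvt2 hvtt hvtc
  -- the product is `g t g⁻¹ = x`
  apply hxQ
  have h5 := Q.mul_mem (Q.inv_mem hQ1) hQ2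
  have h6 : (⟨g * (v : G) * g⁻¹, hC1⟩ : centralizer ({t} : Set G))⁻¹ *
      ⟨g * ((v * tC : centralizer ({t} : Set G)) : G) * g⁻¹, hC2⟩ = x := by
    apply Subtype.ext
    show (g * (v : G) * g⁻¹)⁻¹ * (g * ((v : G) * t) * g⁻¹) = (x : G)
    rw [← hg]; group
  rw [h6] at h5
  exact h5

/-- **Reduction**: in a finite group with exactly two classes of involutions satisfying `A`, `B`, `D`, if `t` is
the only conjugate of `t` in `Q` then `t` is isolated and all involutions of `C` lie in `Q`. -/
theorem isolated_and_inside [Finite G] (t : G) (ht : orderOf t = 2)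
    (Q : Subgroup (centralizer ({t} : Set G))) [Q.Normal]
    (htQ : ∀ x : centralizer ({t} : Set G), (x : G) = t → x ∈ Q)
    (A : ∃ v ∈ Q, orderOf (v : G) = 2 ∧ (v : G) ≠ t)
    (B : ∀ x : centralizer ({t} : Set G), orderOf (x : G) = 2 → x ∉ Q →
      ∃ v ∈ Q, orderOf (v : G) = 2 ∧ (v : G) ≠ t ∧ (x : G) * v = v * x)
    (D : ∀ x y : centralizer ({t} : Set G), orderOf (x : G) = 2 → orderOf (y : G) = 2 → x ∉ Q → y ∉ Q →
      IsConj x y)
    (htwo : ∃ x y : G, orderOf x = 2 ∧ orderOf y = 2 ∧ ¬ IsConj x y ∧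
      ∀ z : G, orderOf z = 2 → IsConj z x ∨ IsConj z y)
    (hwc : ∀ x ∈ Q, IsConj t (x : G) → (x : G) = t) :
    Cfsg.IsIsolatedInvolution t ∧ ∀ x : centralizer ({t} : Set G), orderOf (x : G) = 2 → x ∈ Q := by
  have hiso : Cfsg.IsIsolatedInvolution t := by
    refine ⟨ht, ?_⟩
    intro g hg
    have hC : g * t * g⁻¹ ∈ centralizer ({t} : Set G) := by
      rw [mem_centralizer_singleton_iff]; exact hg.symm
    have h2 : orderOf (((⟨g * t * g⁻¹, hC⟩ : centralizer ({t} : Set G)) : G)) = 2 := by
      have : g * t * g⁻¹ = MulAut.conj g t := by simp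
      show orderOf (g * t * g⁻¹) = 2
      rw [this, MulEquiv.orderOf_eq, ht]
    have hconj : IsConj t (g * t * g⁻¹) := isConj_iff.mpr ⟨g, rfl⟩
    by_cases hQ : (⟨g * t * g⁻¹, hC⟩ : centralizer ({t} : Set G)) ∈ Q
    · exact hwc _ hQ hconj
    · exact absurd hconj (not_isConj_of_outside t ht Q htQ B D hwc _ h2 hQ)
  refine ⟨hiso, ?_⟩
  intro x hx2
  by_contra hxQ
  obtain ⟨v, hvQ, hv2, hvt⟩ := A
  have hxt : ¬ IsConj t (x : G) := not_isConj_of_outside t ht Q htQ B D hwc x hx2 hxQ
  have hvt' : ¬ IsConj t (v : G) := fun h => hvt (hwc v hvQ h)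
  obtain ⟨a, b, ha, hb, hab, hall⟩ := htwo
  have hxv : IsConj (v : G) (x : G) := by
    rcases hall t ht with h1 | h1 <;> rcases hall (v : G) hv2 with h2 | h2 <;> rcases hall (x : G) hx2 with h3 | h3
    · exact absurd (h1.trans h2.symm) hvt'
    · exact absurd (h1.trans h2.symm) hvt'
    · exact absurd (h1.trans h3.symm) hxt
    · exact h2.trans h3.symm
    · exact h2.trans h3.symm
    · exact absurd (h1.trans h3.symm) hxt
    · exact absurd (h1.trans h2.symm) hvt'
    · exact absurd (h1.trans h2.symm) hvt'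
  obtain ⟨g, hg⟩ := isConj_iff.mp hxv
  have hvc : Commute (v : G) t := by
    have := v.2
    rw [mem_centralizer_singleton_iff] at this
    exact this
  have hxc : Commute (x : G) t := by
    have := x.2
    rw [mem_centralizer_singleton_iff] at this
    exact this
  obtain ⟨k, h1, h2⟩ := Cfsg.Agent.TwoFusion.IsolatedFusion.exists_correction hiso hvc hxc hg
  apply hxQ
  -- `x` is a `C`-conjugate of `v`
  generalize ((t * (g * t * g⁻¹)) ^ k * g) = c at h1 h2
  have hcC : c ∈ centralizer ({t} : Set G) := by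
    rw [mem_centralizer_singleton_iff]; exact h1
  have h3 : (⟨c, hcC⟩ : centralizer ({t} : Set G)) * v * (⟨c, hcC⟩ : centralizer ({t} : Set G))⁻¹ = x := by
    apply Subtype.ext
    exact h2
  rw [← h3]
  exact Subgroup.Normal.conj_mem inferInstance v hvQ _

end Cfsg.Agent.J2Type.NotWeaklyClosed
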