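import Mathlib
import Cfsg.Prelude.Def_Transfer
import Cfsg.Agent.J2Type.Fusion
import Cfsg.Agent.J2Type.NotWeaklyClosed
import Cfsg.Agent.S0215

/-!
# The simple two-class case of the Hall–Janko hypotheses reduces to `Fus`

If `G` is simple with exactly two classes of involutions and an involution `t` whose centraliser has a normal
extraspecial subgroup `Q` of order 32 containing its centraliser, with quotient of order 60, then some conjugate of
`t` other than `t` lies in `Q` (so `∃ u, Fus t u`).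
-/

set_option autoImplicit false

open Subgroup

namespace Cfsg.Agent.J2Type.SimpleRed

open Cfsg.Agent.J2Type.Model Cfsg.Agent.J2Type.ModelExists Cfsg.Agent.J2Type.CStruct
  Cfsg.Agent.J2Type.COdd Cfsg.Agent.J2Type.Base Cfsg.Agent.J2Type.Fusion

variable {G : Type*} [Group G]

/-- A finite non-abelian simple group has no isolated involution (by the `Z*`-theorem). -/
theorem not_isolated [Finite G] [IsSimpleGroup G] (t : G) (hiso : Cfsg.IsIsolatedInvolution t)
    (hnc : ∃ a b : G, a * b ≠ b * a) : False := by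
  have : Fact (Nat.Prime 2) := ⟨Nat.prime_two⟩
  have hp : IsPGroup 2 (zpowers t) := by
    apply IsPGroup.of_card (n := 1)
    rw [Nat.card_zpowers, hiso.1, pow_one]
  obtain ⟨P, hP⟩ := hp.exists_le_sylow
  have htP : t ∈ P := hP (mem_zpowers t)
  obtain ⟨N, hN, hodd, hcomm⟩ := Cfsg.Agent.S0215.result P t hiso.1 htP
    (fun g hg => Cfsg.Agent.S1180.eq_of_conj_mem_isPGroup t hiso (P : Subgroup G) P.2 htP g hg)
  rcases hN.eq_bot_or_eq_top with h | h
  · -- `t` is central
    have hcen : ∀ g : G, t * g = g * t := by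
      intro g
      have := hcomm g
      rw [h, mem_bot] at this
      have h1 : t * g * t⁻¹ = g := by
        have := mul_inv_eq_one.mp this
        exact this
      rw [mul_inv_eq_iff_eq_mul] at h1
      exact h1
    have htc : t ∈ center G := by
      rw [mem_center_iff]; intro g; exact (hcen g).symm
    rcases (inferInstance : (center G).Normal).eq_bot_or_eq_top with hc | hc
    · rw [hc, mem_bot] at htc
      have := hiso.1
      rw [htc, orderOf_one] at this
      omega
    · obtain ⟨a, b, hab⟩ := hnc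
      apply hab
      have : b ∈ center G := by rw [hc]; trivial
      exact (mem_center_iff.mp this a)
  · rw [h, card_top] at hodd
    have h2 : 2 ∣ Nat.card G := by
      rw [← hiso.1]; exact orderOf_dvd_natCard t
    exact (Nat.not_even_iff_odd.mpr hodd) (even_iff_two_dvd.mpr h2)

theorem exists_conj_mem [Finite G] [IsSimpleGroup G] (t : G) (ht : orderOf t = 2)
    (Q : Subgroup (centralizer ({t} : Set G))) [Q.Normal]
    (hQ : Cfsg.IsExtraspecial 2 Q) (hcard : Nat.card Q = 32)
    (hC : centralizer (Q : Set (centralizer ({t} : Set G))) ≤ Q)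
    (h60 : Nat.card ((centralizer ({t} : Set G)) ⧸ Q) = 60)
    (htwo : ∃ x y : G, orderOf x = 2 ∧ orderOf y = 2 ∧ ¬ IsConj x y ∧
      ∀ z : G, orderOf z = 2 → IsConj z x ∨ IsConj z y) :
    ∃ g : G, (∃ hq : g * t * g⁻¹ ∈ centralizer ({t} : Set G),
      (⟨g * t * g⁻¹, hq⟩ : centralizer ({t} : Set G)) ∈ Q) ∧ g * t * g⁻¹ ≠ t := by
  by_contra hcon
  obtain ⟨z', v, ρ, M⟩ := exists_model Q hQ hcard hC h60
  obtain ⟨htt, ht1⟩ := (orderOf_two_iff t).1 ht
  have memC : ∀ x : G, x ∈ centralizer ({t} : Set G) ↔ x * t = t * x := by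
    intro x
    rw [mem_centralizer_singleton_iff]
  have htC : t ∈ centralizer ({t} : Set G) := (memC t).2 rfl
  have hz' : (z' : G) = t := by
    rcases eq_of_comm_v M (c := ⟨t, htC⟩) (fun i => Subtype.ext ((memC _).1 (v i).2).symm) with h | h
    · exact absurd (congrArg Subtype.val h) ht1
    · exact (congrArg Subtype.val h).symm
  have o2 : ∀ x : centralizer ({t} : Set G), orderOf (x : G) = 2 ↔ x * x = 1 ∧ x ≠ 1 := by
    intro x
    rw [Subgroup.orderOf_coe, orderOf_two_iff]
  have htQ : ∀ x : centralizer ({t} : Set G), (x : G) = t → x ∈ Q := by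
    intro x hx
    have : x = z' := Subtype.ext (by rw [hx, hz'])
    rw [this]; exact M.z_mem
  have hwc : ∀ x ∈ Q, IsConj t (x : G) → (x : G) = t := by
    intro x hx hconj
    obtain ⟨g, hg⟩ := isConj_iff.mp hconj
    by_contra hne
    apply hcon
    have hgC : g * t * g⁻¹ ∈ centralizer ({t} : Set G) := by rw [hg]; exact x.2
    refine ⟨g, ⟨hgC, ?_⟩, ?_⟩
    · have : (⟨g * t * g⁻¹, hgC⟩ : centralizer ({t} : Set G)) = x := Subtype.ext hg
      rw [this]; exact hx
    · rw [hg]; exact hne
  have A : ∃ v ∈ Q, orderOf (v : G) = 2 ∧ (v : G) ≠ t := by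
    refine ⟨v 0, M.v_mem 0, ?_, ?_⟩
    · rw [o2]
      refine ⟨M.v_sq 0, ?_⟩
      have := v_ne_one M 0 0
      rwa [zp_zero, one_mul] at this
    · intro h
      have h1 : v 0 = z' := Subtype.ext (by rw [h, hz'])
      have := zv_ne_z M 0 0
      rw [zp_zero, one_mul] at this
      exact this h1
  have B : ∀ x : centralizer ({t} : Set G), orderOf (x : G) = 2 → x ∉ Q →
      ∃ v ∈ Q, orderOf (v : G) = 2 ∧ (v : G) ≠ t ∧ (x : G) * v = v * x := by
    intro x hx hxQ
    have h3 := card_U_outer M ((o2 x).1 hx).1 hxQ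
    by_contra hno
    push Not at hno
    have hsub : Subsingleton {y : centralizer ({t} : Set G) // y ∈ Q ∧ y * y = 1 ∧ y ≠ 1 ∧ y * x = x * y} := by
      constructor
      rintro ⟨a, ha1, ha2, ha3, ha4⟩ ⟨b, hb1, hb2, hb3, hb4⟩
      have key : ∀ w : centralizer ({t} : Set G), w ∈ Q → w * w = 1 → w ≠ 1 → w * x = x * w → w = z' := by
        intro w h1 h2 h3 h4
        apply Subtype.ext
        rw [hz']
        by_contra hne
        refine hno w h1 ((o2 w).2 ⟨h2, h3⟩) hne ?_
        exact (congrArg Subtype.val h4).symm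
      apply Subtype.ext
      show a = b
      rw [key a ha1 ha2 ha3 ha4, key b hb1 hb2 hb3 hb4]
    have := Finite.card_le_one_iff_subsingleton.mpr hsub
    omega
  have D : ∀ x y : centralizer ({t} : Set G), orderOf (x : G) = 2 → orderOf (y : G) = 2 → x ∉ Q → y ∉ Q →
      IsConj x y := by
    intro x y hx hy hxQ hyQ
    rw [isConj_iff]
    exact outer_conj M ((o2 x).1 hx).1 hxQ ((o2 y).1 hy).1 hyQ
  obtain ⟨hiso, -⟩ := NotWeaklyClosed.isolated_and_inside t ht Q htQ A B D htwo hwc
  refine not_isolated t hiso ⟨(v 0 : G), (v 1 : G), ?_⟩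
  intro h
  have h1 : v 0 * v 1 = v 1 * v 0 := Subtype.ext h
  exact absurd ((v_comm_iff M 0 1).1 h1) (by decide)

/-- **Reduction of the simple two-class case.** -/
theorem fus_of_simple [Finite G] [IsSimpleGroup G] (t : G) (ht : orderOf t = 2)
    (Q : Subgroup (centralizer ({t} : Set G))) [Q.Normal]
    (hQ : Cfsg.IsExtraspecial 2 Q) (hcard : Nat.card Q = 32)
    (hC : centralizer (Q : Set (centralizer ({t} : Set G))) ≤ Q)
    (h60 : Nat.card ((centralizer ({t} : Set G)) ⧸ Q) = 60)
    (htwo : ∃ x y : G, orderOf x = 2 ∧ orderOf y = 2 ∧ ¬ IsConj x y ∧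
      ∀ z : G, orderOf z = 2 → IsConj z x ∨ IsConj z y) : ∃ u, Fus t u := by
  have h := exists_conj_mem t ht Q hQ hcard hC h60 htwo
  obtain ⟨x, y, hx, hy, hxy, -⟩ := htwo
  exact fus_core t ht Q hQ hcard hC h60 h ⟨x, y, hx, hy, hxy⟩

/-- The version with `C / Q` isomorphic to the alternating group of degree five. -/
theorem fus_of_simple_alt [Finite G] [IsSimpleGroup G] (t : G) (ht : orderOf t = 2)
    (Q : Subgroup (centralizer ({t} : Set G))) [Q.Normal]
    (hQ : Cfsg.IsExtraspecial 2 Q) (hcard : Nat.card Q = 32)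
    (hC : centralizer (Q : Set (centralizer ({t} : Set G))) ≤ Q)
    (e : (centralizer ({t} : Set G)) ⧸ Q ≃* alternatingGroup (Fin 5))
    (htwo : ∃ x y : G, orderOf x = 2 ∧ orderOf y = 2 ∧ ¬ IsConj x y ∧
      ∀ z : G, orderOf z = 2 → IsConj z x ∨ IsConj z y) : ∃ u, Fus t u := by
  refine fus_of_simple t ht Q hQ hcard hC ?_ htwo
  rw [Nat.card_congr e.toEquiv, nat_card_alternatingGroup]
  simp [Nat.factorial]

end Cfsg.Agent.J2Type.SimpleRed
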