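import Mathlib

/-!
Sylow 7-subgroups of a finite group of order 604800 in which no element of order 2 or 3 commutes with an
element of order 7 (used for groups of Hall-Janko type).
-/

set_option autoImplicit false
set_option linter.style.haveILetI false

namespace Cfsg.Agent.J2Type.SylowSeven

open Subgroup

/-- The index of the centraliser in the normaliser of a subgroup of prime order `p` divides `p - 1`. -/
theorem relIndex_dvd_of_card_prime {G : Type*} [Group G] [Finite G] (H : Subgroup G) {p : ℕ} (hp : p.Prime)
    (hH : Nat.card H = p) :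
    (centralizer (H : Set G)).relIndex (normalizer (H : Set G)) ∣ p - 1 := by
  haveI : Fact p.Prime := ⟨hp⟩
  haveI : IsCyclic H := isCyclic_of_prime_card hH
  have key := card_dvd_of_injective _ (QuotientGroup.kerLift_injective H.normalizerMonoidHom)
  rw [normalizerMonoidHom_ker, ← index, ← relIndex, IsCyclic.card_mulAut, hH,
    Nat.totient_prime hp] at key
  exact key

theorem centralizer_le_normalizer' {G : Type*} [Group G] (H : Subgroup G) :
    centralizer (H : Set G) ≤ normalizer (H : Set G) := by
  intro g hg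
  rw [mem_centralizer_iff] at hg
  rw [mem_normalizer_iff]
  intro h
  constructor
  · intro hh
    have h1 : g * h * g⁻¹ = h := by rw [← hg h hh]; group
    rw [h1]; exact hh
  · intro hh
    have h1 : h = g * h * g⁻¹ := by
      have h2 := hg _ hh
      have h3 : g * h = g * (g * h * g⁻¹) := by
        rw [← h2]; group
      exact mul_left_cancel h3
    rw [h1]; exact hh

theorem card_mul_relIndex' {G : Type*} [Group G] {H K : Subgroup G} (h : H ≤ K) :
    Nat.card H * H.relIndex K = Nat.card K := by
  have h1 := (H.subgroupOf K).card_mul_index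
  rw [Nat.card_congr (subgroupOfEquivOfLe h).toEquiv] at h1
  exact h1

/-- The order of a Sylow `p`-subgroup, given a factorisation `p ^ n * m` of the order of the group. -/
theorem card_sylow {G : Type*} [Group G] [Finite G] {p : ℕ} [hp : Fact p.Prime] (P : Sylow p G) (n m : ℕ)
    (hG : Nat.card G = p ^ n * m) (hm : ¬ p ∣ m) : Nat.card (P : Subgroup G) = p ^ n := by
  have hm0 : m ≠ 0 := by rintro rfl; exact hm (dvd_zero p)
  have h := P.card_eq_multiplicity
  rw [hG] at h
  rw [Nat.factorization_mul (pow_ne_zero _ hp.out.ne_zero) hm0, Finsupp.add_apply,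
    Nat.factorization_eq_zero_of_not_dvd hm, Nat.Prime.factorization_pow hp.out] at h
  simpa using h

theorem sylow_seven {G : Type*} [Group G] [Finite G] (hG : Nat.card G = 604800)
    (h2 : ∀ t : G, orderOf t = 2 → ¬ 7 ∣ Nat.card (centralizer ({t} : Set G)))
    (h3 : ∀ t : G, orderOf t = 3 → ¬ 7 ∣ Nat.card (centralizer ({t} : Set G)))
    (D : Sylow 7 G) :
    centralizer ((D : Subgroup G) : Set G) = D ∧
      Nat.card (normalizer ((D : Subgroup G) : Set G)) = 42 ∧
      ¬ IsMulCommutative (normalizer ((D : Subgroup G) : Set G)) := by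
  haveI : Fact (Nat.Prime 7) := ⟨by norm_num⟩
  have hD : Nat.card (D : Subgroup G) = 7 := by
    have := card_sylow D 1 86400 (by rw [hG]; norm_num) (by norm_num)
    simpa using this
  haveI : IsCyclic (D : Subgroup G) := isCyclic_of_prime_card hD
  have hDC : (D : Subgroup G) ≤ centralizer ((D : Subgroup G) : Set G) := le_centralizer _
  have hCN := centralizer_le_normalizer' (D : Subgroup G)
  have hk : (centralizer ((D : Subgroup G) : Set G)).relIndex
      (normalizer ((D : Subgroup G) : Set G)) ∣ 6 :=
    relIndex_dvd_of_card_prime (D : Subgroup G) (by norm_num : Nat.Prime 7) hD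
  have hn : Nat.card (Sylow 7 G) ≡ 1 [MOD 7] := card_sylow_modEq_one 7 G
  have hn' : Nat.card (Sylow 7 G) = (normalizer ((D : Subgroup G) : Set G)).index :=
    D.card_eq_index_normalizer
  -- prime divisors of |C|
  have hprime : ∀ p : ℕ, p.Prime → (∀ t : G, orderOf t = p → ¬ 7 ∣ Nat.card (centralizer ({t} : Set G))) →
      ¬ p ∣ Nat.card (centralizer ((D : Subgroup G) : Set G)) := by
    intro p hp h hdiv
    haveI : Fact p.Prime := ⟨hp⟩
    obtain ⟨t, ht⟩ := exists_prime_orderOf_dvd_card' p hdiv
    have ht' : orderOf (t : G) = p := by rwa [orderOf_coe]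
    apply h (t : G) ht'
    have hle : (D : Subgroup G) ≤ centralizer ({(t : G)} : Set G) := by
      intro d hd
      rw [mem_centralizer_singleton_iff]
      exact (mem_centralizer_iff.mp t.2) d hd
    have := card_dvd_of_le hle
    rwa [hD] at this
  have hC2 := hprime 2 (by norm_num) h2
  have hC3 := hprime 3 (by norm_num) h3
  have hC7 : 7 ∣ Nat.card (centralizer ((D : Subgroup G) : Set G)) := by
    have := card_dvd_of_le hDC
    rwa [hD] at this
  have hCN' := card_mul_relIndex' hCN
  have hNG := (normalizer ((D : Subgroup G) : Set G)).card_mul_index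
  rw [hG, ← hn', ← hCN'] at hNG
  generalize hc : Nat.card (centralizer ((D : Subgroup G) : Set G)) = c at *
  generalize hkk : (centralizer ((D : Subgroup G) : Set G)).relIndex
      (normalizer ((D : Subgroup G) : Set G)) = k at *
  generalize hnn : Nat.card (Sylow 7 G) = n at *
  obtain ⟨c', rfl⟩ := hC7
  have h1 : c' * k * n = 86400 := by
    have : 7 * (c' * k * n) = 7 * 86400 := by rw [← mul_assoc, ← mul_assoc, hNG]
    exact Nat.eq_of_mul_eq_mul_left (by norm_num) this
  have hc'dvd : c' ∣ 25 := by
    have hd : c' ∣ 86400 := ⟨k * n, by rw [← h1]; ring⟩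
    have h2' : Nat.Coprime c' 2 := by
      rw [Nat.coprime_comm, Nat.Prime.coprime_iff_not_dvd (by norm_num)]
      intro h; exact hC2 (h.mul_left 7)
    have h3' : Nat.Coprime c' 3 := by
      rw [Nat.coprime_comm, Nat.Prime.coprime_iff_not_dvd (by norm_num)]
      intro h; exact hC3 (h.mul_left 7)
    have h6 : Nat.Coprime c' (2 ^ 7 * 3 ^ 3) :=
      Nat.Coprime.mul_right (h2'.pow_right 7) (h3'.pow_right 3)
    rw [show 86400 = (2 ^ 7 * 3 ^ 3) * 25 by norm_num] at hd
    exact h6.dvd_of_dvd_mul_left hd
  have hc'cases : c' = 1 ∨ c' = 5 ∨ c' = 25 := by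
    have : c' ∈ Nat.divisors 25 := Nat.mem_divisors.mpr ⟨hc'dvd, by norm_num⟩
    have h25 : Nat.divisors 25 = {1, 5, 25} := by decide +kernel
    rw [h25] at this
    simpa using this
  have hkcases : k = 1 ∨ k = 2 ∨ k = 3 ∨ k = 6 := by
    have : k ∈ Nat.divisors 6 := Nat.mem_divisors.mpr ⟨hk, by norm_num⟩
    have h25 : Nat.divisors 6 = {1, 2, 3, 6} := by decide +kernel
    rw [h25] at this
    simpa using this
  have hn7 : n % 7 = 1 := hn
  have hfin : c' = 1 ∧ k = 6 := by
    rcases hc'cases with rfl | rfl | rfl <;> rcases hkcases with rfl | rfl | rfl | rfl <;> first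
      | (exact ⟨rfl, rfl⟩)
      | (exfalso; omega)
  obtain ⟨rfl, rfl⟩ := hfin
  have hCD : centralizer ((D : Subgroup G) : Set G) = D := by
    refine (eq_of_le_of_card_ge hDC ?_).symm
    rw [hc, hD]
  refine ⟨hCD, by rw [← hCN'], ?_⟩
  intro hcomm
  have hle : normalizer ((D : Subgroup G) : Set G) ≤ centralizer ((D : Subgroup G) : Set G) := by
    intro g hg
    rw [mem_centralizer_iff]
    intro d hd
    have hdN : d ∈ normalizer ((D : Subgroup G) : Set G) := le_normalizer hd
    have := hcomm.is_comm.comm (⟨d, hdN⟩ : normalizer ((D : Subgroup G) : Set G)) ⟨g, hg⟩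
    exact congrArg Subtype.val this
  have := card_dvd_of_le hle
  rw [← hCN', hc] at this
  norm_num at this

end Cfsg.Agent.J2Type.SylowSeven
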