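import Cfsg.Agent.J2Type.A5Case
import Cfsg.Agent.S1658

/-!
# Simple groups with an involution centraliser `2_-^{1+4} . A5` are the second or third Janko group
-/

set_option autoImplicit false

open Subgroup

namespace Cfsg.Agent.J2Type.A5Final

open Cfsg.Agent.J2Type.A5Case Cfsg.Agent.J2Type.ModelExists

variable {G : Type*} [Group G]

/-- No assumption on the fusion. -/
theorem isoJ2_or_isoJ3 [Finite G] [IsSimpleGroup G] (t : G) (ht : orderOf t = 2)
    (Q : Subgroup (centralizer ({t} : Set G))) [Q.Normal]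
    (hQ : Cfsg.IsExtraspecial 2 Q) (hcard : Nat.card Q = 32)
    (hC : centralizer (Q : Set (centralizer ({t} : Set G))) ≤ Q)
    (e : (centralizer ({t} : Set G)) ⧸ Q ≃* alternatingGroup (Fin 5)) :
    Cfsg.Spor.IsoJ2 G ∨ Cfsg.Spor.IsoJ3 G := by
  have h60 : Nat.card ((centralizer ({t} : Set G)) ⧸ Q) = 60 := by
    rw [Nat.card_congr e.toEquiv, nat_card_alternatingGroup]
    simp [Nat.factorial]
  rcases isoJ2_or_one t ht Q hQ hcard hC h60 with h | hone
  · exact Or.inl h
  · right
    obtain ⟨z', v, ρ, M⟩ := exists_model Q hQ hcard hC h60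
    exact Cfsg.Agent.S1658.result t ht Q hQ hcard (fun E hE => card_elementary_le M E hE) hC e hone

end Cfsg.Agent.J2Type.A5Final
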