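import Cfsg.Agent.SporadicRecognition.CosetChain
import Cfsg.Agent.J2Type.EnAAll
import Cfsg.Agent.J2Type.EnBAll
import Cfsg.Agent.J2Type.EnCAll

/-!
A presentation of the Hall–Janko group on six generators `v x a z y l`:
`⟨v,x,a⟩` and `⟨z,y,l⟩` are quotients of `A₅`.  A group generated by elements satisfying the relations
has order at most 604800 = 315 * 32 * 60 (certified coset enumeration).
-/

set_option autoImplicit false
set_option maxRecDepth 100000

namespace Cfsg.Agent.J2Type.Pres

open Cfsg.Agent.SporadicRecognition.CosetCert Cfsg.Agent.SporadicRecognition.CosetCertHyp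
  Cfsg.Agent.SporadicRecognition.CosetChain

/-- The relations. -/
structure Rels {G : Type*} [Group G] (v x a z y l : G) : Prop where
  v2 : v * v = 1
  x3 : x ^ 3 = 1
  vx : (v * x) ^ 3 = 1
  a2 : a * a = 1
  xa : (x * a) ^ 2 = 1
  va : (v * a) ^ 3 = 1
  z2 : z * z = 1
  y3 : y ^ 3 = 1
  zy : (z * y) ^ 3 = 1
  l2 : l * l = 1
  yl : (y * l) ^ 2 = 1
  zl : (z * l) ^ 3 = 1
  vz : v * z = z * v
  vy : v * y = y * v
  vl : v * l = l * v
  xz : x * z = z * x
  xy : x * y = y * x
  xl : x * l = l * x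
  az : a * z = z * a
  aly : a * (l * y) = (l * y) * a
  /-- with `e = y⁻¹ z y`, `q = a e a`: `(e q)² = z` -/
  eq4 : ((y⁻¹ * z * y) * (a * (y⁻¹ * z * y) * a)) ^ 2 = z
  /-- `y⁻¹ (q v q) y = q (x⁻¹ v x) q` -/
  n1 : y⁻¹ * ((a * (y⁻¹ * z * y) * a) * v * (a * (y⁻¹ * z * y) * a)) * y =
    (a * (y⁻¹ * z * y) * a) * (x⁻¹ * v * x) * (a * (y⁻¹ * z * y) * a)

section

variable {G : Type*} [Group G] {v x a z y l : G} (h : Rels v x a z y l)
include h

theorem inv_v : v⁻¹ = v := (eq_inv_of_mul_eq_one_left h.v2).symm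
theorem inv_a : a⁻¹ = a := (eq_inv_of_mul_eq_one_left h.a2).symm
theorem inv_z : z⁻¹ = z := (eq_inv_of_mul_eq_one_left h.z2).symm
theorem inv_l : l⁻¹ = l := (eq_inv_of_mul_eq_one_left h.l2).symm

theorem ee : (y⁻¹ * z * y) * (y⁻¹ * z * y) = 1 := by
  calc (y⁻¹ * z * y) * (y⁻¹ * z * y) = y⁻¹ * (z * z) * y := by group
    _ = 1 := by rw [h.z2]; group

/-- `z` and `e` commute -/
theorem ez : (y⁻¹ * z * y) * z = z * (y⁻¹ * z * y) := by
  have h1 : z * (y * z * y⁻¹) * (y⁻¹ * z * y) = 1 := by
    have h2 : (z * y) ^ 3 = z * (y * z * y⁻¹) * (y ^ 2 * z * y) := by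
      simp only [pow_succ, pow_zero, one_mul]; group
    have h3 : y ^ 2 = y⁻¹ := by
      rw [eq_inv_iff_mul_eq_one, ← pow_succ, h.y3]
    rw [h.zy, h3] at h2
    exact h2.symm
  have hb : (y * z * y⁻¹) * (y * z * y⁻¹) = 1 := by
    calc (y * z * y⁻¹) * (y * z * y⁻¹) = y * (z * z) * y⁻¹ := by group
      _ = 1 := by rw [h.z2]; group
  have he := ee h
  generalize y⁻¹ * z * y = e at h1 he
  generalize y * z * y⁻¹ = b at h1 hb
  have h4 : z * b = e := by
    rw [mul_eq_one_iff_eq_inv] at h1
    rw [h1, ← eq_inv_of_mul_eq_one_left he]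
  have h5 : b = z * e := by rw [← h4, ← mul_assoc, h.z2, one_mul]
  have h6 : z * e * (z * e) = 1 := by rw [← h5, hb]
  calc e * z = z * (z * e * (z * e)) * e := by
        rw [h6, mul_one]
        have : z * e * (z * e) = 1 := h6
        calc e * z = z * (z * e * (z * e)) * e := by
              rw [← mul_assoc, ← mul_assoc, ← mul_assoc, h.z2, one_mul]
              rw [mul_assoc (e * z), he, mul_one]
          _ = z * e := by rw [this, mul_one]
    _ = z * e := by rw [h6, mul_one]

theorem ev' : (y⁻¹ * z * y) * v = v * (y⁻¹ * z * y) := by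
  have h1 : Commute v y := h.vy
  have h2 : Commute v z := h.vz
  exact (((h1.inv_right.mul_right h2).mul_right h1).eq).symm

theorem ex' : (y⁻¹ * z * y) * x = x * (y⁻¹ * z * y) := by
  have h1 : Commute x y := h.xy
  have h2 : Commute x z := h.xz
  exact (((h1.inv_right.mul_right h2).mul_right h1).eq).symm

theorem ava : a * v * a = v * a * v := by
  have h1 := h.va
  have h2 : (v * a) ^ 3 = (v * a * v) * (a * v * a) := by
    simp only [pow_succ, pow_zero, one_mul, mul_assoc]
  rw [h2, mul_eq_one_iff_inv_eq] at h1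
  rw [← h1, mul_inv_rev, mul_inv_rev, inv_v h, inv_a h, mul_assoc]

/-- the consequence of `n1` inside `C(z)` -/
theorem prodRel : (v * ((a * (y⁻¹ * z * y) * a) * (x⁻¹ * v * x) * (a * (y⁻¹ * z * y) * a))) ^ 2 =
    y⁻¹ * z * y := by
  rw [← h.n1]
  have hev := ev' h
  have hee := ee h
  have hez := ez h
  have heq := h.eq4
  have hava := ava h
  have hvz := h.vz
  have haz := h.az
  have hv2 := h.v2
  have ha2 := h.a2
  generalize he : y⁻¹ * z * y = e at *
  have hvy : v * y⁻¹ = y⁻¹ * v := (Commute.inv_right (show Commute v y from h.vy)).eq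
  -- (q e)^2 = z
  have hqe : (a * e * a * e) * (a * e * a * e) = z := by
    have h1 : e * ((a * e * a * e) * (a * e * a * e)) * e = z := by
      calc e * ((a * e * a * e) * (a * e * a * e)) * e
          = (e * (a * e * a)) ^ 2 * (e * e) := by
            simp only [pow_two, mul_assoc]
        _ = z := by rw [heq, hee, mul_one]
    have h2 : (a * e * a * e) * (a * e * a * e) = e * (e * ((a * e * a * e) * (a * e * a * e)) * e) * e := by
      calc (a * e * a * e) * (a * e * a * e) = 1 * ((a * e * a * e) * (a * e * a * e)) * 1 := by group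
        _ = (e * e) * ((a * e * a * e) * (a * e * a * e)) * (e * e) := by rw [hee]
        _ = _ := by simp only [mul_assoc]
    rw [h2, h1, hez, mul_assoc, hee, mul_one]
  -- a W a = v q e v
  have hW : a * (v * (a * e * a * v * (a * e * a))) * a = v * (a * e * a * e) * v := by
    calc a * (v * (a * e * a * v * (a * e * a))) * a
        = (a * v * a) * e * (a * v * a) * e * (a * a) := by simp only [mul_assoc]
      _ = (v * a * v) * e * (v * a * v) * e := by rw [hava, ha2, mul_one]
      _ = v * a * (v * e) * v * a * (v * e) := by simp only [mul_assoc]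
      _ = v * a * (e * v) * v * a * (e * v) := by rw [hev]
      _ = v * a * e * (v * v) * a * e * v := by simp only [mul_assoc]
      _ = v * (a * e * a * e) * v := by rw [hv2, mul_one]; simp only [mul_assoc]
  have hW2 : (v * (a * e * a * v * (a * e * a))) * (v * (a * e * a * v * (a * e * a))) = z := by
    have h1 : ∀ X : G, X * X = a * ((a * X * a) * (a * X * a)) * a := by
      intro X
      calc X * X = 1 * X * 1 * X * 1 := by group
        _ = (a * a) * X * (a * a) * X * (a * a) := by rw [ha2]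
        _ = _ := by simp only [mul_assoc]
    rw [h1, hW]
    calc a * (v * (a * e * a * e) * v * (v * (a * e * a * e) * v)) * a
        = a * v * (a * e * a * e) * (v * v) * (a * e * a * e) * v * a := by simp only [mul_assoc]
      _ = a * v * ((a * e * a * e) * (a * e * a * e)) * v * a := by
          rw [hv2, mul_one]; simp only [mul_assoc]
      _ = a * (v * z) * v * a := by rw [hqe]; simp only [mul_assoc]
      _ = (a * z) * (v * v) * a := by rw [hvz]; simp only [mul_assoc]
      _ = z * (a * a) := by rw [hv2, mul_one, haz, mul_assoc]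
      _ = z := by rw [ha2, mul_one]
  have h3 : v * (y⁻¹ * (a * e * a * v * (a * e * a)) * y) =
      y⁻¹ * (v * (a * e * a * v * (a * e * a))) * y := by
    calc v * (y⁻¹ * (a * e * a * v * (a * e * a)) * y)
        = (v * y⁻¹) * ((a * e * a * v * (a * e * a)) * y) := by simp only [mul_assoc]
      _ = _ := by rw [hvy]; simp only [mul_assoc]
  rw [h3]
  calc (y⁻¹ * (v * (a * e * a * v * (a * e * a))) * y) ^ 2
      = y⁻¹ * ((v * (a * e * a * v * (a * e * a))) * (v * (a * e * a * v * (a * e * a)))) * y := by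
        rw [pow_two]; group
    _ = y⁻¹ * z * y := by rw [hW2]
    _ = e := he

end

/-- letters -/
def lt {G : Type*} [Group G] (v x a z y l : G) : ℕ → G
  | 0 => v
  | 1 => x
  | 2 => x⁻¹
  | 3 => a
  | 4 => z
  | 5 => y⁻¹ * z * y
  | 6 => y
  | 7 => y⁻¹
  | 8 => l
  | _ => 1

/-- inverse letters -/
def iv : ℕ → ℕ
  | 0 => 0
  | 1 => 2
  | 2 => 1
  | 3 => 3
  | 4 => 4
  | 5 => 5
  | 6 => 7
  | 7 => 6
  | 8 => 8
  | x => x

def rels : List (List ℕ) :=
  [[1,1,1], [6,6,6], [1,3,1,3], [6,8,6,8], [0,4,0,4], [0,6,0,7], [0,8,0,8], [4,1,4,2], [1,6,2,7],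
   [8,1,8,2], [3,4,3,4], [5,7,4,6], [0,1,0,1,0,1], [0,3,0,3,0,3], [4,6,4,6,4,6], [4,8,4,8,4,8],
   [3,8,6,3,7,8], [5,3,5,3,5,3,5,3,4], [7,3,5,3,0,3,5,3,6,3,5,3,2,0,1,3,5,3],
   [5,4,5,4], [5,0,5,0], [5,1,5,2], [0,3,5,3,2,0,1,3,5,3,0,3,5,3,2,0,1,3,5,3,5]]

variable {G : Type*} [Group G] {v x a z y l : G} (h : Rels v x a z y l)
include h

theorem rels_ev : ∀ r ∈ rels, ev (lt v x a z y l) r = 1 := by
  have hv := inv_v h
  have ha := inv_a h
  have hz := inv_z h
  have hl := inv_l h
  have comm4 : ∀ s t : G, s * s = 1 → t * t = 1 → s * t = t * s → s * (t * (s * t)) = 1 := by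
    intro s t hs ht hst
    calc s * (t * (s * t)) = s * t * (s * t) := by group
      _ = s * t * (t * s) := by rw [← hst]
      _ = s * (t * t) * s := by group
      _ = 1 := by rw [ht, mul_one, hs]
  intro r hr
  simp only [rels, List.mem_cons, List.not_mem_nil, or_false] at hr
  have hez := ez h
  have hev' := ev' h
  have hex' := ex' h
  have hee := ee h
  rcases hr with rfl | rfl | rfl | rfl | rfl | rfl | rfl | rfl | rfl | rfl | rfl | rfl | rfl | rfl |
    rfl | rfl | rfl | rfl | rfl | rfl | rfl | rfl | rfl <;> simp only [ev, List.map_cons, List.map_nil,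
    List.prod_cons, List.prod_nil, lt, mul_one]
  · rw [← h.x3]; simp only [pow_succ, pow_zero, one_mul, mul_assoc]
  · rw [← h.y3]; simp only [pow_succ, pow_zero, one_mul, mul_assoc]
  · rw [← h.xa]; simp only [pow_succ, pow_zero, one_mul, mul_assoc]
  · rw [← h.yl]; simp only [pow_succ, pow_zero, one_mul, mul_assoc]
  · exact comm4 v z h.v2 h.z2 h.vz
  · calc v * (y * (v * y⁻¹)) = (v * y) * v * y⁻¹ := by group
      _ = y * (v * v) * y⁻¹ := by rw [h.vy]; group
      _ = 1 := by rw [h.v2]; group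
  · exact comm4 v l h.v2 h.l2 h.vl
  · calc z * (x * (z * x⁻¹)) = z * (x * z) * x⁻¹ := by group
      _ = (z * z) * x * x⁻¹ := by rw [h.xz]; group
      _ = 1 := by rw [h.z2]; group
  · calc x * (y * (x⁻¹ * y⁻¹)) = (x * y) * x⁻¹ * y⁻¹ := by group
      _ = 1 := by rw [h.xy]; group
  · calc l * (x * (l * x⁻¹)) = l * (x * l) * x⁻¹ := by group
      _ = (l * l) * x * x⁻¹ := by rw [h.xl]; group
      _ = 1 := by rw [h.l2]; group
  · exact comm4 a z h.a2 h.z2 h.az
  · calc (y⁻¹ * z * y) * (y⁻¹ * (z * y)) = y⁻¹ * (z * z) * y := by group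
      _ = 1 := by rw [h.z2]; group
  · rw [← h.vx]; simp only [pow_succ, pow_zero, one_mul, mul_assoc]
  · rw [← h.va]; simp only [pow_succ, pow_zero, one_mul, mul_assoc]
  · rw [← h.zy]; simp only [pow_succ, pow_zero, one_mul, mul_assoc]
  · rw [← h.zl]; simp only [pow_succ, pow_zero, one_mul, mul_assoc]
  · calc a * (l * (y * (a * (y⁻¹ * l)))) = (a * (l * y)) * (a * (y⁻¹ * l)) := by group
      _ = (l * y) * (a * a) * (y⁻¹ * l) := by rw [h.aly]; group
      _ = l * l := by rw [h.a2]; group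
      _ = 1 := h.l2
  · have h1 := h.eq4
    generalize y⁻¹ * z * y = e at *
    calc e * (a * (e * (a * (e * (a * (e * (a * z))))))) = (e * (a * e * a)) ^ 2 * z := by
          simp only [pow_two, mul_assoc]
      _ = 1 := by rw [h1, h.z2]
  · have h1 := h.n1
    generalize y⁻¹ * z * y = e at *
    calc y⁻¹ * (a * (e * (a * (v * (a * (e * (a * (y * (a * (e * (a * (x⁻¹ * (v * (x * (a * (e * a))))))))))))))))
        = (y⁻¹ * ((a * e * a) * v * (a * e * a)) * y) * ((a * e * a) * (x⁻¹ * v * x) * (a * e * a)) := by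
          simp only [mul_assoc]
      _ = ((a * e * a) * (x⁻¹ * v * x) * (a * e * a)) * ((a * e * a) * (x⁻¹ * v * x) * (a * e * a)) := by
          rw [h1]
      _ = a * e * a * x⁻¹ * v * x * (a * (e * (a * a) * e) * a) * x⁻¹ * v * x * a * e * a := by
          simp only [mul_assoc]
      _ = a * e * a * x⁻¹ * v * (x * x⁻¹) * v * x * a * e * a := by
          rw [h.a2, mul_one, hee, mul_one, h.a2, mul_one]; simp only [mul_assoc]
      _ = a * e * a * x⁻¹ * (v * v) * x * a * e * a := by
          rw [mul_inv_cancel, mul_one]; simp only [mul_assoc]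
      _ = a * (e * (a * (x⁻¹ * x) * a) * e) * a := by
          rw [h.v2, mul_one]; simp only [mul_assoc]
      _ = 1 := by rw [inv_mul_cancel, mul_one, h.a2, mul_one, hee, mul_one, h.a2]
  · exact comm4 (y⁻¹ * z * y) z hee h.z2 hez
  · exact comm4 (y⁻¹ * z * y) v hee h.v2 hev'
  · calc (y⁻¹ * z * y) * (x * ((y⁻¹ * z * y) * x⁻¹)) = ((y⁻¹ * z * y) * x) * ((y⁻¹ * z * y) * x⁻¹) := by group
      _ = x * ((y⁻¹ * z * y) * (y⁻¹ * z * y)) * x⁻¹ := by rw [hex']; simp only [mul_assoc]
      _ = 1 := by rw [hee]; group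
  · have h1 := prodRel h
    generalize y⁻¹ * z * y = e at *
    calc v * (a * (e * (a * (x⁻¹ * (v * (x * (a * (e * (a * (v * (a * (e * (a * (x⁻¹ * (v * (x * (a * (e *
          (a * e)))))))))))))))))))
        = (v * ((a * e * a) * (x⁻¹ * v * x) * (a * e * a))) ^ 2 * e := by
          simp only [pow_two, mul_assoc]
      _ = 1 := by rw [h1, hee]

theorem lt_inv (n : ℕ) (hn : n < 9) : iv n < 9 ∧ lt v x a z y l n * lt v x a z y l (iv n) = 1 := by
  interval_cases n
  · exact ⟨by decide, h.v2⟩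
  · exact ⟨by decide, mul_inv_cancel x⟩
  · exact ⟨by decide, inv_mul_cancel x⟩
  · exact ⟨by decide, h.a2⟩
  · exact ⟨by decide, h.z2⟩
  · exact ⟨by decide, ee h⟩
  · exact ⟨by decide, mul_inv_cancel y⟩
  · exact ⟨by decide, inv_mul_cancel y⟩
  · exact ⟨by decide, h.l2⟩

theorem cardC : Finite (Subgroup.closure (lt v x a z y l '' {n | n < 4})) ∧
    Nat.card (Subgroup.closure (lt v x a z y l '' {n | n < 4})) ≤ 60 * 1 := by
  have hinv : ∀ n, n < EnCData.C.k → EnCData.C.inv n < EnCData.C.k ∧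
      lt v x a z y l n * lt v x a z y l (EnCData.C.inv n) = 1 := by
    intro n hn
    change n < 4 at hn
    have h1 := (lt_inv h n (by omega)).2
    interval_cases n <;> exact ⟨by decide +kernel, h1⟩
  have := card_step EnCData.C (lt v x a z y l) rels [] ⊥ hinv
    (fun r hr _ => rels_ev h r hr) (by simp) (by decide +kernel) EnCAll.part inferInstance
  have h1 : Nat.card (⊥ : Subgroup G) = 1 := by simp
  rw [h1] at this
  exact this

theorem sub_closure (j : ℕ) (subw : List (List ℕ)) (hs : ∀ s ∈ subw, ∀ n ∈ s, n < j) :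
    ∀ s ∈ subw, ev (lt v x a z y l) s ∈ Subgroup.closure (lt v x a z y l '' {n | n < j}) :=
  sub_letters (lt v x a z y l) j subw hs

theorem cardB : Finite (Subgroup.closure (lt v x a z y l '' {n | n < 6})) ∧
    Nat.card (Subgroup.closure (lt v x a z y l '' {n | n < 6})) ≤ 32 * (60 * 1) := by
  have hinv : ∀ n, n < EnBData.C.k → EnBData.C.inv n < EnBData.C.k ∧
      lt v x a z y l n * lt v x a z y l (EnBData.C.inv n) = 1 := by
    intro n hn
    change n < 6 at hn
    have h1 := (lt_inv h n (by omega)).2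
    interval_cases n <;> exact ⟨by decide +kernel, h1⟩
  have := card_step EnBData.C (lt v x a z y l) rels [[0],[1],[3]]
    (Subgroup.closure (lt v x a z y l '' {n | n < 4})) hinv
    (fun r hr _ => rels_ev h r hr) (fun s hs _ => sub_closure h 4 [[0],[1],[3]] (by decide) s hs)
    (by decide +kernel) EnBAll.part (cardC h).1
  exact ⟨this.1, this.2.trans (Nat.mul_le_mul_left _ (cardC h).2)⟩

theorem cardA : Finite (Subgroup.closure (lt v x a z y l '' {n | n < 9})) ∧
    Nat.card (Subgroup.closure (lt v x a z y l '' {n | n < 9})) ≤ 315 * (32 * (60 * 1)) := by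
  have hinv : ∀ n, n < EnAData.C.k → EnAData.C.inv n < EnAData.C.k ∧
      lt v x a z y l n * lt v x a z y l (EnAData.C.inv n) = 1 := by
    intro n hn
    change n < 9 at hn
    have h1 := (lt_inv h n (by omega)).2
    interval_cases n <;> exact ⟨by decide +kernel, h1⟩
  have := card_step EnAData.C (lt v x a z y l) rels [[0],[1],[3],[4],[5]]
    (Subgroup.closure (lt v x a z y l '' {n | n < 6})) hinv
    (fun r hr _ => rels_ev h r hr)
    (fun s hs _ => sub_closure h 6 [[0],[1],[3],[4],[5]] (by decide) s hs)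
    (by decide +kernel) EnAAll.part (cardB h).1
  exact ⟨this.1, this.2.trans (Nat.mul_le_mul_left _ (cardB h).2)⟩

/-- A group generated by elements satisfying the relations has order at most 604800. -/
theorem card_le (hgen : Subgroup.closure {v, x, a, z, y, l} = (⊤ : Subgroup G)) :
    Finite G ∧ Nat.card G ≤ 604800 := by
  obtain ⟨h1, h2⟩ := cardA h
  have h3 : Subgroup.closure (lt v x a z y l '' {n | n < 9}) = ⊤ := by
    rw [eq_top_iff, ← hgen, Subgroup.closure_le]
    intro g hg
    rcases hg with rfl | rfl | rfl | rfl | rfl | rfl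
    · exact Subgroup.subset_closure ⟨0, by norm_num, rfl⟩
    · exact Subgroup.subset_closure ⟨1, by norm_num, rfl⟩
    · exact Subgroup.subset_closure ⟨3, by norm_num, rfl⟩
    · exact Subgroup.subset_closure ⟨4, by norm_num, rfl⟩
    · exact Subgroup.subset_closure ⟨6, by norm_num, rfl⟩
    · exact Subgroup.subset_closure ⟨8, by norm_num, rfl⟩
  rw [h3] at h1 h2
  have h4 : Finite G := Finite.of_equiv _ (Subgroup.topEquiv (G := G)).toEquiv
  rw [Nat.card_congr (Subgroup.topEquiv (G := G)).toEquiv] at h2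
  exact ⟨h4, h2.trans (by norm_num)⟩

end Cfsg.Agent.J2Type.Pres
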