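import Cfsg.Agent.J2Type.Pres

/-!
Two groups of order 604800 satisfying the relations `Rels`, one of them simple and generated by the
six elements, are isomorphic.
-/

set_option autoImplicit false

namespace Cfsg.Agent.J2Type.PresIso

open Cfsg.Agent.J2Type.Pres

/-- the relators in the free group -/
def relsF : List (FreeGroup (Fin 6)) :=
  let v := FreeGroup.of 0
  let x := FreeGroup.of 1
  let a := FreeGroup.of 2
  let z := FreeGroup.of 3
  let y := FreeGroup.of 4
  let l := FreeGroup.of 5
  [v * v, x ^ 3, (v * x) ^ 3, a * a, (x * a) ^ 2, (v * a) ^ 3, z * z, y ^ 3, (z * y) ^ 3, l * l,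
   (y * l) ^ 2, (z * l) ^ 3, v * z * (z * v)⁻¹, v * y * (y * v)⁻¹, v * l * (l * v)⁻¹,
   x * z * (z * x)⁻¹, x * y * (y * x)⁻¹, x * l * (l * x)⁻¹, a * z * (z * a)⁻¹,
   a * (l * y) * ((l * y) * a)⁻¹,
   ((y⁻¹ * z * y) * (a * (y⁻¹ * z * y) * a)) ^ 2 * z⁻¹,
   y⁻¹ * ((a * (y⁻¹ * z * y) * a) * v * (a * (y⁻¹ * z * y) * a)) * y *
    ((a * (y⁻¹ * z * y) * a) * (x⁻¹ * v * x) * (a * (y⁻¹ * z * y) * a))⁻¹]

theorem rels_iff {G : Type*} [Group G] (f : FreeGroup (Fin 6) →* G) :
    Rels (f (FreeGroup.of 0)) (f (FreeGroup.of 1)) (f (FreeGroup.of 2)) (f (FreeGroup.of 3))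
      (f (FreeGroup.of 4)) (f (FreeGroup.of 5)) ↔ ∀ r ∈ relsF, f r = 1 := by
  simp only [relsF, List.forall_mem_cons, List.not_mem_nil, false_imp_iff, implies_true, and_true,
    map_mul, map_pow, map_inv, mul_inv_eq_one]
  constructor
  · rintro ⟨h1, h2, h3, h4, h5, h6, h7, h8, h9, h10, h11, h12, h13, h14, h15, h16, h17, h18, h19, h20, h21,
      h22⟩
    exact ⟨h1, h2, h3, h4, h5, h6, h7, h8, h9, h10, h11, h12, h13, h14, h15, h16, h17, h18, h19, h20, h21,
      h22⟩
  · rintro ⟨h1, h2, h3, h4, h5, h6, h7, h8, h9, h10, h11, h12, h13, h14, h15, h16, h17, h18, h19, h20, h21,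
      h22⟩
    exact ⟨h1, h2, h3, h4, h5, h6, h7, h8, h9, h10, h11, h12, h13, h14, h15, h16, h17, h18, h19, h20, h21,
      h22⟩

/-- the presented group -/
abbrev P : Type := PresentedGroup {r | r ∈ relsF}

theorem rels_P : Rels (PresentedGroup.of 0 : P) (PresentedGroup.of 1) (PresentedGroup.of 2)
    (PresentedGroup.of 3) (PresentedGroup.of 4) (PresentedGroup.of 5) := by
  have := (rels_iff (PresentedGroup.mk {r | r ∈ relsF})).mpr (by
    intro r hr
    exact PresentedGroup.one_of_mem hr)
  exact this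

theorem closure_P : Subgroup.closure {(PresentedGroup.of 0 : P), PresentedGroup.of 1,
    PresentedGroup.of 2, PresentedGroup.of 3, PresentedGroup.of 4, PresentedGroup.of 5} = ⊤ := by
  rw [eq_top_iff, ← PresentedGroup.closure_range_of, Subgroup.closure_le]
  rintro _ ⟨i, rfl⟩
  apply Subgroup.subset_closure
  fin_cases i <;> simp

theorem card_P : Finite P ∧ Nat.card P ≤ 604800 := card_le rels_P closure_P

section

variable {G : Type*} [Group G] {v x a z y l : G} (h : Rels v x a z y l)
include h

/-- the values of the generators -/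
def vals (_ : Rels v x a z y l) : Fin 6 → G := ![v, x, a, z, y, l]

theorem vals_rel : ∀ r ∈ {r | r ∈ relsF}, FreeGroup.lift (vals h) r = 1 := by
  intro r hr
  refine (rels_iff (FreeGroup.lift (vals h))).mp ?_ r hr
  simp only [FreeGroup.lift_apply_of]
  exact h

/-- the homomorphism from the presented group -/
def hom : P →* G := PresentedGroup.toGroup (vals_rel h)

theorem hom_of (i : Fin 6) : hom h (PresentedGroup.of i) = vals h i := PresentedGroup.toGroup.of _

theorem hom_surjective (hgen : Subgroup.closure {v, x, a, z, y, l} = (⊤ : Subgroup G)) :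
    Function.Surjective (hom h) := by
  rw [← MonoidHom.range_eq_top, eq_top_iff, ← hgen, Subgroup.closure_le]
  intro g hg
  rcases hg with rfl | rfl | rfl | rfl | rfl | rfl
  · exact ⟨PresentedGroup.of 0, hom_of h 0⟩
  · exact ⟨PresentedGroup.of 1, hom_of h 1⟩
  · exact ⟨PresentedGroup.of 2, hom_of h 2⟩
  · exact ⟨PresentedGroup.of 3, hom_of h 3⟩
  · exact ⟨PresentedGroup.of 4, hom_of h 4⟩
  · exact ⟨PresentedGroup.of 5, hom_of h 5⟩

end

/-- Uniqueness: a group `G` of order 604800 containing non-trivial solutions of the relations is isomorphic to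
any simple group of that order generated by solutions of the relations. -/
theorem iso_of_rels {J : Type*} [Group J] [IsSimpleGroup J] (hJ : Nat.card J = 604800)
    {v' x' a' z' y' l' : J} (h' : Rels v' x' a' z' y' l')
    (hgen : Subgroup.closure {v', x', a', z', y', l'} = (⊤ : Subgroup J))
    {G : Type*} [Group G] (hG : Nat.card G = 604800) {v x a z y l : G} (h : Rels v x a z y l)
    (hz : z ≠ 1) : Nonempty (G ≃* J) := by
  obtain ⟨hfin, hcard⟩ := card_P
  have hsurj := hom_surjective h' hgen
  have : Finite J := Nat.finite_of_card_ne_zero (by rw [hJ]; norm_num)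
  have : Finite G := Nat.finite_of_card_ne_zero (by rw [hG]; norm_num)
  have hcJ : Nat.card P = 604800 := by
    apply le_antisymm hcard
    rw [← hJ]
    exact Nat.card_le_card_of_surjective _ hsurj
  have hbij : Function.Bijective (hom h') := by
    rw [Nat.bijective_iff_surjective_and_card]
    exact ⟨hsurj, by rw [hcJ, hJ]⟩
  let eJ : P ≃* J := MulEquiv.ofBijective (hom h') hbij
  have hsimple : IsSimpleGroup P := eJ.isSimpleGroup
  have hker : (hom h).ker = ⊥ := by
    rcases hsimple.eq_bot_or_eq_top_of_normal (hom h).ker inferInstance with h1 | h1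
    · exact h1
    · exfalso
      apply hz
      have h2 : (PresentedGroup.of 3 : P) ∈ (hom h).ker := by rw [h1]; exact Subgroup.mem_top _
      rw [MonoidHom.mem_ker, hom_of] at h2
      exact h2
  have hinj : Function.Injective (hom h) := (MonoidHom.ker_eq_bot_iff _).mp hker
  have hbij' : Function.Bijective (hom h) := by
    rw [Nat.bijective_iff_injective_and_card]
    exact ⟨hinj, by rw [hcJ, hG]⟩
  exact ⟨(MulEquiv.ofBijective (hom h) hbij').symm.trans eJ⟩

end Cfsg.Agent.J2Type.PresIso
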