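import Mathlib

/-!
Structure of the centraliser of the second involution `u` in a group of Hall–Janko type:
a normal subgroup `H0` of index 4 in `C(u)` with a self-centralising four-group.
-/

set_option autoImplicit false

namespace Cfsg.Agent.J2Type.HStr

open Subgroup

/-- `H0` is a normal subgroup of index 4 of `C(u)`, not containing `u`, whose involutions are the conjugates of `z`
commuting with `u`, and in which every involution has centraliser elementary abelian of order 4. -/
structure HStr {G : Type*} [Group G] (z u : G) (H0 : Subgroup G) : Prop where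
  le : H0 ≤ centralizer ({u} : Set G)
  card : Nat.card (centralizer ({u} : Set G)) = 4 * Nat.card H0
  conj_mem : ∀ h ∈ centralizer ({u} : Set G), ∀ x ∈ H0, h * x * h⁻¹ ∈ H0
  sq_mem : ∀ h ∈ centralizer ({u} : Set G), h * h ∈ H0
  notMem : u ∉ H0
  invol : ∀ x ∈ H0, orderOf x = 2 → IsConj z x
  z_mem : ∀ x, IsConj z x → x * u = u * x → x ∈ H0
  cent4 : ∀ x ∈ H0, orderOf x = 2 →
    Nat.card (H0 ⊓ centralizer ({x} : Set G) : Subgroup G) = 4 ∧
      ∀ y ∈ (H0 ⊓ centralizer ({x} : Set G) : Subgroup G), y * y = 1

end Cfsg.Agent.J2Type.HStr
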