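import Mathlib

/-!
Transfer to an abelian subgroup `E` of exponent 2 and odd index, with no fusion on `V ≤ E`:
gives a normal subgroup `K0` of index `|V|` meeting `E` in `U`.
-/

set_option autoImplicit false

namespace Cfsg.Agent.J2Type.TransferAb

open Subgroup

theorem exists_normal {K : Type*} [Group K] [Finite K] (E V U : Subgroup K)
    (hE2 : ∀ x ∈ E, x * x = 1) (hodd : Odd E.index) (hVE : V ≤ E)
    (hV : ∀ v ∈ V, ∀ g : K, g⁻¹ * v * g ∈ E → g⁻¹ * v * g = v)
    (hU : ∀ x ∈ U, ∃ g h : K, x = (g * x * g⁻¹) * (h * x * h⁻¹))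
    (hEUV : ∀ e ∈ E, ∃ a ∈ U, ∃ b ∈ V, e = a * b) :
    ∃ K0 : Subgroup K, K0.Normal ∧ (∀ x ∈ E, x ∈ K0 ↔ x ∈ U) ∧ K0.index = Nat.card V ∧
      (∀ x : K, x ^ 3 = 1 → x ∈ K0) ∧ (∀ x : K, x * x ∈ K0) := by
  classical
  have : IsMulCommutative E := by
    refine ⟨⟨fun a b => ?_⟩⟩
    have ha := hE2 a a.2
    have hb := hE2 b b.2
    have hab := hE2 (a * b : K) (E.mul_mem a.2 b.2)
    apply Subtype.ext
    change (a : K) * b = b * a
    have h1 : (a : K) * b = ((a : K) * b)⁻¹ := eq_inv_of_mul_eq_one_left hab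
    rw [h1, mul_inv_rev, ← eq_inv_of_mul_eq_one_left ha, ← eq_inv_of_mul_eq_one_left hb]
  open scoped IsMulCommutative in
  let τ : K →* E := MonoidHom.transfer (MonoidHom.id E)
  have hτV : ∀ v (hv : v ∈ V), τ v = ⟨v, hVE hv⟩ := by
    intro v hv
    have key : ∀ (k : ℕ) (g₀ : K), g₀⁻¹ * v ^ k * g₀ ∈ E → g₀⁻¹ * v ^ k * g₀ = v ^ k := by
      intro k g₀ hk
      exact hV (v ^ k) (V.pow_mem hv k) g₀ hk
    have h1 := MonoidHom.transfer_eq_pow (MonoidHom.id E) v key
    change τ v = _ at h1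
    rw [h1]
    apply Subtype.ext
    change v ^ E.index = v
    obtain ⟨m, hm⟩ := hodd
    have h2 : v * v = 1 := hE2 v (hVE hv)
    rw [hm, pow_succ, pow_mul, pow_two, h2, one_pow, one_mul]
  have hcomm : ∀ g x : K, τ (g * x * g⁻¹) = τ x := by
    intro g x
    rw [map_mul, map_mul, map_inv]
    have : (τ g * τ x : E) = τ x * τ g := mul_comm' _ _
    rw [this, mul_inv_cancel_right]
  have hτU : ∀ x ∈ U, τ x = 1 := by
    intro x hx
    obtain ⟨g, h, hgh⟩ := hU x hx
    have h1 : τ x = τ x * τ x := by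
      conv_lhs => rw [hgh]
      rw [map_mul, hcomm, hcomm]
    exact left_eq_mul.mp h1
  have hsq : ∀ e : E, e * e = 1 := fun e => Subtype.ext (hE2 e e.2)
  -- the image of τ is V
  have himg : ∀ g : K, ((τ g : E) : K) ∈ V := by
    intro g
    have hEp : IsPGroup 2 E := by
      intro e
      exact ⟨1, by rw [pow_one, pow_two]; exact hsq e⟩
    have hEi : ¬ 2 ∣ E.index := fun h => (Nat.not_even_iff_odd.mpr hodd) (even_iff_two_dvd.mpr h)
    let P : Sylow 2 K := hEp.toSylow hEi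
    obtain ⟨k, m, hm, hkm⟩ := Nat.exists_eq_two_pow_mul_odd (n := orderOf g) (orderOf_pos g).ne'
    have hpg : IsPGroup 2 (zpowers (g ^ m)) := by
      rw [IsPGroup.iff_card]
      rw [Nat.card_zpowers]
      have hd : orderOf (g ^ m) ∣ 2 ^ k := by
        apply orderOf_dvd_of_pow_eq_one
        rw [← pow_mul, mul_comm, ← hkm, pow_orderOf_eq_one]
      obtain ⟨j, _, hj⟩ := (Nat.dvd_prime_pow Nat.prime_two).mp hd
      exact ⟨j, hj⟩
    obtain ⟨R, hR⟩ := hpg.exists_le_sylow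
    obtain ⟨x, hx⟩ := MulAction.exists_smul_eq K R P
    have h1 : x * g ^ m * x⁻¹ ∈ E := by
      have h2 : g ^ m ∈ (R : Subgroup K) := hR (mem_zpowers _)
      have h3 : x * g ^ m * x⁻¹ ∈ (x • R : Sylow 2 K) := by
        exact Subgroup.smul_mem_pointwise_smul _ (MulAut.conj x) _ h2
      rw [hx] at h3
      exact h3
    have h4 : τ (g ^ m) = τ (x * g ^ m * x⁻¹) := (hcomm x _).symm
    obtain ⟨a, ha, b, hb, hab⟩ := hEUV _ h1
    have h5 : τ (g ^ m) = ⟨b, hVE hb⟩ := by
      rw [h4, hab, map_mul, hτU a ha, one_mul, hτV b hb]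
    have h6 : τ g = τ (g ^ m) := by
      obtain ⟨j, hj⟩ := hm
      rw [map_pow, hj, pow_succ, pow_mul, pow_two, hsq, one_pow, one_mul]
    rw [h6, h5]
    exact hb
  refine ⟨τ.ker, inferInstance, ?_, ?_, ?_, ?_⟩
  · intro x hx
    constructor
    · intro h
      obtain ⟨a, ha, b, hb, rfl⟩ := hEUV x hx
      have h1 : τ (a * b) = 1 := h
      rw [map_mul, hτU a ha, one_mul, hτV b hb] at h1
      have h2 : b = 1 := congrArg Subtype.val h1
      rw [h2, mul_one]
      exact ha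
    · intro h
      exact hτU x h
  · rw [Subgroup.index_ker]
    have : τ.range = V.subgroupOf E := by
      ext e
      constructor
      · rintro ⟨g, rfl⟩
        exact mem_subgroupOf.mpr (himg g)
      · intro he
        exact ⟨e, hτV e (mem_subgroupOf.mp he)⟩
    rw [this]
    exact Nat.card_congr (subgroupOfEquivOfLe hVE).toEquiv
  · intro x hx
    have h1 : (τ x) ^ 3 = 1 := by rw [← map_pow, hx, map_one]
    have h2 : (τ x) ^ 3 = τ x := by
      rw [pow_succ, pow_two, hsq, one_mul]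
    rw [MonoidHom.mem_ker, ← h2, h1]
  · intro x
    rw [MonoidHom.mem_ker, map_mul, hsq]

end Cfsg.Agent.J2Type.TransferAb
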