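import Mathlib
import Cfsg.Agent.S0213
import Cfsg.Agent.J2Type.FourSelfCent
import Cfsg.Agent.J2Type.Base
import Cfsg.Agent.J2Type.HStr
import Cfsg.Agent.J2Type.CentU

/-!
Order of a group of Hall–Janko type from the fusion data `Fus z u` and the structure of `C(u)`.
-/

set_option autoImplicit false

namespace Cfsg.Agent.J2Type.Order

open Subgroup Cfsg.Agent.J2Type.Base Cfsg.Agent.J2Type.HStr

variable {G : Type*} [Group G]

theorem mul_self_of_orderOf {x : G} (hx : orderOf x = 2) : x * x = 1 := by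
  rw [← pow_two, ← hx, pow_orderOf_eq_one]

theorem ne_one_of_orderOf {x : G} (hx : orderOf x = 2) : x ≠ 1 := by
  rintro rfl; simp at hx

theorem orderOf_of_mul_self {x : G} (hx : x * x = 1) (h1 : x ≠ 1) : orderOf x = 2 :=
  orderOf_eq_prime (by rw [pow_two]; exact hx) h1

theorem orderOf_of_isConj {x y : G} (h : IsConj x y) : orderOf y = orderOf x := by
  obtain ⟨c, hc⟩ := isConj_iff.mp h
  rw [← hc]
  exact orderOf_injective (MulAut.conj c).toMonoidHom (MulAut.conj c).injective x

/-- If `w` is an involution in `⟨x y⟩`, `x, y` involutions, then `w` commutes with `x` and `y`. -/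
theorem comm_of_mem_zpowers {x y w : G} (hx : x * x = 1) (hy : y * y = 1) (hw : w * w = 1)
    (h : w ∈ zpowers (x * y)) : x * w = w * x ∧ y * w = w * y := by
  obtain ⟨k, rfl⟩ := mem_zpowers_iff.mp h
  have hxi : x⁻¹ = x := (eq_inv_of_mul_eq_one_left hx).symm
  have hyi : y⁻¹ = y := (eq_inv_of_mul_eq_one_left hy).symm
  have hwi : ((x * y) ^ k)⁻¹ = (x * y) ^ k := (eq_inv_of_mul_eq_one_left hw).symm
  have h1 : x * (x * y) * x⁻¹ = (x * y)⁻¹ := by
    rw [mul_inv_rev, hyi, hxi, ← mul_assoc, hx, one_mul]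
  have h2 : x * (x * y) ^ k * x⁻¹ = (x * y) ^ k := by
    rw [← conj_zpow, h1, inv_zpow, hwi]
  have h3 : x * (x * y) ^ k = (x * y) ^ k * x := by
    calc x * (x * y) ^ k = x * (x * y) ^ k * x⁻¹ * x := by group
      _ = (x * y) ^ k * x := by rw [h2]
  refine ⟨h3, ?_⟩
  have h4 : (x * y) * (x * y) ^ k = (x * y) ^ k * (x * y) := by
    rw [← zpow_one_add, ← zpow_add_one, add_comm]
  have h5 : x * (y * (x * y) ^ k) = x * ((x * y) ^ k * y) := by
    calc x * (y * (x * y) ^ k) = (x * y) * (x * y) ^ k := by group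
      _ = (x * y) ^ k * (x * y) := h4
      _ = ((x * y) ^ k * x) * y := by group
      _ = (x * (x * y) ^ k) * y := by rw [h3]
      _ = x * ((x * y) ^ k * y) := by group
  exact mul_left_cancel h5

/-! ### Small counting tools -/

theorem card_split {α : Type*} [Finite α] (p q : α → Prop) :
    Nat.card {x // p x} = Nat.card {x // p x ∧ q x} + Nat.card {x // p x ∧ ¬ q x} := by
  classical
  rw [← Nat.card_sum]
  apply Nat.card_congr
  exact {
    toFun := fun x => if h : q x.1 then Sum.inl ⟨x.1, x.2, h⟩ else Sum.inr ⟨x.1, x.2, h⟩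
    invFun := fun y => match y with
      | Sum.inl y => ⟨y.1, y.2.1⟩
      | Sum.inr y => ⟨y.1, y.2.1⟩
    left_inv := by
      intro x
      by_cases h : q x.1 <;> simp [h]
    right_inv := by
      rintro (⟨y, h1, h2⟩ | ⟨y, h1, h2⟩) <;> simp [h2] }

theorem card_sigma_const {α : Type*} [Finite α] {β : α → Type*} [∀ a, Finite (β a)] (n : ℕ)
    (h : ∀ a, Nat.card (β a) = n) : Nat.card (Σ a, β a) = Nat.card α * n := by
  classical
  haveI := Fintype.ofFinite α
  rw [Nat.card_sigma, Finset.sum_congr rfl (fun a _ => h a), Finset.sum_const, Finset.card_univ,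
    Nat.card_eq_fintype_card, smul_eq_mul]

/-- transport of a counted set by conjugation -/
theorem card_conj (g : G) (p q : G → Prop) (h : ∀ x, p x ↔ q (g * x * g⁻¹)) :
    Nat.card {x // p x} = Nat.card {x // q x} :=
  Nat.card_congr ((MulAut.conj g).toEquiv.subtypeEquiv (fun x => by simpa using h x))

theorem isConj_conj {a x : G} (g : G) : IsConj a x ↔ IsConj a (g * x * g⁻¹) := by
  have h1 : IsConj x (g * x * g⁻¹) := isConj_iff.mpr ⟨g, rfl⟩
  exact ⟨fun h => h.trans h1, fun h => h.trans h1.symm⟩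

theorem comm_conj {x y : G} (g : G) :
    x * y = y * x ↔ (g * x * g⁻¹) * (g * y * g⁻¹) = (g * y * g⁻¹) * (g * x * g⁻¹) := by
  have h1 : (g * x * g⁻¹) * (g * y * g⁻¹) = g * (x * y) * g⁻¹ := by group
  have h2 : (g * y * g⁻¹) * (g * x * g⁻¹) = g * (y * x) * g⁻¹ := by group
  rw [h1, h2]
  constructor
  · intro h; rw [h]
  · intro h; exact mul_left_cancel (mul_right_cancel h)

section Fus

variable {z u : G} (F : Fus z u) [Finite G]
include F

omit [Finite G] in
theorem zz : z * z = 1 := mul_self_of_orderOf F.hz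

omit [Finite G] in
theorem uu : u * u = 1 := mul_self_of_orderOf F.hu

theorem card_comm_three {y : G} (hy : IsConj u y) (hyz : y * z = z * y) :
    Nat.card {x : G // (IsConj z x ∧ x * z = z * x) ∧ x * y = y * x} = 3 := by
  obtain ⟨g, hg1, hg2⟩ := F.pair z y (IsConj.refl z) hy hyz.symm
  rw [← F.card3]
  symm
  apply card_conj g
  intro x
  rw [and_assoc]
  have h1 := isConj_conj (a := z) (x := x) g
  have h2 := comm_conj (x := x) (y := z) g
  have h3 := comm_conj (x := x) (y := u) g
  rw [hg1] at h2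
  rw [hg2] at h3
  rw [← h1, ← h2, ← h3]

theorem card_az :
    Nat.card {p : G × G // IsConj z p.1 ∧ IsConj u p.2 ∧ z ∈ zpowers (p.1 * p.2)} = 960 := by
  have key : ∀ p : G × G, (IsConj z p.1 ∧ IsConj u p.2 ∧ z ∈ zpowers (p.1 * p.2)) ↔
      ((IsConj u p.2 ∧ p.2 * z = z * p.2) ∧
        ((IsConj z p.1 ∧ p.1 * z = z * p.1) ∧ ¬ p.1 * p.2 = p.2 * p.1)) := by
    rintro ⟨x, y⟩
    constructor
    · rintro ⟨hx, hy, hm⟩
      have hx2 := mul_self_of_orderOf ((orderOf_of_isConj hx).trans F.hz)
      have hy2 := mul_self_of_orderOf ((orderOf_of_isConj hy).trans F.hu)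
      obtain ⟨h1, h2⟩ := comm_of_mem_zpowers hx2 hy2 (zz F) hm
      refine ⟨⟨hy, h2⟩, ⟨hx, h1⟩, ?_⟩
      intro hc
      -- then `x * y = z`
      change x * y = y * x at hc
      have h3 : (x * y) * (x * y) = 1 := by
        calc (x * y) * (x * y) = x * (y * x) * y := by group
          _ = (x * x) * (y * y) := by rw [← hc]; group
          _ = 1 := by rw [hx2, hy2, one_mul]
      have h4 : x * y = z := by
        obtain ⟨k, hk⟩ := mem_zpowers_iff.mp hm
        rcases Int.even_or_odd' k with ⟨m, rfl | rfl⟩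
        · exfalso
          apply ne_one_of_orderOf F.hz
          rw [← hk]
          change (x * y) ^ (2 * m) = 1
          rw [zpow_mul, zpow_two, h3, one_zpow]
        · rw [← hk]
          change x * y = (x * y) ^ (2 * m + 1)
          rw [zpow_add, zpow_mul, zpow_two, h3, one_zpow, one_mul, zpow_one]
      have h5 : y = x * z := by
        rw [← h4, ← mul_assoc, hx2, one_mul]
      by_cases hxz : x = z
      · rw [hxz, zz F] at h5
        have := (orderOf_of_isConj hy).trans F.hu
        rw [h5] at this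
        simp at this
      · have h6 := F.mul_z x z hx (IsConj.refl z) h1 hxz
        rw [← h5] at h6
        exact F.nconj (h6.trans hy.symm)
    · rintro ⟨⟨hy, h2⟩, ⟨hx, h1⟩, hc⟩
      refine ⟨hx, hy, ?_⟩
      rw [mem_zpowers_iff]
      refine ⟨4, ?_⟩
      have := F.pow4 x y hx hy h1 h2 hc
      exact_mod_cast this
  rw [Nat.card_congr (Equiv.subtypeEquivRight key)]
  have e : {p : G × G // ((IsConj u p.2 ∧ p.2 * z = z * p.2) ∧
        ((IsConj z p.1 ∧ p.1 * z = z * p.1) ∧ ¬ p.1 * p.2 = p.2 * p.1))} ≃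
      Σ y : {y : G // IsConj u y ∧ y * z = z * y},
        {x : G // (IsConj z x ∧ x * z = z * x) ∧ ¬ x * y.1 = y.1 * x} :=
    { toFun := fun p => ⟨⟨p.1.2, p.2.1⟩, ⟨p.1.1, p.2.2⟩⟩
      invFun := fun q => ⟨(q.2.1, q.1.1), q.1.2, q.2.2⟩
      left_inv := fun p => rfl
      right_inv := fun q => rfl }
  rw [Nat.card_congr e, card_sigma_const 8, F.card120]
  rintro ⟨y, hy, hyz⟩
  have h1 := card_split (fun x : G => IsConj z x ∧ x * z = z * x) (fun x => x * y = y * x)
  rw [F.card11, card_comm_three F hy hyz] at h1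
  change Nat.card {x : G // (IsConj z x ∧ x * z = z * x) ∧ ¬ x * y = y * x} = 8
  omega

/-- the number of `z`-conjugates is at least 91 -/
theorem card_class_ge : 91 ≤ Nat.card {x : G // IsConj z x} := by
  classical
  -- neighbours of `z` different from `z`
  have hX : Nat.card {x : G // (IsConj z x ∧ x * z = z * x) ∧ ¬ x = z} = 10 := by
    have h1 := card_split (fun x : G => IsConj z x ∧ x * z = z * x) (fun x => x = z)
    have h2 : Nat.card {x : G // (IsConj z x ∧ x * z = z * x) ∧ x = z} = 1 := by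
      rw [Nat.card_eq_one_iff_unique]
      refine ⟨⟨?_⟩, ⟨⟨z, ⟨IsConj.refl z, rfl⟩, rfl⟩⟩⟩
      rintro ⟨x, -, hx⟩ ⟨y, -, hy⟩
      exact Subtype.ext (hx.trans hy.symm)
    rw [F.card11, h2] at h1
    omega
  -- for each of them 8 neighbours not commuting with `z`
  have h8 : ∀ x : {x : G // (IsConj z x ∧ x * z = z * x) ∧ ¬ x = z},
      Nat.card {y : G // (IsConj z y ∧ y * x.1 = x.1 * y) ∧ ¬ y * z = z * y} = 8 := by
    rintro ⟨x, ⟨hx, hxz⟩, hne⟩
    obtain ⟨g, hg⟩ := isConj_iff.mp hx
    have h11 : Nat.card {y : G // IsConj z y ∧ y * x = x * y} = 11 := by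
      rw [← F.card11]
      symm
      apply card_conj g
      intro y
      have h1 := isConj_conj (a := z) (x := y) g
      have h2 := comm_conj (x := y) (y := z) g
      rw [hg] at h2
      rw [← h1, ← h2]
    have h3 := card_split (fun y : G => IsConj z y ∧ y * x = x * y) (fun y => y * z = z * y)
    have h4 := card_split (fun y : G => IsConj z y ∧ y * z = z * y) (fun y => x * y = y * x)
    have h5 := F.card8 x hx hxz hne
    have h6 : Nat.card {y : G // (IsConj z y ∧ y * z = z * y) ∧ ¬ x * y = y * x} = 8 := by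
      rw [← h5]
      exact Nat.card_congr (Equiv.subtypeEquivRight (fun y => by rw [and_assoc]))
    have h7 : Nat.card {y : G // (IsConj z y ∧ y * x = x * y) ∧ y * z = z * y} =
        Nat.card {y : G // (IsConj z y ∧ y * z = z * y) ∧ x * y = y * x} :=
      Nat.card_congr (Equiv.subtypeEquivRight (fun y => by
        constructor
        · rintro ⟨⟨a, b⟩, c⟩; exact ⟨⟨a, c⟩, b.symm⟩
        · rintro ⟨⟨a, c⟩, b⟩; exact ⟨⟨a, b.symm⟩, c⟩))
    rw [F.card11, h6] at h4
    rw [h11, h7] at h3
    change Nat.card {y : G // (IsConj z y ∧ y * x = x * y) ∧ ¬ y * z = z * y} = 8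
    omega
  have hsig := card_sigma_const 8 h8
  rw [hX] at hsig
  have hS : Nat.card (Σ x : {x : G // (IsConj z x ∧ x * z = z * x) ∧ ¬ x = z},
      {y : G // (IsConj z y ∧ y * x.1 = x.1 * y) ∧ ¬ y * z = z * y}) ≤
      Nat.card {y : G // IsConj z y ∧ ¬ y * z = z * y} := by
    apply Nat.card_le_card_of_injective
      (fun p : (Σ x : {x : G // (IsConj z x ∧ x * z = z * x) ∧ ¬ x = z},
        {y : G // (IsConj z y ∧ y * x.1 = x.1 * y) ∧ ¬ y * z = z * y}) =>
        (⟨p.2.1, p.2.2.1.1, p.2.2.2⟩ : {y : G // IsConj z y ∧ ¬ y * z = z * y}))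
    rintro ⟨⟨x, ⟨hx, hxz⟩, hxne⟩, ⟨y, ⟨hy, hyx⟩, hyz⟩⟩ ⟨⟨x', ⟨hx', hxz'⟩, hxne'⟩, ⟨y', ⟨hy', hyx'⟩, hyz'⟩⟩ heq
    have h1 : y = y' := congrArg Subtype.val heq
    subst h1
    have hxx : x = x' := by
      by_contra hne
      by_cases hc : x * x' = x' * x
      · -- commuting: `x' = x z`
        have h3 : Nat.card {w : G // (IsConj z w ∧ w * z = z * w) ∧ x * w = w * x} = 3 := by
          have h4 := card_split (fun y : G => IsConj z y ∧ y * z = z * y) (fun y => x * y = y * x)
          have h5 := F.card8 x hx hxz hxne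
          have h6 : Nat.card {y : G // (IsConj z y ∧ y * z = z * y) ∧ ¬ x * y = y * x} = 8 := by
            rw [← h5]
            exact Nat.card_congr (Equiv.subtypeEquivRight (fun y => by rw [and_assoc]))
          rw [F.card11, h6] at h4
          omega
        have hx2 := mul_self_of_orderOf ((orderOf_of_isConj hx).trans F.hz)
        have hx2' := mul_self_of_orderOf ((orderOf_of_isConj hx').trans F.hz)
        have hz1 := ne_one_of_orderOf F.hz
        have hxzc := F.mul_z x z hx (IsConj.refl z) hxz hxne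
        have h4 : ({x, z, x * z, x'} : Set G) ⊆ {w : G | (IsConj z w ∧ w * z = z * w) ∧ x * w = w * x} := by
          rintro w (rfl | rfl | rfl | rfl)
          · exact ⟨⟨hx, hxz⟩, rfl⟩
          · exact ⟨⟨IsConj.refl _, rfl⟩, hxz⟩
          · refine ⟨⟨hxzc, ?_⟩, ?_⟩
            · rw [mul_assoc, zz F, mul_one, ← mul_assoc, ← hxz, mul_assoc, zz F, mul_one]
            · rw [← mul_assoc, hx2, one_mul, mul_assoc, ← hxz, ← mul_assoc, hx2, one_mul]
          · exact ⟨⟨hx', hxz'⟩, hc⟩
        have hxzne : x ≠ x * z := by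
          intro h0
          apply hz1
          exact mul_left_cancel (a := x) (by rw [mul_one, ← h0])
        have hzxz : z ≠ x * z := by
          intro h0
          apply ne_one_of_orderOf ((orderOf_of_isConj hx).trans F.hz)
          exact mul_right_cancel (b := z) (by rw [one_mul, ← h0])
        have hx'xz : x * z ≠ x' := by
          intro h0
          -- then `z = x * x'` commutes with `y`
          apply hyz
          have h5 : z = x * x' := by rw [← h0, ← mul_assoc, hx2, one_mul]
          rw [h5]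
          calc y * (x * x') = (y * x) * x' := by group
            _ = x * (y * x') := by rw [hyx]; group
            _ = (x * x') * y := by rw [hyx']; group
        have h5 : ({x, z, x * z, x'} : Set G).ncard = 4 := by
          rw [Set.ncard_insert_of_notMem, Set.ncard_insert_of_notMem, Set.ncard_pair hx'xz]
          · simp only [Set.mem_insert_iff, Set.mem_singleton_iff, not_or]
            exact ⟨hzxz, fun h0 => hxne' h0.symm⟩
          · simp only [Set.mem_insert_iff, Set.mem_singleton_iff, not_or]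
            exact ⟨hxne, hxzne, hne⟩
        have h6 := Set.ncard_le_ncard h4 (Set.toFinite _)
        rw [h5] at h6
        have h7 : {w : G | (IsConj z w ∧ w * z = z * w) ∧ x * w = w * x}.ncard = 3 := h3
        omega
      · -- non-commuting: `(x x')² = z` and `= y`
        have h3 := F.sq_z x x' hx hx' hxz hxz' hc
        obtain ⟨g, hg⟩ := isConj_iff.mp hy
        -- transport to `y`
        have h4 : (g⁻¹ * x * g * (g⁻¹ * x' * g)) ^ 2 = z := by
          apply F.sq_z
          · have := (isConj_conj (a := z) (x := x) g⁻¹).mp hx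
            simpa using this
          · have := (isConj_conj (a := z) (x := x') g⁻¹).mp hx'
            simpa using this
          · have := (comm_conj (x := x) (y := y) g⁻¹).mp hyx.symm
            have h5 : g⁻¹ * y * g⁻¹⁻¹ = z := by rw [← hg]; group
            rw [h5] at this
            simpa using this
          · have := (comm_conj (x := x') (y := y) g⁻¹).mp hyx'.symm
            have h5 : g⁻¹ * y * g⁻¹⁻¹ = z := by rw [← hg]; group
            rw [h5] at this
            simpa using this
          · intro h0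
            apply hc
            have := (comm_conj (x := x) (y := x') g⁻¹)
            rw [inv_inv] at this
            exact this.mpr h0
        have h5 : g⁻¹ * (x * x') ^ 2 * g = z := by
          rw [← h4]
          rw [pow_two, pow_two]; group
        rw [h3] at h5
        apply hyz
        have h6 : z = y := by
          calc z = g * (g⁻¹ * z * g) * g⁻¹ := by group
            _ = y := by rw [h5, hg]
        rw [← h6]
    subst hxx
    rfl
  have h9 := card_split (fun y : G => IsConj z y) (fun y => y * z = z * y)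
  rw [F.card11] at h9
  omega

end Fus

section H

variable {z u : G} {H0 : Subgroup G} (F : Fus z u) (S : HStr z u H0) [Finite G]
include F S

omit [Finite G] in
theorem comm_u {x : G} (hx : x ∈ H0) : x * u = u * x := by
  have := S.le hx
  rw [mem_centralizer_singleton_iff] at this
  exact this

omit [Finite G] in
theorem pow_mem_or {h : G} (hh : h * u = u * h) (k : ℤ) :
    (Even k → h ^ k ∈ H0) ∧ (Odd k → h⁻¹ * h ^ k ∈ H0) := by
  have hc : h ∈ centralizer ({u} : Set G) := by
    rw [mem_centralizer_singleton_iff]; exact hh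
  have h2 := S.sq_mem h hc
  constructor
  · rintro ⟨m, rfl⟩
    rw [← two_mul, zpow_mul, zpow_two]
    exact H0.zpow_mem h2 m
  · rintro ⟨m, rfl⟩
    rw [zpow_add, zpow_one, zpow_mul, zpow_two]
    have : h⁻¹ * ((h * h) ^ m * h) = h⁻¹ * (h * h) ^ m * h := by group
    rw [this]
    have h3 := S.conj_mem h⁻¹ (inv_mem hc) _ (H0.zpow_mem h2 m)
    rw [inv_inv] at h3
    exact h3

theorem card_au :
    Nat.card {p : G × G // IsConj z p.1 ∧ IsConj u p.2 ∧ u ∈ zpowers (p.1 * p.2)} =
    Nat.card {p : H0 × H0 // (p.1 ≠ 1 ∧ p.1 * p.1 = 1) ∧ (p.2 ≠ 1 ∧ p.2 * p.2 = 1) ∧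
      Odd (orderOf (p.1 * p.2))} := by
  have hu2 := uu F
  have huinv : u⁻¹ = u := (eq_inv_of_mul_eq_one_left hu2).symm
  have key : ∀ x y : G, IsConj z x → IsConj u y → u ∈ zpowers (x * y) →
      x ∈ H0 ∧ u * y ∈ H0 ∧ (u * y) * (u * y) = 1 ∧ u * y ≠ 1 ∧ Odd (orderOf (x * (u * y))) := by
    intro x y hx hy hm
    have hx2 := mul_self_of_orderOf ((orderOf_of_isConj hx).trans F.hz)
    have hx1 := ne_one_of_orderOf ((orderOf_of_isConj hx).trans F.hz)
    have hy2 := mul_self_of_orderOf ((orderOf_of_isConj hy).trans F.hu)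
    obtain ⟨h1, h2⟩ := comm_of_mem_zpowers hx2 hy2 hu2 hm
    have hxH : x ∈ H0 := S.z_mem x hx h1
    obtain ⟨k, hk⟩ := mem_zpowers_iff.mp hm
    have hxyu : (x * y) * u = u * (x * y) := by
      rw [mul_assoc, h2, ← mul_assoc, h1, mul_assoc]
    have hpow := pow_mem_or F S hxyu k
    have hodd : Odd k := by
      rcases Int.even_or_odd k with he | ho
      · exfalso
        apply S.notMem
        rw [← hk]
        exact hpow.1 he
      · exact ho
    have h3 := hpow.2 hodd
    rw [hk] at h3
    -- `(x y)⁻¹ u ∈ H0`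
    have hyH : u * y ∈ H0 := by
      have h4 := H0.mul_mem hxH (H0.mul_mem (S.conj_mem u (by
        rw [mem_centralizer_singleton_iff]) _ (H0.inv_mem h3)) (H0.one_mem))
      -- (x y)⁻¹ u inverse is u⁻¹ x y ; conj by u : u (u⁻¹ x y) u⁻¹ = x y u
      have h5 : x * (u * ((x * y)⁻¹ * u)⁻¹ * u⁻¹ * 1) = u * y := by
        calc x * (u * ((x * y)⁻¹ * u)⁻¹ * u⁻¹ * 1) = x * x * (y * u⁻¹) := by group
          _ = y * u := by rw [hx2, one_mul, huinv]
          _ = u * y := h2
      rw [h5] at h4
      exact h4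
    have hw2 : (u * y) * (u * y) = 1 := by
      calc (u * y) * (u * y) = u * (y * u) * y := by group
        _ = (u * u) * (y * y) := by rw [h2]; group
        _ = 1 := by rw [hu2, hy2, one_mul]
    have hxw : (x * (u * y)) ^ k = 1 := by
      have hcomm : Commute u (x * (u * y)) := by
        have : u * (x * (u * y)) = x * (u * y) * u := by
          calc u * (x * (u * y)) = (u * x) * (u * y) := by group
            _ = x * (u * (u * y)) := by rw [← h1]; group
            _ = x * (u * (y * u)) := by rw [h2]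
            _ = x * (u * y) * u := by group
        exact this
      have h6 : x * y = u * (x * (u * y)) := by
        calc x * y = x * (u * u) * y := by rw [hu2, mul_one]
          _ = (x * u) * (u * y) := by group
          _ = u * (x * (u * y)) := by rw [h1]; group
      have h7 : u ^ k = u := by
        obtain ⟨m, rfl⟩ := hodd
        rw [zpow_add, zpow_mul, zpow_two, hu2, one_zpow, one_mul, zpow_one]
      have h8 : (x * y) ^ k = u * (x * (u * y)) ^ k := by
        rw [h6, hcomm.mul_zpow, h7]
      rw [hk] at h8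
      exact mul_left_cancel (a := u) (by rw [mul_one, ← h8])
    have hoddo : Odd (orderOf (x * (u * y))) := by
      have h9 : (orderOf (x * (u * y)) : ℤ) ∣ k := orderOf_dvd_iff_zpow_eq_one.mpr hxw
      have h10 : Odd (orderOf (x * (u * y)) : ℤ) := by
        obtain ⟨m, rfl⟩ := h9
        exact (Int.odd_mul.mp hodd).1
      exact_mod_cast h10
    refine ⟨hxH, hyH, hw2, ?_, hoddo⟩
    intro h0
    rw [h0, mul_one, orderOf_of_mul_self hx2 hx1] at hoddo
    exact absurd hoddo (by decide)
  have key2 : ∀ x w : G, x ∈ H0 → w ∈ H0 → x ≠ 1 → x * x = 1 → w ≠ 1 → w * w = 1 →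
      Odd (orderOf (x * w)) → IsConj z x ∧ IsConj u (u * w) ∧ u ∈ zpowers (x * (u * w)) := by
    intro x w hx hw hx1 hx2 hw1 hw2 hodd
    have hcx := comm_u F S hx
    have hcw := comm_u F S hw
    refine ⟨S.invol x hx (orderOf_of_mul_self hx2 hx1), ?_, ?_⟩
    · have h1 : (u * w) * (u * w) = 1 := by
        calc (u * w) * (u * w) = u * (w * u) * w := by group
          _ = (u * u) * (w * w) := by rw [hcw]; group
          _ = 1 := by rw [hu2, hw2, one_mul]
      have h2 : u * w ≠ 1 := by
        intro h0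
        apply S.notMem
        have : u = w⁻¹ := eq_inv_of_mul_eq_one_left h0
        rw [this]
        exact H0.inv_mem hw
      rcases F.cover _ (orderOf_of_mul_self h1 h2) with h3 | h3
      · exfalso
        apply S.notMem
        have h4 := S.z_mem _ h3 (by rw [mul_assoc, hcw])
        have h5 := H0.mul_mem h4 (H0.inv_mem hw)
        rw [mul_inv_cancel_right] at h5
        exact h5
      · exact h3
    · rw [mem_zpowers_iff]
      refine ⟨(orderOf (x * w) : ℤ), ?_⟩
      have hcomm : Commute u (x * w) := by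
        have : u * (x * w) = x * w * u := by
          calc u * (x * w) = (u * x) * w := by group
            _ = x * (u * w) := by rw [← hcx]; group
            _ = x * w * u := by rw [← hcw]; group
        exact this
      have h6 : x * (u * w) = u * (x * w) := by
        calc x * (u * w) = (x * u) * w := by group
          _ = u * (x * w) := by rw [hcx]; group
      rw [h6, hcomm.mul_zpow, zpow_natCast, zpow_natCast, pow_orderOf_eq_one, mul_one]
      obtain ⟨m, hm⟩ := hodd
      rw [hm, pow_succ, pow_mul, pow_two, hu2, one_pow, one_mul]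
  apply Nat.card_congr
  exact {
    toFun := fun p =>
      have hk := key p.1.1 p.1.2 p.2.1 p.2.2.1 p.2.2.2
      ⟨(⟨p.1.1, hk.1⟩, ⟨u * p.1.2, hk.2.1⟩), by
        refine ⟨⟨?_, ?_⟩, ⟨?_, ?_⟩, ?_⟩
        · intro h0
          have h1 : p.1.1 = 1 := congrArg Subtype.val h0
          exact ne_one_of_orderOf ((orderOf_of_isConj p.2.1).trans F.hz) h1
        · apply Subtype.ext
          exact mul_self_of_orderOf ((orderOf_of_isConj p.2.1).trans F.hz)
        · intro h0
          exact hk.2.2.2.1 (congrArg Subtype.val h0)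
        · apply Subtype.ext
          exact hk.2.2.1
        · have := hk.2.2.2.2
          rwa [← Subgroup.orderOf_coe]⟩
    invFun := fun q =>
      have hk := key2 q.1.1.1 q.1.2.1 q.1.1.2 q.1.2.2
        (fun h0 => q.2.1.1 (Subtype.ext h0)) (congrArg Subtype.val q.2.1.2)
        (fun h0 => q.2.2.1.1 (Subtype.ext h0)) (congrArg Subtype.val q.2.2.1.2)
        (by have := q.2.2.2; rwa [← Subgroup.orderOf_coe] at this)
      ⟨(q.1.1.1, u * q.1.2.1), hk.1, hk.2.1, hk.2.2⟩
    left_inv := by
      rintro ⟨⟨x, y⟩, h⟩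
      apply Subtype.ext
      change (x, u * (u * y)) = (x, y)
      rw [← mul_assoc, hu2, one_mul]
    right_inv := by
      rintro ⟨⟨⟨x, hx⟩, ⟨w, hw⟩⟩, h⟩
      apply Subtype.ext
      apply Prod.ext
      · rfl
      · apply Subtype.ext
        change u * (u * w) = w
        rw [← mul_assoc, hu2, one_mul] }

/-- The four-group data for `H0`. -/
theorem exists_hyp : ∃ U : Subgroup H0, FourSelfCent.Hyp U := by
  have hzH : z ∈ H0 := S.z_mem z (IsConj.refl z) F.comm
  have hz1 := ne_one_of_orderOf F.hz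
  set U : Subgroup H0 := (H0 ⊓ centralizer ({z} : Set G)).subgroupOf H0 with hU
  have memU : ∀ x : H0, x ∈ U ↔ (x : G) * z = z * x := by
    intro x
    rw [hU, mem_subgroupOf, mem_inf, mem_centralizer_singleton_iff]
    constructor
    · rintro ⟨-, h⟩; exact h
    · intro h; exact ⟨x.2, h⟩
  have hcardU : Nat.card U = 4 := by
    rw [← (S.cent4 z hzH F.hz).1]
    exact Nat.card_congr (subgroupOfEquivOfLe inf_le_left).toEquiv
  have hsq : ∀ x ∈ U, x * x = 1 := by
    intro x hx
    apply Subtype.ext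
    exact (S.cent4 z hzH F.hz).2 x (mem_inf.mpr ⟨x.2, by rw [mem_centralizer_singleton_iff]; exact (memU x).mp hx⟩)
  have hcommU : ∀ x ∈ U, ∀ y ∈ U, x * y = y * x := by
    intro x hx y hy
    have h1 := hsq _ (U.mul_mem hx hy)
    have h2 := hsq _ hx
    have h3 := hsq _ hy
    have : x * y = (x * y)⁻¹ := eq_inv_of_mul_eq_one_left h1
    rw [this, mul_inv_rev, ← eq_inv_of_mul_eq_one_left h2, ← eq_inv_of_mul_eq_one_left h3]
  refine ⟨U, hcardU, hsq, ?_⟩
  intro v hv hv1 x hx
  -- the centraliser of `v` in `H0` has order 4 and contains `U`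
  have hvo : orderOf (v : G) = 2 := by
    apply orderOf_of_mul_self
    · exact congrArg Subtype.val (hsq v hv)
    · intro h0; exact hv1 (Subtype.ext h0)
  set W : Subgroup H0 := (H0 ⊓ centralizer ({(v : G)} : Set G)).subgroupOf H0 with hW
  have hcardW : Nat.card W = 4 := by
    rw [← (S.cent4 v v.2 hvo).1]
    exact Nat.card_congr (subgroupOfEquivOfLe inf_le_left).toEquiv
  have hUW : U ≤ W := by
    intro y hy
    rw [hW, mem_subgroupOf, mem_inf, mem_centralizer_singleton_iff]
    exact ⟨y.2, congrArg Subtype.val (hcommU y hy v hv)⟩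
  have hEq : U = W := eq_of_le_of_card_ge hUW (by rw [hcardU, hcardW])
  rw [hEq, hW, mem_subgroupOf, mem_inf, mem_centralizer_singleton_iff]
  exact ⟨x.2, congrArg Subtype.val hx⟩

end H

/-- In the small cases all involutions lie in the four-group. -/
theorem count_small {K : Type*} [Group K] [Finite K] {U : Subgroup K} (h : FourSelfCent.Hyp U)
    (hK : Nat.card K = 4 ∨ Nat.card K = 12) :
    Nat.card {p : K × K // (p.1 ≠ 1 ∧ p.1 * p.1 = 1) ∧ (p.2 ≠ 1 ∧ p.2 * p.2 = 1) ∧
      Odd (orderOf (p.1 * p.2))} = 3 := by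
  have hN : normalizer (U : Set K) = ⊤ := by
    apply eq_top_of_card_eq
    rcases h.card_normalizer with hN | hN
    · rw [hN, h.card_eq_four hN]
    · rcases hK with hK | hK
      · have := card_le_card_group (normalizer (U : Set K))
        omega
      · rw [hN, hK]
  have hmem : ∀ x : K, x * x = 1 → x ∈ U := by
    intro x hx
    apply h.mem_of_sq_of_mem_normalizer hx
    rw [hN]; exact mem_top x
  rw [← h.card_ne_one]
  apply Nat.card_congr
  exact {
    toFun := fun p => ⟨p.1.1, hmem _ p.2.1.2, p.2.1.1⟩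
    invFun := fun x => ⟨(x.1, x.1), ⟨x.2.2, h.sq _ x.2.1⟩, ⟨x.2.2, h.sq _ x.2.1⟩, by
      change Odd (orderOf (x.1 * x.1))
      rw [h.sq _ x.2.1, orderOf_one]; decide⟩
    left_inv := by
      rintro ⟨⟨x, w⟩, ⟨hx1, hx2⟩, ⟨hw1, hw2⟩, hodd⟩
      apply Subtype.ext
      apply Prod.ext
      · rfl
      · change x = w
        change Odd (orderOf (x * w)) at hodd
        have h1 : (x * w) * (x * w) = 1 := h.sq _ (U.mul_mem (hmem x hx2) (hmem w hw2))
        by_contra hne
        have h2 : x * w ≠ 1 := by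
          intro h0
          apply hne
          have : x = w⁻¹ := eq_inv_of_mul_eq_one_left h0
          rw [this]
          exact (eq_inv_of_mul_eq_one_left hw2).symm
        rw [orderOf_of_mul_self h1 h2] at hodd
        exact absurd hodd (by decide)
    right_inv := fun x => rfl }

/-- involutions of `A₅` as permutations -/
def T5 : Finset (Equiv.Perm (Fin 5)) :=
  Finset.univ.filter (fun p => (p ≠ 1 ∧ p * p = 1) ∧ Equiv.Perm.sign p = 1)

/-- pairs of involutions of `A₅` with product of odd order -/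
def S5 : Finset (Equiv.Perm (Fin 5) × Equiv.Perm (Fin 5)) :=
  (T5 ×ˢ T5).filter (fun p => (p.1 * p.2) = 1 ∨ ¬ ((p.1 * p.2) * (p.1 * p.2) = 1))

theorem card_S5 : S5.card = 195 := by
  decide +kernel

theorem mem_S5 (x w : Equiv.Perm (Fin 5)) : (x, w) ∈ S5 ↔
    (((x ≠ 1 ∧ x * x = 1) ∧ Equiv.Perm.sign x = 1) ∧ ((w ≠ 1 ∧ w * w = 1) ∧ Equiv.Perm.sign w = 1)) ∧
      (x * w = 1 ∨ ¬ (x * w) * (x * w) = 1) := by
  unfold S5 T5
  simp only [Finset.mem_filter, Finset.mem_product, Finset.mem_univ, true_and]

theorem perm5 : ∀ y : Equiv.Perm (Fin 5), Equiv.Perm.sign y = 1 → y * y ≠ 1 →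
    (y ^ 3 = 1 ∨ y ^ 5 = 1) := by
  decide +kernel

theorem odd_iff {K : Type*} [Group K] (e : K ≃* alternatingGroup (Fin 5)) (x : K) :
    Odd (orderOf x) ↔ x = 1 ∨ ¬ x * x = 1 := by
  constructor
  · intro hodd
    by_contra hcon
    push Not at hcon
    rw [orderOf_of_mul_self hcon.2 hcon.1] at hodd
    exact absurd hodd (by decide)
  · rintro (rfl | h)
    · rw [orderOf_one]; decide
    · have h1 : (e x).1 * (e x).1 ≠ 1 := by
        intro h0
        apply h
        have h2 : e (x * x) = 1 := by
          rw [map_mul]; exact Subtype.ext h0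
        exact (map_eq_one_iff e e.injective).mp h2
      rcases perm5 _ (e x).2 h1 with h3 | h3
      · have h4 : x ^ 3 = 1 := by
          have h2 : e (x ^ 3) = 1 := by
            rw [map_pow]; exact Subtype.ext h3
          exact (map_eq_one_iff e e.injective).mp h2
        exact Odd.of_dvd_nat (by decide : Odd 3) (orderOf_dvd_of_pow_eq_one h4)
      · have h4 : x ^ 5 = 1 := by
          have h2 : e (x ^ 5) = 1 := by
            rw [map_pow]; exact Subtype.ext h3
          exact (map_eq_one_iff e e.injective).mp h2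
        exact Odd.of_dvd_nat (by decide : Odd 5) (orderOf_dvd_of_pow_eq_one h4)

theorem count_sixty {K : Type*} [Group K] (e : K ≃* alternatingGroup (Fin 5)) :
    Nat.card {p : K × K // (p.1 ≠ 1 ∧ p.1 * p.1 = 1) ∧ (p.2 ≠ 1 ∧ p.2 * p.2 = 1) ∧
      Odd (orderOf (p.1 * p.2))} = 195 := by
  have hS : Nat.card {p : Equiv.Perm (Fin 5) × Equiv.Perm (Fin 5) // p ∈ S5} = 195 := by
    rw [Nat.card_eq_fintype_card, Fintype.card_coe, card_S5]
  rw [← hS]
  have hne : ∀ x : K, x ≠ 1 ↔ (e x).1 ≠ 1 := by
    intro x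
    rw [not_iff_not, ← map_eq_one_iff e e.injective]
    exact ⟨fun h => congrArg Subtype.val h, fun h => Subtype.ext h⟩
  have hsq : ∀ x : K, x * x = 1 ↔ (e x).1 * (e x).1 = 1 := by
    intro x
    rw [← map_eq_one_iff e e.injective, map_mul]
    exact ⟨fun h => congrArg Subtype.val h, fun h => Subtype.ext h⟩
  have hiff : ∀ x w : K, ((x ≠ 1 ∧ x * x = 1) ∧ (w ≠ 1 ∧ w * w = 1) ∧ Odd (orderOf (x * w))) ↔
      ((e x).1, (e w).1) ∈ S5 := by
    intro x w
    rw [mem_S5, odd_iff e, hne, hsq x, hne w, hsq w]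
    have h1 : x * w = 1 ↔ (e x).1 * (e w).1 = 1 := by
      rw [← map_eq_one_iff e e.injective, map_mul]
      exact ⟨fun h => congrArg Subtype.val h, fun h => Subtype.ext h⟩
    have h2 : x * w * (x * w) = 1 ↔ (e x).1 * (e w).1 * ((e x).1 * (e w).1) = 1 := by
      rw [← map_eq_one_iff e e.injective, map_mul, map_mul]
      exact ⟨fun h => congrArg Subtype.val h, fun h => Subtype.ext h⟩
    rw [h1, h2]
    constructor
    · rintro ⟨a, b, c⟩
      exact ⟨⟨⟨a, (e x).2⟩, ⟨b, (e w).2⟩⟩, c⟩
    · rintro ⟨⟨⟨a, -⟩, ⟨b, -⟩⟩, c⟩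
      exact ⟨a, b, c⟩
  apply Nat.card_congr
  exact {
    toFun := fun p => ⟨((e p.1.1).1, (e p.1.2).1), (hiff _ _).mp p.2⟩
    invFun := fun q => ⟨(e.symm ⟨q.1.1, ((mem_S5 _ _).mp q.2).1.1.2⟩,
        e.symm ⟨q.1.2, ((mem_S5 _ _).mp q.2).1.2.2⟩), by
      apply (hiff _ _).mpr
      change ((e (e.symm _)).1, (e (e.symm _)).1) ∈ S5
      rw [e.apply_symm_apply, e.apply_symm_apply]
      exact q.2⟩
    left_inv := by
      rintro ⟨⟨x, w⟩, h⟩
      apply Subtype.ext
      apply Prod.ext
      · exact e.symm_apply_apply x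
      · exact e.symm_apply_apply w
    right_inv := by
      rintro ⟨⟨x, w⟩, h⟩
      apply Subtype.ext
      apply Prod.ext
      · change (e (e.symm _)).1 = x
        rw [e.apply_symm_apply]
      · change (e (e.symm _)).1 = w
        rw [e.apply_symm_apply] }

/-- **The order of a group of Hall–Janko type.** -/
theorem order_of_fus {z u : G} {H0 : Subgroup G} [Finite G] (F : Fus z u) (S : HStr z u H0) :
    Nat.card G = 604800 ∧ Nat.card (centralizer ({u} : Set G)) = 240 ∧ Nat.card H0 = 60 ∧
      Nonempty (H0 ≃* alternatingGroup (Fin 5)) := by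
  have hform := Cfsg.Agent.S0213.result z u F.hz F.hu F.nconj F.cover
  rw [card_az F, card_au F S, F.cardC] at hform
  obtain ⟨U, hU⟩ := exists_hyp F S
  have hcls : Nat.card {x : G // IsConj z x} * 1920 = Nat.card G := by
    rw [← F.cardC]
    exact Cfsg.Agent.Involutions.PairCount.card_class_mul_card_centralizer z
  have h91 := card_class_ge F
  rcases hU.card_cases with h4 | h12 | h60
  · exfalso
    rw [count_small hU (Or.inl h4), S.card, h4] at hform
    omega
  · exfalso
    rw [count_small hU (Or.inr h12), S.card, h12] at hform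
    omega
  · obtain ⟨e⟩ := hU.equiv_of_card_60 h60
    rw [count_sixty e, S.card, h60] at hform
    refine ⟨by omega, by rw [S.card, h60], h60, ⟨e⟩⟩

/-- The order from the fusion data alone. -/
theorem card_of_fus {z u : G} [Finite G] (F : Fus z u) : Nat.card G = 604800 := by
  obtain ⟨H0, S⟩ := CentU.exists_hstr F
  exact (order_of_fus F S).1

theorem card_centralizer_u {z u : G} [Finite G] (F : Fus z u) :
    Nat.card (centralizer ({u} : Set G)) = 240 := by
  obtain ⟨H0, S⟩ := CentU.exists_hstr F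
  exact (order_of_fus F S).2.1

end Cfsg.Agent.J2Type.Order
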