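import Mathlib

/-!
Finite facts about the alternating group of degree 5.
-/

set_option autoImplicit false

namespace Cfsg.Agent.J2Type.ThirdFacts

theorem prod2 : ∀ x : alternatingGroup (Fin 5), ∃ i j : alternatingGroup (Fin 5),
    i * i = 1 ∧ i ≠ 1 ∧ j * j = 1 ∧ j ≠ 1 ∧ x = i * j := by
  decide +kernel

theorem inv5 : ∀ i : alternatingGroup (Fin 5), i * i = 1 → i ≠ 1 →
    (Finset.univ.filter fun x : alternatingGroup (Fin 5) => x ^ 5 = 1 ∧ x ≠ 1 ∧ i * x = x⁻¹ * i).card = 8 := by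
  decide +kernel

end Cfsg.Agent.J2Type.ThirdFacts
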