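import Cfsg.Agent.J2Type.Cent5
import Cfsg.Agent.J2Type.Order
import Cfsg.Agent.J2Type.ThirdFacts

/-!
Third element: an element `d` of order 3 of `C(z)` centralising `H0 ≅ A₅` and permuting `V#`
transitively; and the count of `u`-type involutions commuting with a line.
-/

set_option autoImplicit false

namespace Cfsg.Agent.J2Type.Third

open Subgroup Cfsg.Agent.J2Type.Base Cfsg.Agent.J2Type.CentU Cfsg.Agent.J2Type.FourSelfCent
  Cfsg.Agent.J2Type.ThirdFacts

variable {G : Type*} [Group G]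

/-- fixed points modulo 3 -/
theorem modEq_three [Finite G] {d : G} (hd : d ^ 3 = 1) (p : G → Prop) (hp : ∀ x, p x → p (d * x * d⁻¹)) :
    Nat.card {x : G // p x} ≡ Nat.card {x : G // p x ∧ d * x = x * d} [MOD 3] := by
  classical
  have hp' : ∀ n ∈ zpowers d, ∀ e, p e → p (n * e * n⁻¹) := by
    intro n hn
    obtain ⟨k, rfl⟩ := (mem_powers_iff_mem_zpowers (x := d)).mpr hn
    intro e he
    dsimp only
    induction k with
    | zero => simpa using he
    | succ k ih =>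
      have h1 := hp _ (ih ⟨k, by simp⟩)
      have : d * (d ^ k * e * (d ^ k)⁻¹) * d⁻¹ = d ^ (k + 1) * e * (d ^ (k + 1))⁻¹ := by
        rw [pow_succ']; group
      rw [this] at h1; exact h1
  let _ : MulAction (zpowers d) {x : G // p x} := conjActS (zpowers d) p hp'
  have hP : IsPGroup 3 (zpowers d) := by
    intro g
    refine ⟨1, ?_⟩
    obtain ⟨k, hk⟩ := mem_zpowers_iff.mp g.2
    apply Subtype.ext
    push_cast
    rw [← hk, ← zpow_natCast, ← zpow_mul, mul_comm, zpow_mul]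
    norm_num
    rw [hd, one_zpow]
  have : Fact (Nat.Prime 3) := ⟨Nat.prime_three⟩
  have h1 := hP.card_modEq_card_fixedPoints {x : G // p x}
  refine h1.trans ?_
  have e : (MulAction.fixedPoints (zpowers d) {x : G // p x}) ≃ {x : G // p x ∧ d * x = x * d} := by
    refine ⟨fun x => ⟨x.1.1, x.1.2, ?_⟩, fun x => ⟨⟨x.1, x.2.1⟩, ?_⟩, fun x => ?_, fun x => ?_⟩
    · have h2 := x.2 ⟨d, mem_zpowers d⟩
      have h3 : d * (x.1.1 : G) * d⁻¹ = x.1.1 := congrArg Subtype.val h2
      exact mul_inv_eq_iff_eq_mul.mp h3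
    · intro n
      apply Subtype.ext
      change (n : G) * x.1 * (n : G)⁻¹ = x.1
      obtain ⟨k, hk⟩ := mem_zpowers_iff.mp n.2
      rw [← hk]
      have : Commute d x.1 := x.2.2
      rw [(this.zpow_left k).eq]; group
    · rfl
    · rfl
  rw [Nat.card_congr e]

variable {z u f : G} {U V H0 : Subgroup G}

section exd

variable [Finite G] (h : Fus z u) (F : Full z u f U V H0) (h60 : Nat.card H0 = 60)

include h F h60 in
theorem conj_cent {g : G} (hg : g * u * g⁻¹ ∈ V) {x : G} (hx : x * u = u * x) :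
    (g * x * g⁻¹) * u = u * (g * x * g⁻¹) := by
  have hne : g * u * g⁻¹ ≠ 1 := by
    intro h1
    apply u_ne h
    have : g⁻¹ * (g * u * g⁻¹) * g = u := by group
    rw [← this, h1]; group
  have h2 : g * x * g⁻¹ ∈ centralizer ({g * u * g⁻¹} : Set G) := mem_C.mpr (conj_comm_iff.mpr hx)
  rw [Cent5.centralizer_eq h F h60 hg hne] at h2
  exact mem_C.mp h2

include h F h60 in
theorem conj_V {g : G} (hg : g * u * g⁻¹ ∈ V) {x : G} (hx : x ∈ V) : g * x * g⁻¹ ∈ V := by
  -- `g` normalises `C(u)`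
  have hinv : ∀ y, y * u = u * y → (g⁻¹ * y * g) * u = u * (g⁻¹ * y * g) := by
    intro y hy
    have h1 : ∀ y ∈ centralizer ({u} : Set G), g * y * g⁻¹ ∈ centralizer ({u} : Set G) :=
      fun y hy => mem_C.mpr (conj_cent h F h60 hg (mem_C.mp hy))
    have hmap : (centralizer ({u} : Set G)).map (MulAut.conj g).toMonoidHom = centralizer ({u} : Set G) := by
      refine eq_of_le_of_card_ge ?_ ?_
      · rintro _ ⟨t, ht, rfl⟩
        exact h1 t ht
      · rw [Subgroup.card_map_of_injective (MulAut.conj g).injective]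
    have h2 : y ∈ (centralizer ({u} : Set G)).map (MulAut.conj g).toMonoidHom := by
      rw [hmap]; exact mem_C.mpr hy
    obtain ⟨t, ht, rfl⟩ := h2
    have : g⁻¹ * ((MulAut.conj g).toMonoidHom t) * g = t := by
      change g⁻¹ * (g * t * g⁻¹) * g = t
      group
    rw [this]; exact mem_C.mp ht
  have hcomm : ∀ y, y * u = u * y → (g * x * g⁻¹) * y = y * (g * x * g⁻¹) := by
    intro y hy
    by_cases hx1 : x = 1
    · subst hx1; group
    have h3 : g⁻¹ * y * g ∈ centralizer ({x} : Set G) := by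
      rw [Cent5.centralizer_eq h F h60 hx hx1]
      exact mem_C.mpr (hinv y hy)
    have h4 := mem_C.mp h3
    calc (g * x * g⁻¹) * y = g * (x * (g⁻¹ * y * g)) * g⁻¹ := by group
      _ = g * ((g⁻¹ * y * g) * x) * g⁻¹ := by rw [h4]
      _ = y * (g * x * g⁻¹) := by group
  rw [F.memV]
  exact ⟨hcomm z h.comm, hcomm u rfl, hcomm f (mem_C.mp (F.str.le F.f_mem))⟩

include h F h60 in
theorem conj_H0 {g : G} (hg : g * u * g⁻¹ ∈ V) {x : G} (hx : x ∈ H0) : g * x * g⁻¹ ∈ H0 := by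
  obtain ⟨e⟩ := Cent5.exists_equiv h F h60
  obtain ⟨i, j, hi, hi1, hj, hj1, hij⟩ := prod2 (e ⟨x, hx⟩)
  have key : ∀ i : alternatingGroup (Fin 5), i * i = 1 → i ≠ 1 → g * ((e.symm i : H0) : G) * g⁻¹ ∈ H0 := by
    intro i hi hi1
    have h1 : e.symm i * e.symm i = 1 := by rw [← map_mul, hi, map_one]
    have h2 : e.symm i ≠ 1 := by
      intro h2; apply hi1
      rw [← e.apply_symm_apply i, h2, map_one]
    have h3 : orderOf ((e.symm i : H0) : G) = 2 := by
      apply orderOf_eq_prime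
      · rw [pow_two]; exact congrArg Subtype.val h1
      · intro h4; exact h2 (Subtype.ext h4)
    have h4 := F.str.invol _ (e.symm i).2 h3
    refine F.str.z_mem _ (isConj_conj h4 g) ?_
    exact conj_cent h F h60 hg (mem_C.mp (F.str.le (e.symm i).2))
  have hx' : x = ((e.symm i : H0) : G) * ((e.symm j : H0) : G) := by
    have : (⟨x, hx⟩ : H0) = e.symm i * e.symm j := by
      rw [← map_mul, ← hij, MulEquiv.symm_apply_apply]
    exact congrArg Subtype.val this
  have : g * x * g⁻¹ = (g * ((e.symm i : H0) : G) * g⁻¹) * (g * ((e.symm j : H0) : G) * g⁻¹) := by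
    rw [hx']; group
  rw [this]
  exact H0.mul_mem (key i hi hi1) (key j hj hj1)

include h F in
omit [Finite G] in
theorem z_mem_H0 : z ∈ H0 := F.str.z_mem z (IsConj.refl z) h.comm

include h F h60 in
theorem card_inv5 : Nat.card {x : G // x ∈ H0 ∧ x ^ 5 = 1 ∧ x ≠ 1 ∧ z * x = x⁻¹ * z} = 8 := by
  classical
  obtain ⟨e⟩ := Cent5.exists_equiv h F h60
  have hz0 := z_mem_H0 h F
  have h1 : e ⟨z, hz0⟩ * e ⟨z, hz0⟩ = 1 := by
    rw [← map_mul]
    have : (⟨z, hz0⟩ : H0) * ⟨z, hz0⟩ = 1 := Subtype.ext (zz h)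
    rw [this, map_one]
  have h2 : e ⟨z, hz0⟩ ≠ 1 := by
    intro h2
    rw [map_eq_one_iff e e.injective] at h2
    exact z_ne h (congrArg Subtype.val h2)
  have h3 := inv5 _ h1 h2
  have h4 : Fintype.card {x : alternatingGroup (Fin 5) // x ^ 5 = 1 ∧ x ≠ 1 ∧
      e ⟨z, hz0⟩ * x = x⁻¹ * e ⟨z, hz0⟩} = 8 := by
    rw [Fintype.card_subtype]; exact h3
  rw [← h4, ← Nat.card_eq_fintype_card]
  refine Nat.card_congr ⟨fun x => ⟨e ⟨x.1, x.2.1⟩, ?_, ?_, ?_⟩,
    fun x => ⟨(e.symm x.1 : H0), (e.symm x.1).2, ?_, ?_, ?_⟩, ?_, ?_⟩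
  · have h5 : (⟨x.1, x.2.1⟩ : H0) ^ 5 = 1 := Subtype.ext x.2.2.1
    rw [← map_pow, h5, map_one]
  · rw [Ne, map_eq_one_iff e e.injective]
    intro h5
    exact x.2.2.2.1 (congrArg Subtype.val h5)
  · have h5 : (⟨z, hz0⟩ : H0) * ⟨x.1, x.2.1⟩ = (⟨x.1, x.2.1⟩ : H0)⁻¹ * ⟨z, hz0⟩ := Subtype.ext x.2.2.2.2
    rw [← map_mul, h5, map_mul, map_inv]
  · have : (e.symm x.1) ^ 5 = 1 := by rw [← map_pow, x.2.1, map_one]
    exact congrArg Subtype.val this
  · intro h5
    apply x.2.2.1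
    have : e.symm x.1 = 1 := Subtype.ext h5
    rw [← e.apply_symm_apply x.1, this, map_one]
  · have : (⟨z, hz0⟩ : H0) * e.symm x.1 = (e.symm x.1)⁻¹ * ⟨z, hz0⟩ := by
      apply e.injective
      rw [map_mul, map_mul, map_inv, MulEquiv.apply_symm_apply]
      exact x.2.2.2
    exact congrArg Subtype.val this
  · intro x
    apply Subtype.ext
    simp
  · intro x
    apply Subtype.ext
    simp

include h F h60 in
theorem exists_d : ∃ d : G, orderOf d = 3 ∧ d * z = z * d ∧ (∀ x ∈ H0, d * x = x * d) ∧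
    (∀ v ∈ V, d * v * d⁻¹ ∈ V) ∧ (∀ v ∈ V, v ≠ 1 → d * v ≠ v * d) := by
  classical
  -- transitivity
  let p : G → Prop := fun x => x ∈ V ∧ x ≠ 1
  let N1 : Subgroup G := centralizer ({z} : Set G) ⊓ normalizer (V : Set G)
  let _ : MulAction N1 {x : G // p x} := conjActS N1 p (by
    intro n hn e he
    refine ⟨(mem_normalizer_iff.mp (mem_inf.mp hn).2 e).mp he.1, ?_⟩
    intro h1
    apply he.2
    have : n⁻¹ * (n * e * n⁻¹) * n = e := by group
    rw [← this, h1]; group)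
  have hg : ∀ v ∈ V, v ≠ 1 → ∃ g ∈ N1, g * u * g⁻¹ = v := by
    intro v hv hv1
    obtain ⟨g, h1, h2⟩ := h.pair z v (IsConj.refl z) (Cent5.isConj_of_mem_V h F hv hv1)
      ((F.memV v).mp hv).1.symm
    refine ⟨g, mem_inf.mpr ⟨mem_C.mpr (mul_inv_eq_iff_eq_mul.mp h1), ?_⟩, h2⟩
    have h3 : ∀ x ∈ V, g * x * g⁻¹ ∈ V := fun x hx => conj_V h F h60 (by rw [h2]; exact hv) hx
    have hmap : V.map (MulAut.conj g).toMonoidHom = V := by
      refine eq_of_le_of_card_ge ?_ ?_
      · rintro _ ⟨t, ht, rfl⟩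
        exact h3 t ht
      · rw [Subgroup.card_map_of_injective (MulAut.conj g).injective]
    rw [mem_normalizer_iff]
    intro t
    constructor
    · exact h3 t
    · intro ht
      rw [← hmap] at ht
      obtain ⟨t', ht', h'⟩ := ht
      have : t' = t := (MulAut.conj g).injective h'
      rw [← this]; exact ht'
  let u0 : {x : G // p x} := ⟨u, F.uV, u_ne h⟩
  have : MulAction.IsPretransitive N1 {x : G // p x} := by
    have htrans : ∀ x : {x : G // p x}, ∃ n : N1, n • u0 = x := by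
      intro x
      obtain ⟨g, h1, h2⟩ := hg x.1 x.2.1 x.2.2
      exact ⟨⟨g, h1⟩, Subtype.ext h2⟩
    constructor
    intro x y
    obtain ⟨n, hn⟩ := htrans x
    obtain ⟨m, hm⟩ := htrans y
    exact ⟨m * n⁻¹, by rw [← hn, mul_smul, inv_smul_smul, hm]⟩
  have hV3 : Nat.card {x : G // p x} = 3 := by
    have e : V ≃ Option {x : G // p x} := by
      refine ⟨fun x => if hx : (x : G) = 1 then none else some ⟨x, x.2, hx⟩,
        fun o => match o with
          | none => ⟨1, one_mem _⟩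
          | some x => ⟨x, x.2.1⟩, ?_, ?_⟩
      · intro x
        by_cases hx : (x : G) = 1
        · apply Subtype.ext; simp [hx]
        · apply Subtype.ext; simp [hx]
      · intro o
        cases o with
        | none => simp
        | some x =>
          have : (x : G) ≠ 1 := x.2.2
          simp [this]
    have h4 := F.cardV
    rw [Nat.card_congr e, Finite.card_option] at h4
    omega
  have h3 : 3 ∣ Nat.card N1 := by
    have h1 : (MulAction.stabilizer N1 u0).index = 3 := by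
      rw [MulAction.index_stabilizer_of_transitive]
      exact hV3
    rw [← h1]
    exact Subgroup.index_dvd_card _
  have : Fact (Nat.Prime 3) := ⟨Nat.prime_three⟩
  obtain ⟨d, hd⟩ := exists_prime_orderOf_dvd_card' 3 h3
  have hdN := d.2
  have hd3 : orderOf (d : G) = 3 := by rw [orderOf_coe]; exact hd
  generalize (d : G) = d at hdN hd3
  have hdz : d * z = z * d := mem_C.mp (mem_inf.mp hdN).1
  have hdV : ∀ v ∈ V, d * v * d⁻¹ ∈ V := fun v hv =>
    (mem_normalizer_iff.mp (mem_inf.mp hdN).2 v).mp hv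
  have hdd : d ^ 3 = 1 := by rw [← hd3]; exact pow_orderOf_eq_one d
  have hdu : d * u * d⁻¹ ∈ V := hdV u F.uV
  have hH : ∀ x ∈ H0, d * x * d⁻¹ ∈ H0 := fun x hx => conj_H0 h F h60 hdu hx
  have hnu : ∀ v ∈ V, v ≠ 1 → d * v ≠ v * d := by
    intro v hv hv1 h1
    have h2 : d ∈ centralizer ({v} : Set G) := mem_C.mpr h1
    rw [Cent5.centralizer_eq h F h60 hv hv1] at h2
    have h4 := h.sqE d hdz (mem_C.mp h2)
    have h5 : orderOf d ∣ 2 := orderOf_dvd_of_pow_eq_one (by rw [pow_two, h4])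
    rw [hd3] at h5
    omega
  -- `K = C_{H0}(d)`
  set K : Subgroup G := H0 ⊓ centralizer ({d} : Set G) with hK
  have hKH : K ≤ H0 := inf_le_left
  have hmemK : ∀ x, x ∈ K ↔ x ∈ H0 ∧ d * x = x * d := by
    intro x
    rw [hK, mem_inf, mem_centralizer_singleton_iff]
    exact ⟨fun h => ⟨h.1, h.2.symm⟩, fun h => ⟨h.1, h.2.symm⟩⟩
  -- 3 divides
  have hK3 : 3 ∣ Nat.card K := by
    have h1 := modEq_three hdd (fun x => x ∈ H0) hH
    have h2 : Nat.card {x : G // x ∈ H0} = 60 := h60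
    have h4 : Nat.card {x : G // x ∈ H0 ∧ d * x = x * d} = Nat.card K :=
      Nat.card_congr (Equiv.subtypeEquivRight fun x => (hmemK x).symm)
    rw [h2, h4] at h1
    have : Nat.card K % 3 = 0 := by rw [← h1]
    omega
  -- 4 divides
  have hU : ∀ x ∈ U, d * x = x * d := by
    have hUc : ∀ x ∈ U, d * x * d⁻¹ ∈ U := by
      intro x hx
      rw [F.memU] at hx ⊢
      rcases hx with rfl | ⟨h1, h2, h3⟩
      · left; group
      · right
        refine ⟨isConj_conj h1 d, ?_, conj_cent h F h60 hdu h3⟩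
        have hz : d * z * d⁻¹ = z := by rw [hdz]; group
        have h4 := (conj_comm_iff (g := d)).mpr h2
        rw [hz] at h4; exact h4
    have h1 := modEq_three hdd (fun x => x ∈ U) hUc
    have h2 : Nat.card {x : G // x ∈ U} = 4 := F.cardU
    rw [h2] at h1
    have h4 : Nat.card {x : G // x ∈ U ∧ d * x = x * d} = Nat.card (U ⊓ centralizer ({d} : Set G) : Subgroup G) := by
      refine Nat.card_congr (Equiv.subtypeEquivRight fun x => ?_)
      rw [mem_inf, mem_centralizer_singleton_iff]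
      exact ⟨fun h => ⟨h.1, h.2.symm⟩, fun h => ⟨h.1, h.2.symm⟩⟩
    rw [h4] at h1
    have h5 : Nat.card (U ⊓ centralizer ({d} : Set G) : Subgroup G) ∣ 4 := by
      rw [← F.cardU]; exact card_dvd_of_le inf_le_left
    have h6 : 2 ∣ Nat.card (U ⊓ centralizer ({d} : Set G) : Subgroup G) := by
      have h7 : (⟨z, mem_inf.mpr ⟨F.zU, mem_C.mpr hdz.symm⟩⟩ :
          (U ⊓ centralizer ({d} : Set G) : Subgroup G)) ^ 2 = 1 := by
        apply Subtype.ext
        push_cast
        rw [pow_two]; exact zz h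
      have h8 := orderOf_eq_prime h7 (fun h9 => z_ne h (congrArg Subtype.val h9))
      rw [← h8]; exact orderOf_dvd_natCard _
    have h7 : Nat.card (U ⊓ centralizer ({d} : Set G) : Subgroup G) % 3 = 1 := by rw [← h1]
    have h8 : Nat.card (U ⊓ centralizer ({d} : Set G) : Subgroup G) = 4 := by
      have h9 := Nat.le_of_dvd (by norm_num) h5
      omega
    have h9 : U ⊓ centralizer ({d} : Set G) = U := eq_of_le_of_card_ge inf_le_left (by rw [h8, F.cardU])
    intro x hx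
    rw [← h9] at hx
    exact (mem_C.mp (mem_inf.mp hx).2).symm
  have hK4 : 4 ∣ Nat.card K := by
    rw [← F.cardU]
    refine card_dvd_of_le fun x hx => (hmemK x).mpr ⟨F.U_le hx, hU x hx⟩
  -- 5 divides
  have hK5 : 5 ∣ Nat.card K := by
    have h1 := modEq_three hdd (fun x => x ∈ H0 ∧ x ^ 5 = 1 ∧ x ≠ 1 ∧ z * x = x⁻¹ * z) (by
      rintro x ⟨a1, a2, a3, a4⟩
      refine ⟨hH x a1, ?_, ?_, ?_⟩
      · rw [conj_pow, a2]; group
      · intro h1; apply a3
        have : d⁻¹ * (d * x * d⁻¹) * d = x := by group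
        rw [← this, h1]; group
      · have hz : d⁻¹ * z * d = z := by rw [mul_assoc, ← hdz]; group
        calc z * (d * x * d⁻¹) = d * ((d⁻¹ * z * d) * x) * d⁻¹ := by group
          _ = d * (x⁻¹ * (d⁻¹ * z * d)) * d⁻¹ := by rw [hz, a4]
          _ = (d * x * d⁻¹)⁻¹ * z := by group)
    rw [card_inv5 h F h60] at h1
    have h2 : 0 < Nat.card {x : G // (x ∈ H0 ∧ x ^ 5 = 1 ∧ x ≠ 1 ∧ z * x = x⁻¹ * z) ∧ d * x = x * d} := by
      by_contra h3
      have h4 : Nat.card {x : G // (x ∈ H0 ∧ x ^ 5 = 1 ∧ x ≠ 1 ∧ z * x = x⁻¹ * z) ∧ d * x = x * d} = 0 := by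
        omega
      rw [h4] at h1
      exact absurd h1 (by decide)
    obtain ⟨⟨x, ⟨a1, a2, a3, -⟩, a5⟩⟩ := (Nat.card_pos_iff.mp h2).1
    have : Fact (Nat.Prime 5) := ⟨Nat.prime_five⟩
    have h5 : orderOf x = 5 := orderOf_eq_prime a2 a3
    rw [← h5, ← orderOf_mk x ((hmemK x).mpr ⟨a1, a5⟩)]
    exact orderOf_dvd_natCard _
  have hK60 : 60 ∣ Nat.card K := by
    have h1 : Nat.lcm (Nat.lcm 3 4) 5 ∣ Nat.card K := Nat.lcm_dvd (Nat.lcm_dvd hK3 hK4) hK5
    exact h1
  have hKeq : K = H0 := eq_of_le_of_card_ge hKH (by rw [h60]; exact Nat.le_of_dvd Nat.card_pos hK60)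
  refine ⟨d, hd3, hdz, ?_, hdV, hnu⟩
  intro x hx
  rw [← hKeq] at hx
  exact ((hmemK x).mp hx).2

include h F h60 in
/-- The form used by `GRels.exists_rels`. -/
theorem exists_d' : ∃ d : G, orderOf d = 3 ∧ (∀ x ∈ H0, d * x = x * d) ∧ (∀ v ∈ V, d * v * d⁻¹ ∈ V) ∧
    d * u ≠ u * d := by
  obtain ⟨d, h1, -, h2, h3, h4⟩ := exists_d h F h60
  exact ⟨d, h1, h2, h3, h4 u F.uV (u_ne h)⟩

end exd

end Cfsg.Agent.J2Type.Third
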