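import Cfsg.Agent.J2Type.Cent5
import Cfsg.Agent.J2Type.Order

/-!
In a group of Hall–Janko type: a `z`-type involution `e ≠ z` of `C(z)` commutes with exactly 24
`u`-type involutions of `C(z)`.
-/

set_option autoImplicit false

namespace Cfsg.Agent.J2Type.Third

open Subgroup Cfsg.Agent.J2Type.Base Cfsg.Agent.J2Type.CentU Cfsg.Agent.J2Type.Order

variable {G : Type*} [Group G] [Finite G] {z u : G}

omit [Finite G] in
/-- no nontrivial power of an element of order 5 of `C(z)` commutes with a `z`-type `e ≠ z` -/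
theorem dvd_of_comm (h : Fus z u) {w : G} (hw : orderOf w = 5) (hwz : w * z = z * w) {e : G}
    (he : IsConj z e) (hez : e * z = z * e) (hne : e ≠ z) {m : ℤ} (hm : w ^ m * e = e * w ^ m) :
    (5 : ℤ) ∣ m := by
  by_contra hnd
  have hw5 : w ^ 5 = 1 := by rw [← hw]; exact pow_orderOf_eq_one w
  have hcz : w ^ m * z = z * w ^ m := ((show Commute w z from hwz).zpow_left m).eq
  have h5 : orderOf (w ^ m) = 5 := by
    have : Fact (Nat.Prime 5) := ⟨Nat.prime_five⟩
    apply orderOf_eq_prime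
    · rw [← zpow_natCast, ← zpow_mul, mul_comm, zpow_mul]
      norm_num
      rw [hw5, one_zpow]
    · intro h1
      apply hnd
      rw [← orderOf_dvd_iff_zpow_eq_one, hw] at h1
      exact_mod_cast h1
  have h10 := h.card10 (w ^ m) h5 hcz
  set H : Subgroup G := centralizer ({z} : Set G) ⊓ centralizer ({w ^ m} : Set G) with hH
  have hzH : z ∈ H := mem_inf.mpr ⟨mem_C.mpr rfl, mem_C.mpr hcz.symm⟩
  have heH : e ∈ H := mem_inf.mpr ⟨mem_C.mpr hez, mem_C.mpr hm.symm⟩
  have hle : zpowers z ≤ H := zpowers_le.mpr hzH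
  have hnorm : ((zpowers z).subgroupOf H).Normal := by
    constructor
    intro n hn g
    rw [mem_subgroupOf] at hn ⊢
    obtain ⟨k, hk⟩ := mem_zpowers_iff.mp hn
    have hg : (g : G) * z = z * g := mem_C.mp (mem_inf.mp g.2).1
    push_cast
    rw [← hk, ((show Commute (g : G) z from hg).zpow_right k).eq]
    rw [mem_zpowers_iff]
    exact ⟨k, by group⟩
  have hidx : ((zpowers z).subgroupOf H).index = 5 := by
    have h1 := card_mul_index ((zpowers z).subgroupOf H)
    rw [Nat.card_congr (subgroupOfEquivOfLe hle).toEquiv, Nat.card_zpowers, h.hz, h10] at h1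
    omega
  have h1 := pow_index_mem (H := (zpowers z).subgroupOf H) ⟨e, heH⟩
  rw [hidx, mem_subgroupOf] at h1
  have hee : e * e = 1 := mul_self_of_orderOf ((orderOf_of_isConj he).trans h.hz)
  have he5 : ((⟨e, heH⟩ ^ 5 : H) : G) = e := by
    push_cast
    calc e ^ 5 = (e * e) * (e * e) * e := by simp only [pow_succ, pow_zero, one_mul, mul_assoc]
      _ = e := by rw [hee]; simp
  rw [he5] at h1
  obtain ⟨k, hk⟩ := mem_zpowers_iff.mp h1
  have hzz : z * z = 1 := CentU.zz h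
  rcases Int.even_or_odd' k with ⟨j, rfl | rfl⟩
  · apply ne_one_of_orderOf ((orderOf_of_isConj he).trans h.hz)
    rw [← hk, zpow_mul, zpow_two, hzz, one_zpow]
  · apply hne
    rw [← hk, zpow_add, zpow_mul, zpow_two, hzz, one_zpow, one_mul, zpow_one]

omit [Finite G] in
/-- the number of `u`-type involutions of `C(z)` commuting with `e` -/
theorem card_conj_e (g : G) (hg : g * z * g⁻¹ = z) (e : G) :
    Nat.card {t : G // (IsConj u t ∧ t * z = z * t) ∧ t * e = e * t} =
      Nat.card {t : G // (IsConj u t ∧ t * z = z * t) ∧ t * (g * e * g⁻¹) = (g * e * g⁻¹) * t} := by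
  apply card_conj g
  intro x
  have h1 := isConj_conj (a := u) (x := x) g
  have h2 := comm_conj (x := x) (y := z) g
  have h3 := comm_conj (x := x) (y := e) g
  rw [hg] at h2
  rw [← h1, ← h2, ← h3]

omit [Finite G] in
theorem card_mul_e (e : G) :
    Nat.card {t : G // (IsConj u t ∧ t * z = z * t) ∧ t * e = e * t} =
      Nat.card {t : G // (IsConj u t ∧ t * z = z * t) ∧ t * (z * e) = (z * e) * t} := by
  refine Nat.card_congr (Equiv.subtypeEquivRight fun t => ?_)
  constructor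
  · rintro ⟨h1, h2⟩
    refine ⟨h1, ?_⟩
    rw [← mul_assoc, h1.2, mul_assoc, h2, ← mul_assoc]
  · rintro ⟨h1, h2⟩
    refine ⟨h1, ?_⟩
    rw [← mul_assoc, h1.2, mul_assoc, mul_assoc] at h2
    exact mul_left_cancel h2

theorem card_ten (h : Fus z u) : Nat.card {x : G // (IsConj z x ∧ x * z = z * x) ∧ ¬ x = z} = 10 := by
  have h1 := card_split (fun x : G => IsConj z x ∧ x * z = z * x) (fun x => x = z)
  rw [h.card11] at h1
  have h2 : Nat.card {x : G // (IsConj z x ∧ x * z = z * x) ∧ x = z} = 1 := by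
    rw [Nat.card_eq_one_iff_unique]
    refine ⟨⟨fun a b => Subtype.ext (a.2.2.trans b.2.2.symm)⟩, ⟨⟨z, ⟨IsConj.refl z, rfl⟩, rfl⟩⟩⟩
  rw [h2] at h1
  omega

/-- every `z`-type `x ≠ z` of `C(z)` sees the same number of `u`-types -/
theorem card_const (h : Fus z u) {e : G} (he : IsConj z e) (hez : e * z = z * e) (hne : e ≠ z) {x : G}
    (hx : IsConj z x) (hxz : x * z = z * x) (hxne : x ≠ z) :
    Nat.card {t : G // (IsConj u t ∧ t * z = z * t) ∧ t * x = x * t} =
      Nat.card {t : G // (IsConj u t ∧ t * z = z * t) ∧ t * e = e * t} := by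
  classical
  have hzz : z * z = 1 := CentU.zz h
  have hee : e * e = 1 := mul_self_of_orderOf ((orderOf_of_isConj he).trans h.hz)
  -- an element of order 5
  have : Fact (Nat.Prime 5) := ⟨Nat.prime_five⟩
  obtain ⟨w0, hw0⟩ := exists_prime_orderOf_dvd_card' (G := centralizer ({z} : Set G)) 5
    (by rw [h.cardC]; norm_num)
  have hw : orderOf (w0 : G) = 5 := by rw [orderOf_coe]; exact hw0
  have hwz : (w0 : G) * z = z * w0 := mem_C.mp w0.2
  generalize (w0 : G) = w at hw hwz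
  have hw5 : w ^ 5 = 1 := by rw [← hw]; exact pow_orderOf_eq_one w
  have hwm : ∀ m : ℤ, w ^ m * z = z * w ^ m := fun m => ((show Commute w z from hwz).zpow_left m).eq
  have hwmz : ∀ m : ℤ, w ^ m * z * (w ^ m)⁻¹ = z := by
    intro m; rw [hwm]; group
  -- `w ^ m` conjugates of `e`
  have hA : ∀ m : ℤ, w ^ m * e * (w ^ m)⁻¹ = e → (5 : ℤ) ∣ m := by
    intro m hm
    exact dvd_of_comm h hw hwz he hez hne (mul_inv_eq_iff_eq_mul.mp hm)
  have hB : ∀ m : ℤ, w ^ m * e * (w ^ m)⁻¹ ≠ z * e := by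
    intro m hm
    have h1 : w ^ (2 * m) * e * (w ^ (2 * m))⁻¹ = e := by
      have : w ^ (2 * m) = w ^ m * w ^ m := by rw [two_mul, zpow_add]
      calc w ^ (2 * m) * e * (w ^ (2 * m))⁻¹ = w ^ m * (w ^ m * e * (w ^ m)⁻¹) * (w ^ m)⁻¹ := by
            rw [this]; group
        _ = w ^ m * (z * e) * (w ^ m)⁻¹ := by rw [hm]
        _ = (w ^ m * z * (w ^ m)⁻¹) * (w ^ m * e * (w ^ m)⁻¹) := by group
        _ = (z * z) * e := by rw [hwmz, hm, mul_assoc]
        _ = e := by rw [hzz, one_mul]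
    have h2 := hA _ h1
    have h3 : (5 : ℤ) ∣ m := by omega
    obtain ⟨k, rfl⟩ := h3
    have h4 : w ^ (5 * k) = 1 := by
      rw [zpow_mul]
      norm_cast
      rw [hw5, one_zpow]
    rw [h4] at hm
    have h5 : z * e = e := by rw [← hm]; group
    exact ne_one_of_orderOf h.hz (mul_eq_right.mp h5)
  have hprop : ∀ (m : ℤ) (j : Bool), let y := (if j then z else 1) * (w ^ m * e * (w ^ m)⁻¹)
      (IsConj z y ∧ y * z = z * y) ∧ ¬ y = z := by
    intro m j
    have h1 : IsConj z (w ^ m * e * (w ^ m)⁻¹) := (isConj_conj (w ^ m)).mp he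
    have h2 : (w ^ m * e * (w ^ m)⁻¹) * z = z * (w ^ m * e * (w ^ m)⁻¹) := by
      have := (comm_conj (x := e) (y := z) (w ^ m)).mp hez
      rwa [hwmz] at this
    have h3 : w ^ m * e * (w ^ m)⁻¹ ≠ z := by
      intro h3
      apply hne
      have : e = (w ^ m)⁻¹ * z * w ^ m := by rw [← h3]; group
      rw [this, mul_assoc, ← hwm]; group
    cases j
    · dsimp only
      simp only [Bool.false_eq_true, if_false, one_mul]
      exact ⟨⟨h1, h2⟩, h3⟩
    · dsimp only
      simp only [if_true]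
      refine ⟨⟨h.mul_z _ _ (IsConj.refl z) h1 h2.symm h3.symm, ?_⟩, ?_⟩
      · rw [mul_assoc, h2, ← mul_assoc]
      · intro h4
        have h5 : w ^ m * e * (w ^ m)⁻¹ = 1 := mul_eq_left.mp h4
        exact ne_one_of_orderOf ((orderOf_of_isConj h1).trans h.hz) h5
  let φ : Fin 5 × Bool → {x : G // (IsConj z x ∧ x * z = z * x) ∧ ¬ x = z} := fun p =>
    ⟨(if p.2 then z else 1) * (w ^ (p.1.val : ℤ) * e * (w ^ (p.1.val : ℤ))⁻¹), hprop p.1.val p.2⟩
  have hinj : Function.Injective φ := by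
    rintro ⟨k, j⟩ ⟨k', j'⟩ hkk
    have h1 : (if j then z else 1) * (w ^ (k.val : ℤ) * e * (w ^ (k.val : ℤ))⁻¹) =
        (if j' then z else 1) * (w ^ (k'.val : ℤ) * e * (w ^ (k'.val : ℤ))⁻¹) := congrArg Subtype.val hkk
    have hk := k.2
    have hk' := k'.2
    have h5 : ∀ a b : ℤ, w ^ a * e * (w ^ a)⁻¹ = w ^ b * e * (w ^ b)⁻¹ → (5 : ℤ) ∣ a - b := by
      intro a b hab
      apply hA
      calc w ^ (a - b) * e * (w ^ (a - b))⁻¹ = (w ^ b)⁻¹ * (w ^ a * e * (w ^ a)⁻¹) * w ^ b := by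
            have : w ^ (a - b) = (w ^ b)⁻¹ * w ^ a := by
              rw [← zpow_neg, ← zpow_add]; congr 1; ring
            rw [this]; group
        _ = e := by rw [hab]; group
    have h6 : ∀ a b : ℤ, w ^ a * e * (w ^ a)⁻¹ ≠ z * (w ^ b * e * (w ^ b)⁻¹) := by
      intro a b hab
      apply hB (a - b)
      calc w ^ (a - b) * e * (w ^ (a - b))⁻¹ = (w ^ b)⁻¹ * (w ^ a * e * (w ^ a)⁻¹) * w ^ b := by
            have : w ^ (a - b) = (w ^ b)⁻¹ * w ^ a := by
              rw [← zpow_neg, ← zpow_add]; congr 1; ring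
            rw [this]; group
        _ = ((w ^ b)⁻¹ * z * w ^ b) * e := by rw [hab]; group
        _ = z * e := by
            rw [mul_assoc (w ^ b)⁻¹, ← hwm b]; group
    have h7 : ∀ a b : ℤ, z * (w ^ a * e * (w ^ a)⁻¹) = z * (w ^ b * e * (w ^ b)⁻¹) → (5 : ℤ) ∣ a - b :=
      fun a b hab => h5 a b (mul_left_cancel hab)
    cases j <;> cases j' <;> simp only [if_true, Bool.false_eq_true, if_false, one_mul] at h1
    · have := h5 _ _ h1
      rw [Prod.mk.injEq]
      exact ⟨Fin.ext (by omega), rfl⟩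
    · exact absurd h1 (h6 _ _)
    · exact absurd h1.symm (h6 _ _)
    · have := h7 _ _ h1
      rw [Prod.mk.injEq]
      exact ⟨Fin.ext (by omega), rfl⟩
  have hbij : Function.Bijective φ := by
    rw [Nat.bijective_iff_injective_and_card]
    refine ⟨hinj, ?_⟩
    rw [card_ten h]
    simp
  obtain ⟨⟨k, j⟩, hkj⟩ := hbij.2 ⟨x, ⟨hx, hxz⟩, hxne⟩
  have hx' : x = (if j then z else 1) * (w ^ (k.val : ℤ) * e * (w ^ (k.val : ℤ))⁻¹) :=
    (congrArg Subtype.val hkj).symm
  have h8 := card_conj_e (u := u) (z := z) (w ^ (k.val : ℤ)) (hwmz _) e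
  rw [h8, hx']
  cases j
  · simp only [Bool.false_eq_true, if_false, one_mul]
  · simp only [if_true]
    exact (card_mul_e _).symm

theorem card24 (h : Fus z u) {e : G} (he : IsConj z e) (hez : e * z = z * e) (hne : e ≠ z) :
    Nat.card {t : G // (IsConj u t ∧ t * z = z * t) ∧ t * e = e * t} = 24 := by
  classical
  have e1 : (Σ t : {t : G // IsConj u t ∧ t * z = z * t},
        {x : G // ((IsConj z x ∧ x * z = z * x) ∧ ¬ x = z) ∧ x * t.1 = t.1 * x}) ≃
      Σ x : {x : G // (IsConj z x ∧ x * z = z * x) ∧ ¬ x = z},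
        {t : G // (IsConj u t ∧ t * z = z * t) ∧ t * x.1 = x.1 * t} :=
    { toFun := fun p => ⟨⟨p.2.1, p.2.2.1⟩, ⟨p.1.1, p.1.2, p.2.2.2.symm⟩⟩
      invFun := fun p => ⟨⟨p.2.1, p.2.2.1⟩, ⟨p.1.1, p.1.2, p.2.2.2.symm⟩⟩
      left_inv := fun p => rfl
      right_inv := fun q => rfl }
  have h1 := Nat.card_congr e1
  rw [card_sigma_const 2, h.card120, card_sigma_const _ (fun x => card_const h he hez hne x.2.1.1 x.2.1.2 x.2.2),
    card_ten h] at h1
  · omega
  · rintro ⟨y, hy, hyz⟩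
    have h2 := card_comm_three h hy hyz
    have h3 := card_split (fun x : G => (IsConj z x ∧ x * z = z * x) ∧ x * y = y * x) (fun x => x = z)
    rw [h2] at h3
    have h4 : Nat.card {x : G // ((IsConj z x ∧ x * z = z * x) ∧ x * y = y * x) ∧ x = z} = 1 := by
      rw [Nat.card_eq_one_iff_unique]
      refine ⟨⟨fun a b => Subtype.ext (a.2.2.trans b.2.2.symm)⟩, ⟨⟨z, ⟨⟨IsConj.refl z, rfl⟩, hyz.symm⟩, rfl⟩⟩⟩
    rw [h4] at h3
    have h5 : Nat.card {x : G // ((IsConj z x ∧ x * z = z * x) ∧ ¬ x = z) ∧ x * y = y * x} =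
        Nat.card {x : G // ((IsConj z x ∧ x * z = z * x) ∧ x * y = y * x) ∧ ¬ x = z} :=
      Nat.card_congr (Equiv.subtypeEquivRight fun t => by tauto)
    change Nat.card {x : G // ((IsConj z x ∧ x * z = z * x) ∧ ¬ x = z) ∧ x * y = y * x} = 2
    omega

/-- The form used with `CentU.Full`. -/
theorem card24E {f : G} {U V H0 : Subgroup G} (h : Fus z u) (F : Full z u f U V H0) :
    ∀ e ∈ U, e ≠ 1 → e ≠ z → Nat.card {t : G // IsConj u t ∧ t * z = z * t ∧ t * e = e * t} = 24 := by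
  intro e he he1 hez
  rcases (F.memU e).mp he with h0 | ⟨h1, h2, -⟩
  · exact absurd h0 he1
  · rw [← card24 h h1 h2 hez]
    exact Nat.card_congr (Equiv.subtypeEquivRight fun t => by tauto)

end Cfsg.Agent.J2Type.Third
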