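import Cfsg.Agent.J2Type.GRels
import Cfsg.Agent.J2Type.Third
import Cfsg.Agent.J2Type.ThirdCount
import Cfsg.Agent.J2.HundredGens
import Cfsg.Agent.S1619

/-!
Identification of a group of Hall–Janko type with the icosian group `J2`.
-/

set_option autoImplicit false

namespace Cfsg.Agent.J2Type.Ident

open Subgroup Cfsg.Agent.J2Type.Base Cfsg.Agent.J2Type.CentU Cfsg.Agent.J2Type.Pres

/-- The order and six elements satisfying the relations. -/
theorem order_and_rels {G : Type*} [Group G] [Finite G] {z u : G} (h : Fus z u) :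
    Nat.card G = 604800 ∧ ∃ v x a y l : G, Rels v x a z y l := by
  obtain ⟨f, U, V, H0, F⟩ := CentU.main h
  obtain ⟨hG, -, h60, -⟩ := Order.order_of_fus h F.str
  exact ⟨hG, GRels.exists_rels h F h60 hG (Cfsg.Agent.J2Type.Third.exists_d' h F h60)
    (Cfsg.Agent.J2Type.Third.card24E h F)⟩

/-- A group with the fusion data of the Hall–Janko group is isomorphic to the Hall–Janko group on 100 points. -/
theorem isoHundred_of_fus {G : Type*} [Group G] [Finite G] {z u : G} (h : Fus z u) :
    Nonempty (G ≃* Cfsg.Agent.SporadicA.J2Hundred.G) := by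
  obtain ⟨hG, v, x, a, y, l, hr⟩ := order_and_rels h
  exact Cfsg.Agent.J2.HundredGens.iso_hundred hG hr (CentU.z_ne h)

/-- A group with the fusion data of the Hall–Janko group is isomorphic to `J2`. -/
theorem isoJ2_of_fus {G : Type*} [Group G] [Finite G] {z u : G} (h : Fus z u) : Cfsg.Spor.IsoJ2 G := by
  obtain ⟨hG, v, x, a, y, l, hr⟩ := order_and_rels h
  exact Cfsg.Agent.J2.HundredGens.iso_J2 Cfsg.Agent.S1619.result.2.2.2 hG hr (CentU.z_ne h)

end Cfsg.Agent.J2Type.Ident
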