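import Cfsg.Agent.J2Type.SimpleRed
import Cfsg.Agent.J2Type.Ident

/-!
# Simple groups with an involution centraliser `2_-^{1+4} . A5`: the Hall–Janko group, or one class of involutions

`G` finite simple, `C = C_G(t)`, `Q` normal in `C`, extraspecial of order 32, `C_C(Q) ≤ Q`, `|C / Q| = 60`.
No assumption on the fusion is made.
-/

set_option autoImplicit false

open Subgroup

namespace Cfsg.Agent.J2Type.A5Case

open Cfsg.Agent.J2Type.Model Cfsg.Agent.J2Type.ModelExists Cfsg.Agent.J2Type.CStruct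
  Cfsg.Agent.J2Type.COdd Cfsg.Agent.J2Type.Base Cfsg.Agent.J2Type.Fusion

variable {G : Type*} [Group G]

/-- `t` is not weakly closed in `Q`, without assumption on the number of classes. -/
theorem exists_conj_mem [Finite G] [IsSimpleGroup G] (t : G) (ht : orderOf t = 2)
    (Q : Subgroup (centralizer ({t} : Set G))) [Q.Normal]
    (hQ : Cfsg.IsExtraspecial 2 Q) (hcard : Nat.card Q = 32)
    (hC : centralizer (Q : Set (centralizer ({t} : Set G))) ≤ Q)
    (h60 : Nat.card ((centralizer ({t} : Set G)) ⧸ Q) = 60) :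
    ∃ g : G, (∃ hq : g * t * g⁻¹ ∈ centralizer ({t} : Set G),
      (⟨g * t * g⁻¹, hq⟩ : centralizer ({t} : Set G)) ∈ Q) ∧ g * t * g⁻¹ ≠ t := by
  by_contra hcon
  obtain ⟨z', v, ρ, M⟩ := exists_model Q hQ hcard hC h60
  obtain ⟨htt, ht1⟩ := (orderOf_two_iff t).1 ht
  have memC : ∀ x : G, x ∈ centralizer ({t} : Set G) ↔ x * t = t * x := by
    intro x
    rw [mem_centralizer_singleton_iff]
  have htC : t ∈ centralizer ({t} : Set G) := (memC t).2 rfl
  have hz' : (z' : G) = t := by
    rcases eq_of_comm_v M (c := ⟨t, htC⟩) (fun i => Subtype.ext ((memC _).1 (v i).2).symm) with h | h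
    · exact absurd (congrArg Subtype.val h) ht1
    · exact (congrArg Subtype.val h).symm
  have o2 : ∀ x : centralizer ({t} : Set G), orderOf (x : G) = 2 ↔ x * x = 1 ∧ x ≠ 1 := by
    intro x
    rw [Subgroup.orderOf_coe, orderOf_two_iff]
  have htQ : ∀ x : centralizer ({t} : Set G), (x : G) = t → x ∈ Q := by
    intro x hx
    have : x = z' := Subtype.ext (by rw [hx, hz'])
    rw [this]; exact M.z_mem
  have hwc : ∀ x ∈ Q, IsConj t (x : G) → (x : G) = t := by
    intro x hx hconj
    obtain ⟨g, hg⟩ := isConj_iff.mp hconj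
    by_contra hne
    apply hcon
    have hgC : g * t * g⁻¹ ∈ centralizer ({t} : Set G) := by rw [hg]; exact x.2
    refine ⟨g, ⟨hgC, ?_⟩, ?_⟩
    · have : (⟨g * t * g⁻¹, hgC⟩ : centralizer ({t} : Set G)) = x := Subtype.ext hg
      rw [this]; exact hx
    · rw [hg]; exact hne
  have B : ∀ x : centralizer ({t} : Set G), orderOf (x : G) = 2 → x ∉ Q →
      ∃ v ∈ Q, orderOf (v : G) = 2 ∧ (v : G) ≠ t ∧ (x : G) * v = v * x := by
    intro x hx hxQ
    have h3 := card_U_outer M ((o2 x).1 hx).1 hxQ
    by_contra hno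
    push Not at hno
    have hsub : Subsingleton {y : centralizer ({t} : Set G) // y ∈ Q ∧ y * y = 1 ∧ y ≠ 1 ∧ y * x = x * y} := by
      constructor
      rintro ⟨a, ha1, ha2, ha3, ha4⟩ ⟨b, hb1, hb2, hb3, hb4⟩
      have key : ∀ w : centralizer ({t} : Set G), w ∈ Q → w * w = 1 → w ≠ 1 → w * x = x * w → w = z' := by
        intro w h1 h2 h3 h4
        apply Subtype.ext
        rw [hz']
        by_contra hne
        refine hno w h1 ((o2 w).2 ⟨h2, h3⟩) hne ?_
        exact (congrArg Subtype.val h4).symm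
      apply Subtype.ext
      show a = b
      rw [key a ha1 ha2 ha3 ha4, key b hb1 hb2 hb3 hb4]
    have := Finite.card_le_one_iff_subsingleton.mpr hsub
    omega
  have D : ∀ x y : centralizer ({t} : Set G), orderOf (x : G) = 2 → orderOf (y : G) = 2 → x ∉ Q → y ∉ Q →
      IsConj x y := by
    intro x y hx hy hxQ hyQ
    rw [isConj_iff]
    exact outer_conj M ((o2 x).1 hx).1 hxQ ((o2 y).1 hy).1 hyQ
  have hiso : Cfsg.IsIsolatedInvolution t := by
    refine ⟨ht, ?_⟩
    intro g hg
    have hC : g * t * g⁻¹ ∈ centralizer ({t} : Set G) := by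
      rw [mem_centralizer_singleton_iff]; exact hg.symm
    have h2 : orderOf (((⟨g * t * g⁻¹, hC⟩ : centralizer ({t} : Set G)) : G)) = 2 := by
      have : g * t * g⁻¹ = MulAut.conj g t := by simp
      show orderOf (g * t * g⁻¹) = 2
      rw [this, MulEquiv.orderOf_eq, ht]
    have hconj : IsConj t (g * t * g⁻¹) := isConj_iff.mpr ⟨g, rfl⟩
    by_cases hQ : (⟨g * t * g⁻¹, hC⟩ : centralizer ({t} : Set G)) ∈ Q
    · exact hwc _ hQ hconj
    · exact absurd hconj (NotWeaklyClosed.not_isConj_of_outside t ht Q htQ B D hwc _ h2 hQ)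
  refine SimpleRed.not_isolated t hiso ⟨(v 0 : G), (v 1 : G), ?_⟩
  intro h
  have h1 : v 0 * v 1 = v 1 * v 0 := Subtype.ext h
  exact absurd ((v_comm_iff M 0 1).1 h1) (by decide)

/-- Either the Hall–Janko fusion data, or a single class of involutions. -/
theorem fus_or_one [Finite G] [IsSimpleGroup G] (t : G) (ht : orderOf t = 2)
    (Q : Subgroup (centralizer ({t} : Set G))) [Q.Normal]
    (hQ : Cfsg.IsExtraspecial 2 Q) (hcard : Nat.card Q = 32)
    (hC : centralizer (Q : Set (centralizer ({t} : Set G))) ≤ Q)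
    (h60 : Nat.card ((centralizer ({t} : Set G)) ⧸ Q) = 60) :
    (∃ u, Fus t u) ∨ ∀ x y : G, orderOf x = 2 → orderOf y = 2 → IsConj x y := by
  by_cases hone : ∀ x y : G, orderOf x = 2 → orderOf y = 2 → IsConj x y
  · exact Or.inr hone
  · left
    push Not at hone
    obtain ⟨x, y, hx, hy, hxy⟩ := hone
    exact fus_core t ht Q hQ hcard hC h60 (exists_conj_mem t ht Q hQ hcard hC h60) ⟨x, y, hx, hy, hxy⟩

/-- Either the Hall–Janko group, or a single class of involutions. -/
theorem isoJ2_or_one [Finite G] [IsSimpleGroup G] (t : G) (ht : orderOf t = 2)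
    (Q : Subgroup (centralizer ({t} : Set G))) [Q.Normal]
    (hQ : Cfsg.IsExtraspecial 2 Q) (hcard : Nat.card Q = 32)
    (hC : centralizer (Q : Set (centralizer ({t} : Set G))) ≤ Q)
    (h60 : Nat.card ((centralizer ({t} : Set G)) ⧸ Q) = 60) :
    Cfsg.Spor.IsoJ2 G ∨ ∀ x y : G, orderOf x = 2 → orderOf y = 2 → IsConj x y := by
  rcases fus_or_one t ht Q hQ hcard hC h60 with ⟨u, h⟩ | h
  · exact Or.inl (Ident.isoJ2_of_fus h)
  · exact Or.inr h

/-- An elementary abelian 2-subgroup of `Q` has order at most 4 (`Q` has minus type). -/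
theorem card_elementary_le {C : Type*} [Group C] [Finite C] {Q : Subgroup C} {z : C} {v : Fin 5 → C}
    {ρ : C →* SP} (M : IsModel Q z v ρ) (E : Subgroup Q) (hE : Cfsg.IsElementaryAbelian 2 E) :
    Nat.card E ≤ 2 ^ 2 := by
  classical
  obtain ⟨hcomm, hsq⟩ := hE
  have hsq' : ∀ x ∈ E, (x : C) * x = 1 := by
    intro x hx
    have := hsq x hx
    rw [pow_two] at this
    exact congrArg Subtype.val this
  have hc : ∀ x ∈ E, ∀ y ∈ E, (x : C) * y = y * x := by
    intro x hx y hy
    have h1 := hcomm.is_comm.comm (⟨x, hx⟩ : E) ⟨y, hy⟩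
    exact congrArg (fun w : E => ((w : Q) : C)) h1
  -- the elements of `E`
  have hel : ∀ x ∈ E, (∃ a, (x : C) = zp z a) ∨ ∃ a i, (x : C) = zp z a * v i := by
    intro x hx
    rcases M.cover x x.2 with h | h | ⟨a, i, j, hij, h⟩
    · exact Or.inl h
    · exact Or.inr h
    · exfalso
      have h1 := hsq' x hx
      rw [h, sq_zp_mul M, vv_sq M hij.ne] at h1
      exact M.z_ne h1
  by_cases hall : ∀ x ∈ E, ∃ a, (x : C) = zp z a
  · -- `E ≤ ⟨z⟩`
    let F : E → ZMod 2 := fun x => Classical.choose (hall x x.2)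
    have hF : ∀ x : E, ((x : Q) : C) = zp z (F x) := fun x => Classical.choose_spec (hall x x.2)
    have hinj : Function.Injective F := by
      intro x y hxy
      apply Subtype.ext
      apply Subtype.ext
      rw [hF x, hF y, hxy]
    have := Nat.card_le_card_of_injective F hinj
    rw [Nat.card_eq_fintype_card (α := ZMod 2), ZMod.card] at this
    omega
  · push Not at hall
    obtain ⟨x0, hx0, hx0'⟩ := hall
    obtain ⟨a0, i0, h0⟩ : ∃ a i, (x0 : C) = zp z a * v i := by
      rcases hel x0 hx0 with ⟨a, h⟩ | h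
      · exact absurd h (hx0' a)
      · exact h
    have hel' : ∀ x ∈ E, ∃ p : ZMod 2 × Bool, (x : C) = zp z p.1 * (if p.2 then v i0 else 1) := by
      intro x hx
      rcases hel x hx with ⟨a, h⟩ | ⟨a, i, h⟩
      · exact ⟨(a, false), by simpa using h⟩
      · refine ⟨(a, true), ?_⟩
        have h1 := hc x hx x0 hx0
        rw [h, h0] at h1
        have h2 := (zv_comm_iff M a a0 i i0).1 h1
        rw [← h2]
        simpa using h
    let F : E → ZMod 2 × Bool := fun x => Classical.choose (hel' x x.2)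
    have hF : ∀ x : E, ((x : Q) : C) = zp z (F x).1 * (if (F x).2 then v i0 else 1) :=
      fun x => Classical.choose_spec (hel' x x.2)
    have hinj : Function.Injective F := by
      intro x y hxy
      apply Subtype.ext
      apply Subtype.ext
      rw [hF x, hF y, hxy]
    have := Nat.card_le_card_of_injective F hinj
    rw [Nat.card_eq_fintype_card (α := ZMod 2 × Bool), Fintype.card_prod, ZMod.card, Fintype.card_bool] at this
    omega

end Cfsg.Agent.J2Type.A5Case
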