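import Mathlib

/-!
Elements of order 5 of the alternating group of degree 5: centralisers and normalisers.
-/

set_option autoImplicit false
set_option linter.style.haveILetI false

namespace Cfsg.Agent.J2Type.A5Facts

open Subgroup

theorem comm5 : ∀ g x : alternatingGroup (Fin 5), g ^ 5 = 1 → g ≠ 1 → x * g = g * x →
    (x = 1 ∨ x = g ∨ x = g ^ 2 ∨ x = g ^ 3 ∨ x = g ^ 4) := by
  decide +kernel

theorem norm5 : ∀ g : alternatingGroup (Fin 5), g ^ 5 = 1 → g ≠ 1 →
    (Finset.univ.filter (fun x : alternatingGroup (Fin 5) =>
      x * g * x⁻¹ = g ∨ x * g * x⁻¹ = g ^ 2 ∨ x * g * x⁻¹ = g ^ 3 ∨ x * g * x⁻¹ = g ^ 4)).card = 10 := by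
  decide +kernel

theorem mem_zpowers_iff5 {G : Type*} [Group G] {g : G} (hg : orderOf g = 5) (y : G) :
    y ∈ zpowers g ↔ (y = 1 ∨ y = g ∨ y = g ^ 2 ∨ y = g ^ 3 ∨ y = g ^ 4) := by
  classical
  have hfin : IsOfFinOrder g := orderOf_pos_iff.mp (by rw [hg]; norm_num)
  rw [hfin.mem_zpowers_iff_mem_range_orderOf, hg, Finset.mem_image]
  constructor
  · rintro ⟨k, hk, rfl⟩
    rw [Finset.mem_range] at hk
    interval_cases k <;> simp
  · rintro (rfl | rfl | rfl | rfl | rfl)
    · exact ⟨0, by simp, by simp⟩
    · exact ⟨1, by simp, by simp⟩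
    · exact ⟨2, by simp, rfl⟩
    · exact ⟨3, by simp, rfl⟩
    · exact ⟨4, by simp, rfl⟩

/-- In a group isomorphic to the alternating group of degree 5, an element of order 5 is centralised only by
its powers. -/
theorem mem_zpowers_of_comm {K : Type*} [Group K] (e : K ≃* alternatingGroup (Fin 5)) {g x : K}
    (hg : orderOf g = 5) (hx : x * g = g * x) : x ∈ zpowers g := by
  have hg' : orderOf (e g) = 5 := by rw [MulEquiv.orderOf_eq]; exact hg
  have h1 : (e g) ^ 5 = 1 := orderOf_dvd_iff_pow_eq_one.mp hg'.dvd
  have h2 : e g ≠ 1 := by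
    intro h; rw [h, orderOf_one] at hg'; norm_num at hg'
  have h3 := comm5 (e g) (e x) h1 h2 (by rw [← map_mul, hx, map_mul])
  rw [mem_zpowers_iff5 hg]
  rcases h3 with h | h | h | h | h
  · left; exact e.injective (by rw [h, map_one])
  · right; left; exact e.injective h
  · right; right; left; exact e.injective (by rw [h, map_pow])
  · right; right; right; left; exact e.injective (by rw [h, map_pow])
  · right; right; right; right; exact e.injective (by rw [h, map_pow])

/-- In a group isomorphic to the alternating group of degree 5, the normaliser of a subgroup of order 5 has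
order 10. -/
theorem card_normalizer_zpowers {K : Type*} [Group K] (e : K ≃* alternatingGroup (Fin 5)) {g : K}
    (hg : orderOf g = 5) : Nat.card (normalizer ((zpowers g : Subgroup K) : Set K)) = 10 := by
  classical
  have hg' : orderOf (e g) = 5 := by rw [MulEquiv.orderOf_eq]; exact hg
  have h1 : (e g) ^ 5 = 1 := orderOf_dvd_iff_pow_eq_one.mp hg'.dvd
  have h2 : e g ≠ 1 := by
    intro h; rw [h, orderOf_one] at hg'; norm_num at hg'
  rw [← norm5 (e g) h1 h2, ← Fintype.card_coe, ← Nat.card_eq_fintype_card]
  refine Nat.card_congr (e.toEquiv.subtypeEquiv ?_)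
  intro x
  have hfin : IsOfFinOrder g := orderOf_pos_iff.mp (by rw [hg]; norm_num)
  have hne : x * g * x⁻¹ ≠ 1 := by
    intro h
    have : g = 1 := by
      have := congrArg (fun y => x⁻¹ * y * x) h
      simpa [mul_assoc] using this
    rw [this, orderOf_one] at hg; norm_num at hg
  have key : x ∈ normalizer ((zpowers g : Subgroup K) : Set K) ↔ x * g * x⁻¹ ∈ zpowers g := by
    constructor
    · intro h
      exact (mem_normalizer_iff.mp h g).mp (mem_zpowers g)
    · intro h
      rw [mem_normalizer_iff]
      have hmap : (zpowers g).map (MulAut.conj x).toMonoidHom ≤ zpowers g := by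
        rw [MonoidHom.map_zpowers, zpowers_le]
        exact h
      have hfinz : Finite (zpowers g) := by
        have : 0 < Nat.card (zpowers g) := by rw [Nat.card_zpowers, hg]; norm_num
        exact Nat.finite_of_card_ne_zero this.ne'
      have hmap' : (zpowers g).map (MulAut.conj x).toMonoidHom = zpowers g := by
        refine eq_of_le_of_card_ge hmap ?_
        rw [Subgroup.card_map_of_injective (MulAut.conj x).injective]
      intro y
      constructor
      · intro hy
        rw [← hmap', mem_map]
        exact ⟨y, hy, rfl⟩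
      · intro hy
        rw [← hmap', mem_map] at hy
        obtain ⟨y', hy', h'⟩ := hy
        have : y' = y := (MulAut.conj x).injective h'
        rw [← this]; exact hy'
  rw [key, mem_zpowers_iff5 hg]
  simp only [MulEquiv.toEquiv_eq_coe, EquivLike.coe_coe, Finset.mem_filter, Finset.mem_univ, true_and]
  constructor
  · rintro (h | h | h | h | h)
    · exact absurd h hne
    · left; rw [← map_mul, ← map_inv, ← map_mul, h]
    · right; left; rw [← map_mul, ← map_inv, ← map_mul, h, map_pow]
    · right; right; left; rw [← map_mul, ← map_inv, ← map_mul, h, map_pow]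
    · right; right; right; rw [← map_mul, ← map_inv, ← map_mul, h, map_pow]
  · intro h
    simp only [← map_mul, ← map_inv, ← map_pow] at h
    simp only [e.injective.eq_iff] at h
    tauto

end Cfsg.Agent.J2Type.A5Facts
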