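import Mathlib

/-!
Finite facts about the alternating group of degree 5.
-/

set_option autoImplicit false

namespace Cfsg.Agent.J2Type.A5More

theorem exists_yl : ∀ z : alternatingGroup (Fin 5), z * z = 1 → z ≠ 1 →
    ∃ y l : alternatingGroup (Fin 5), y ^ 3 = 1 ∧ y ≠ 1 ∧ (z * y) ^ 3 = 1 ∧ l * l = 1 ∧ (y * l) ^ 2 = 1 ∧
      (z * l) ^ 3 = 1 ∧ (z * (l * y)) ^ 5 = 1 ∧ z * (l * y) ≠ 1 := by
  decide +kernel

set_option synthInstance.maxSize 2000 in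
set_option synthInstance.maxHeartbeats 0 in
theorem exists_a : ∀ v x : alternatingGroup (Fin 5), v * v = 1 → v ≠ 1 → x ^ 3 = 1 → x ≠ 1 →
    (v * x) ^ 3 = 1 →
    ∃ a : alternatingGroup (Fin 5), a * a = 1 ∧ a ≠ 1 ∧ (x * a) ^ 2 = 1 ∧ (v * a) ^ 3 = 1 ∧
      (v * x * a) ^ 5 = 1 ∧ v * x * a ≠ 1 := by
  decide +kernel

set_option synthInstance.maxSize 2000 in
set_option synthInstance.maxHeartbeats 0 in
theorem unique_a : ∀ v x : alternatingGroup (Fin 5), v * v = 1 → v ≠ 1 → x ^ 3 = 1 → x ≠ 1 →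
    (v * x) ^ 3 = 1 → ∀ a : alternatingGroup (Fin 5), a * a = 1 → a ≠ 1 → (x * a) ^ 2 = 1 →
      (v * a) ^ 3 = 1 → ∀ b : alternatingGroup (Fin 5), b * b = 1 → b ≠ 1 → (x * b) ^ 2 = 1 →
      (v * b) ^ 3 = 1 → b = a := by
  decide +kernel

end Cfsg.Agent.J2Type.A5More
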