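import Mathlib
import Cfsg.Agent.J2Type.CentQuot
import Cfsg.Agent.J2Type.A5Facts
import Cfsg.Agent.J2Type.SylowSeven

/-!
Sylow 5-subgroups of a group of order 604800 with an element `w'` of order 5 centralised by a four-group as in
`CentQuot`, and an element `w` of order 5 with `|C(w)|` not divisible by 4.
-/

set_option autoImplicit false
set_option linter.style.haveILetI false

namespace Cfsg.Agent.J2Type.SylowFive

open Subgroup Cfsg.Agent.J2Type.FourSelfCent Cfsg.Agent.J2Type.SylowSeven Cfsg.Agent.J2Type.CentQuot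
  Cfsg.Agent.J2Type.A5Facts

variable {G : Type*} [Group G]

theorem card_eq_of_fibers {α β : Type*} [Finite α] (f : α → β) (n : ℕ)
    (h : ∀ a : α, Nat.card {a' : α // f a' = f a} = n) : n ∣ Nat.card α := by
  classical
  haveI := Fintype.ofFinite α
  have h1 : Fintype.card α = ∑ b ∈ Finset.univ.image f, (Finset.univ.filter (fun a => f a = b)).card := by
    rw [← Finset.card_univ]
    exact Finset.card_eq_sum_card_image f Finset.univ
  rw [Nat.card_eq_fintype_card, h1]
  apply Finset.dvd_sum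
  intro b hb
  obtain ⟨a, -, rfl⟩ := Finset.mem_image.mp hb
  have := h a
  rw [Nat.card_eq_fintype_card, Fintype.card_subtype] at this
  rw [this]

theorem zp_eq {x y : G} (h1 : y ∈ zpowers x) (h2 : x ∈ zpowers y) : zpowers y = zpowers x :=
  le_antisymm (zpowers_le.mpr h1) (zpowers_le.mpr h2)

/-- A finite set of elements of order 5 closed under squaring has cardinality divisible by 4. -/
theorem four_dvd_card {T : Set G} [Finite T] (h5 : ∀ x ∈ T, orderOf x = 5) (hsq : ∀ x ∈ T, x ^ 2 ∈ T) :
    4 ∣ Nat.card T := by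
  classical
  apply card_eq_of_fibers (fun x : T => zpowers (x : G)) 4
  rintro ⟨x, hx⟩
  have ho := h5 x hx
  have hpow : ∀ k : ℕ, x ^ 5 = 1 := fun _ => by rw [← ho]; exact pow_orderOf_eq_one x
  have h1 := hsq x hx
  have h2 : x ^ 4 ∈ T := by have := hsq _ h1; rwa [← pow_mul] at this
  have h3 : x ^ 3 ∈ T := by
    have := hsq _ h2
    rw [← pow_mul, show 4 * 2 = 5 + 3 by norm_num, pow_add, hpow 0, one_mul] at this
    exact this
  have hmod : ∀ i j : ℕ, i < 5 → j < 5 → x ^ i = x ^ j → i = j := by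
    intro i j hi hj h
    exact pow_injOn_Iio_orderOf (by rw [ho]; exact hi) (by rw [ho]; exact hj) h
  have hz2 : zpowers (x ^ 2) = zpowers x := zp_eq (npow_mem_zpowers x 2) (by
    have : x = (x ^ 2) ^ 3 := by
      rw [← pow_mul, show 2 * 3 = 5 + 1 by norm_num, pow_add, hpow 0]; simp
    exact mem_zpowers_iff.mpr ⟨3, by exact_mod_cast this.symm⟩)
  have hz3 : zpowers (x ^ 3) = zpowers x := zp_eq (npow_mem_zpowers x 3) (by
    have : x = (x ^ 3) ^ 2 := by
      rw [← pow_mul, show 3 * 2 = 5 + 1 by norm_num, pow_add, hpow 0]; simp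
    exact mem_zpowers_iff.mpr ⟨2, by exact_mod_cast this.symm⟩)
  have hz4 : zpowers (x ^ 4) = zpowers x := zp_eq (npow_mem_zpowers x 4) (by
    have : x = (x ^ 4) ^ 4 := by
      rw [← pow_mul, show 4 * 4 = 5 * 3 + 1 by norm_num, pow_add, pow_mul, hpow 0]; simp
    exact mem_zpowers_iff.mpr ⟨4, by exact_mod_cast this.symm⟩)
  let f : Fin 4 → {a' : T // zpowers (a' : G) = zpowers x} := fun i =>
    match i with
    | 0 => ⟨⟨x, hx⟩, rfl⟩
    | 1 => ⟨⟨x ^ 2, h1⟩, hz2⟩
    | 2 => ⟨⟨x ^ 3, h3⟩, hz3⟩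
    | 3 => ⟨⟨x ^ 4, h2⟩, hz4⟩
  have hinj : Function.Injective f := by
    intro i j hij
    have hij' : ((f i).1 : G) = ((f j).1 : G) := by rw [hij]
    have hx1 : x = x ^ 1 := (pow_one x).symm
    fin_cases i <;> fin_cases j <;> first | rfl | (exfalso; simp only [f] at hij')
    · have := hmod 1 2 (by norm_num) (by norm_num) (by rw [← hx1]; exact hij'); omega
    · have := hmod 1 3 (by norm_num) (by norm_num) (by rw [← hx1]; exact hij'); omega
    · have := hmod 1 4 (by norm_num) (by norm_num) (by rw [← hx1]; exact hij'); omega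
    · have := hmod 2 1 (by norm_num) (by norm_num) (by rw [← hx1]; exact hij'); omega
    · have := hmod 2 3 (by norm_num) (by norm_num) hij'; omega
    · have := hmod 2 4 (by norm_num) (by norm_num) hij'; omega
    · have := hmod 3 1 (by norm_num) (by norm_num) (by rw [← hx1]; exact hij'); omega
    · have := hmod 3 2 (by norm_num) (by norm_num) hij'; omega
    · have := hmod 3 4 (by norm_num) (by norm_num) hij'; omega
    · have := hmod 4 1 (by norm_num) (by norm_num) (by rw [← hx1]; exact hij'); omega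
    · have := hmod 4 2 (by norm_num) (by norm_num) hij'; omega
    · have := hmod 4 3 (by norm_num) (by norm_num) hij'; omega
  have hsurj : Function.Surjective f := by
    rintro ⟨⟨y, hy⟩, hyz⟩
    have hmem : y ∈ zpowers x := by
      have : y ∈ zpowers y := mem_zpowers y
      rw [show zpowers y = zpowers x from hyz] at this
      exact this
    rcases (mem_zpowers_iff5 ho y).mp hmem with h | h | h | h | h
    · exfalso
      have := h5 y hy
      rw [h, orderOf_one] at this; norm_num at this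
    · exact ⟨0, Subtype.ext (Subtype.ext h.symm)⟩
    · exact ⟨1, Subtype.ext (Subtype.ext h.symm)⟩
    · exact ⟨2, Subtype.ext (Subtype.ext h.symm)⟩
    · exact ⟨3, Subtype.ext (Subtype.ext h.symm)⟩
  rw [← Nat.card_eq_of_bijective f ⟨hinj, hsurj⟩]
  simp

/-- Orbit counting for the conjugation action of a subgroup. -/
theorem card_orbit [Finite G] (N : Subgroup G) (x : G) :
    Nat.card {y : G // ∃ n ∈ N, n * x * n⁻¹ = y} * Nat.card (N ⊓ centralizer ({x} : Set G) : Subgroup G) =
      Nat.card N := by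
  let f : N → {y : G // ∃ n ∈ N, n * x * n⁻¹ = y} := fun n => ⟨n * x * (n : G)⁻¹, n, n.2, rfl⟩
  have hf : ∀ b : {y : G // ∃ n ∈ N, n * x * n⁻¹ = y}, Nat.card {a : N // f a = b} =
      Nat.card (N ⊓ centralizer ({x} : Set G) : Subgroup G) := by
    rintro ⟨y, n, hn, rfl⟩
    refine Nat.card_congr
      { toFun := fun a => ⟨n⁻¹ * a.1.1, ?_⟩
        invFun := fun c => ⟨⟨n * c.1, N.mul_mem hn (mem_inf.mp c.2).1⟩, ?_⟩
        left_inv := ?_
        right_inv := ?_ }
    · have h1 : (a.1.1 : G) * x * (a.1.1 : G)⁻¹ = n * x * n⁻¹ := congrArg Subtype.val a.2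
      rw [mem_inf, mem_centralizer_singleton_iff]
      refine ⟨N.mul_mem (N.inv_mem hn) a.1.2, ?_⟩
      calc n⁻¹ * a.1.1 * x = n⁻¹ * ((a.1.1 : G) * x * (a.1.1 : G)⁻¹) * a.1.1 := by group
        _ = x * (n⁻¹ * a.1.1) := by rw [h1]; group
    · have h2 := mem_centralizer_singleton_iff.mp (mem_inf.mp c.2).2
      apply Subtype.ext
      show n * c.1 * x * (n * c.1)⁻¹ = n * x * n⁻¹
      calc n * c.1 * x * (n * c.1)⁻¹ = n * (c.1 * x) * c.1⁻¹ * n⁻¹ := by group
        _ = n * x * n⁻¹ := by rw [h2]; group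
    · intro a
      apply Subtype.ext; apply Subtype.ext
      show n * (n⁻¹ * a.1.1) = a.1.1
      group
    · intro c
      apply Subtype.ext
      show n⁻¹ * (n * c.1) = c.1
      group
  haveI := Fintype.ofFinite {y : G // ∃ n ∈ N, n * x * n⁻¹ = y}
  rw [← Nat.card_congr (Equiv.sigmaFiberEquiv f), Nat.card_sigma]
  simp only [hf]
  rw [Finset.sum_const, Finset.card_univ, Nat.card_eq_fintype_card, smul_eq_mul]

/-- An element of order 5 centralised by a four-group as in `CentQuot`. -/
def Good (w : G) : Prop :=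
  orderOf w = 5 ∧ IsConj w w⁻¹ ∧ ∃ V : Subgroup G, Nat.card V = 4 ∧ (∀ v ∈ V, v * v = 1) ∧
    (∀ v ∈ V, v * w = w * v) ∧
    ∀ v ∈ V, v ≠ 1 → ∀ x, x * v = v * x → x * w = w * x → ∃ y ∈ V, ∃ k : ℤ, x = y * w ^ k

theorem Good.conj {w : G} (h : Good w) (g : G) : Good (g * w * g⁻¹) := by
  obtain ⟨h5, hreal, V, hV, hsq, hVw, hc⟩ := h
  refine ⟨?_, ?_, V.map (MulAut.conj g).toMonoidHom, ?_, ?_, ?_, ?_⟩
  · rw [show g * w * g⁻¹ = MulAut.conj g w from rfl, MulEquiv.orderOf_eq]; exact h5
  · have h1 : IsConj w (g * w * g⁻¹) := isConj_iff.mpr ⟨g, rfl⟩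
    have h2 : IsConj w⁻¹ (g * w * g⁻¹)⁻¹ := isConj_iff.mpr ⟨g, by group⟩
    exact h1.symm.trans (hreal.trans h2)
  · rw [Subgroup.card_map_of_injective (MulAut.conj g).injective]; exact hV
  · rintro _ ⟨v, hv, rfl⟩
    show (g * v * g⁻¹) * (g * v * g⁻¹) = 1
    have : (g * v * g⁻¹) * (g * v * g⁻¹) = g * (v * v) * g⁻¹ := by group
    rw [this, hsq v hv]; group
  · rintro _ ⟨v, hv, rfl⟩
    show (g * v * g⁻¹) * (g * w * g⁻¹) = (g * w * g⁻¹) * (g * v * g⁻¹)
    have : (g * v * g⁻¹) * (g * w * g⁻¹) = g * (v * w) * g⁻¹ := by group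
    rw [this, hVw v hv]; group
  · rintro _ ⟨v, hv, rfl⟩ hv1 x hx hxw
    have hv1' : v ≠ 1 := by rintro rfl; exact hv1 (map_one _)
    change x * (g * v * g⁻¹) = (g * v * g⁻¹) * x at hx
    obtain ⟨y, hy, k, hk⟩ := hc v hv hv1' (g⁻¹ * x * g) (by
        calc g⁻¹ * x * g * v = g⁻¹ * (x * (g * v * g⁻¹)) * g := by group
          _ = v * (g⁻¹ * x * g) := by rw [hx]; group) (by
        calc g⁻¹ * x * g * w = g⁻¹ * (x * (g * w * g⁻¹)) * g := by group
          _ = w * (g⁻¹ * x * g) := by rw [hxw]; group)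
    refine ⟨g * y * g⁻¹, ⟨y, hy, rfl⟩, k, ?_⟩
    have : x = g * (g⁻¹ * x * g) * g⁻¹ := by group
    rw [this, hk, conj_zpow]; group

theorem Good.card_centralizer_cases [Finite G] {w : G} (h : Good w) :
    Nat.card (centralizer ({w} : Set G)) = 20 ∨ Nat.card (centralizer ({w} : Set G)) = 60 ∨
      Nat.card (centralizer ({w} : Set G)) = 300 := by
  obtain ⟨h5, hreal, V, hV, hsq, hVw, hc⟩ := h
  exact CentQuot.card_centralizer_cases (p := 5) (by decide) h5 hV hsq hVw hc

theorem card_sylow_five [Finite G] (hG : Nat.card G = 604800) (P : Sylow 5 G) :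
    Nat.card (P : Subgroup G) = 25 := by
  haveI : Fact (Nat.Prime 5) := ⟨by norm_num⟩
  have := card_sylow P 2 24192 (by rw [hG]; norm_num) (by norm_num)
  simpa using this

theorem isMulCommutative_sylow [Finite G] (hG : Nat.card G = 604800) (P : Sylow 5 G) :
    IsMulCommutative (P : Subgroup G) := by
  haveI : Fact (Nat.Prime 5) := ⟨by norm_num⟩
  exact IsPGroup.isMulCommutative_of_card_eq_prime_sq (p := 5)
    (by rw [card_sylow_five hG P]; norm_num)

theorem comm_of_mem [Finite G] (hG : Nat.card G = 604800) (P : Sylow 5 G) {x y : G} (hx : x ∈ P) (hy : y ∈ P) :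
    x * y = y * x := by
  have := (isMulCommutative_sylow hG P).is_comm.comm (⟨x, hx⟩ : (P : Subgroup G)) ⟨y, hy⟩
  exact congrArg Subtype.val this

theorem sylow_le_centralizer [Finite G] (hG : Nat.card G = 604800) (P : Sylow 5 G) {w : G} (hw : w ∈ P) :
    (P : Subgroup G) ≤ centralizer ({w} : Set G) := by
  intro x hx
  rw [mem_centralizer_singleton_iff]
  exact comm_of_mem hG P hx hw

theorem Good.card_centralizer [Finite G] (hG : Nat.card G = 604800) {P : Sylow 5 G} {w : G} (h : Good w)
    (hw : w ∈ P) : Nat.card (centralizer ({w} : Set G)) = 300 := by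
  have h1 : 25 ∣ Nat.card (centralizer ({w} : Set G)) := by
    rw [← card_sylow_five hG P]
    exact card_dvd_of_le (sylow_le_centralizer hG P hw)
  rcases h.card_centralizer_cases with h2 | h2 | h2
  · rw [h2] at h1; norm_num at h1
  · rw [h2] at h1; norm_num at h1
  · exact h2

theorem mem_of_mk_eq {w : G} {P : Subgroup G} (hw : w ∈ P) {x y : centralizer ({w} : Set G)}
    (hy : (y : G) ∈ P) (h : (x : CQ w) = y) : (x : G) ∈ P := by
  rw [QuotientGroup.eq, mem_cyc] at h
  have h1 : ((x⁻¹ * y : centralizer ({w} : Set G)) : G) ∈ P := (zpowers_le.mpr hw) h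
  have h2 : (x : G) = y * ((x⁻¹ * y : centralizer ({w} : Set G)) : G)⁻¹ := by
    simp only [coe_mul, coe_inv]; group
  rw [h2]
  exact P.mul_mem hy (P.inv_mem h1)

theorem card_comap_mk' {C : Type*} [Group C] [Finite C] (Z : Subgroup C) [Z.Normal] (H : Subgroup (C ⧸ Z)) :
    Nat.card (H.comap (QuotientGroup.mk' Z)) = Nat.card H * Nat.card Z := by
  have h1 := (H.comap (QuotientGroup.mk' Z)).card_mul_index
  rw [index_comap_of_surjective H (QuotientGroup.mk'_surjective Z)] at h1
  have h2 := H.card_mul_index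
  have h3 := Subgroup.card_eq_card_quotient_mul_card_subgroup Z
  have h4 : 0 < H.index := Nat.pos_of_ne_zero (index_ne_zero_of_finite)
  rw [h3, ← h2] at h1
  have : Nat.card (H.comap (QuotientGroup.mk' Z)) * H.index = (Nat.card H * Nat.card Z) * H.index := by
    rw [h1]; ring
  exact Nat.eq_of_mul_eq_mul_right h4 this

theorem Good.key [Finite G] (hG : Nat.card G = 604800) {P : Sylow 5 G} {w : G} (h : Good w)
    (hw : w ∈ P) : centralizer ((P : Subgroup G) : Set G) = P ∧
      Nat.card (normalizer ((P : Subgroup G) : Set G) ⊓ centralizer ({w} : Set G) : Subgroup G) = 50 := by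
  have h300 := h.card_centralizer hG hw
  have hle := sylow_le_centralizer hG P hw
  have hP25 := card_sylow_five hG P
  obtain ⟨h5, hreal, V, hV, hsq, hVw, hc⟩ := h
  have hyp := hyp_im (p := 5) (by decide) h5 hV hsq hVw hc
  have h60 : Nat.card (CQ w) = 60 := by
    have := card_centralizer_eq w
    rw [h300, h5] at this; omega
  obtain ⟨e⟩ := hyp.equiv_of_card_60 h60
  -- an element of `P` outside `⟨w⟩`
  obtain ⟨g, hgP, hgw⟩ : ∃ g ∈ P, g ∉ zpowers w := by
    by_contra hcon
    push Not at hcon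
    have h1 : (P : Subgroup G) ≤ zpowers w := hcon
    have h2 := card_dvd_of_le h1
    rw [hP25, Nat.card_zpowers, h5] at h2
    norm_num at h2
  set g' : centralizer ({w} : Set G) := ⟨g, hle hgP⟩ with hg'
  have hg5 : orderOf (g' : CQ w) = 5 := by
    have h1 : (g' : CQ w) ≠ 1 := by
      intro h
      exact hgw ((mk_eq_one g').mp h)
    have h2 : orderOf (g' : CQ w) ∣ 25 := by
      apply orderOf_dvd_of_pow_eq_one
      rw [← QuotientGroup.mk_pow]
      have : g' ^ 25 = 1 := by
        apply Subtype.ext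
        show g ^ 25 = 1
        have := pow_card_eq_one' (x := (⟨g, hgP⟩ : (P : Subgroup G)))
        rw [hP25] at this
        exact congrArg Subtype.val this
      rw [this]; rfl
    have h3 : orderOf (g' : CQ w) ∣ 60 := by rw [← h60]; exact orderOf_dvd_natCard _
    have h4 : orderOf (g' : CQ w) ∣ 5 := by
      have := Nat.dvd_gcd h2 h3
      norm_num at this; exact this
    rcases (Nat.dvd_prime (by norm_num)).mp h4 with h5' | h5'
    · exact absurd (orderOf_eq_one_iff.mp h5') h1
    · exact h5'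
  -- the preimage of `⟨ḡ⟩` is `P`
  have hcomap : (zpowers (g' : CQ w)).comap (QuotientGroup.mk' (cyc w)) =
      (P : Subgroup G).subgroupOf (centralizer ({w} : Set G)) := by
    refine eq_of_le_of_card_ge ?_ ?_
    · intro x hx
      rw [mem_comap] at hx
      obtain ⟨k, hk⟩ := mem_zpowers_iff.mp hx
      rw [mem_subgroupOf]
      refine mem_of_mk_eq (y := g' ^ k) hw ?_ ?_
      · rw [coe_zpow]; exact (P : Subgroup G).zpow_mem hgP k
      · rw [QuotientGroup.mk_zpow]; exact hk.symm
    · rw [Nat.card_congr (subgroupOfEquivOfLe hle).toEquiv, hP25]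
      rw [card_comap_mk', Nat.card_zpowers, hg5, card_cyc, h5]
  have hsurj : Function.Surjective (QuotientGroup.mk' (cyc w)) := QuotientGroup.mk'_surjective _
  constructor
  · refine le_antisymm ?_ ?_
    · intro x hx
      have hxw : x ∈ centralizer ({w} : Set G) := by
        rw [mem_centralizer_singleton_iff]
        exact ((mem_centralizer_iff.mp hx) w hw).symm
      have hxg : x * g = g * x := ((mem_centralizer_iff.mp hx) g hgP).symm
      have h1 : ((⟨x, hxw⟩ : centralizer ({w} : Set G)) : CQ w) ∈ zpowers (g' : CQ w) := by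
        apply mem_zpowers_of_comm e hg5
        rw [← QuotientGroup.mk_mul, ← QuotientGroup.mk_mul]
        congr 1
        exact Subtype.ext hxg
      have h2 : (⟨x, hxw⟩ : centralizer ({w} : Set G)) ∈
          (zpowers (g' : CQ w)).comap (QuotientGroup.mk' (cyc w)) := mem_comap.mpr h1
      rw [hcomap, mem_subgroupOf] at h2
      exact h2
    · intro x hx
      rw [mem_centralizer_iff]
      intro y hy
      exact comm_of_mem hG P hy hx
  · have h1 := card_normalizer_zpowers e hg5
    have h2 := card_comap_mk' (cyc w) (normalizer ((zpowers (g' : CQ w) : Subgroup (CQ w)) : Set (CQ w)))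
    rw [h1, card_cyc, h5, comap_normalizer_eq_of_surjective _ hsurj, hcomap,
      ← subgroupOf_normalizer_eq hle] at h2
    rw [show (50 : ℕ) = 10 * 5 by norm_num, ← h2]
    refine Nat.card_congr ?_
    exact
      { toFun := fun x => ⟨⟨x.1, (mem_inf.mp x.2).2⟩, mem_subgroupOf.mpr (mem_inf.mp x.2).1⟩
        invFun := fun x => ⟨x.1.1, mem_inf.mpr ⟨mem_subgroupOf.mp x.2, x.1.2⟩⟩
        left_inv := fun x => rfl
        right_inv := fun x => rfl }

/-- The elements of `P` conjugate to `x`. -/
def O (P : Sylow 5 G) (x : G) : Set G := {y | y ∈ P ∧ IsConj x y}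

theorem mem_O_iff [Finite G] (hG : Nat.card G = 604800) {P : Sylow 5 G} {x : G} (hx : x ∈ P) {y : G} :
    y ∈ O P x ↔ ∃ n ∈ normalizer ((P : Subgroup G) : Set G), n * x * n⁻¹ = y := by
  haveI : Fact (Nat.Prime 5) := ⟨by norm_num⟩
  haveI := isMulCommutative_sylow hG P
  constructor
  · rintro ⟨hy, hxy⟩
    obtain ⟨c, hc⟩ := isConj_iff.mp hxy
    have h1 : (c⁻¹)⁻¹ * x * c⁻¹ ∈ P := by rw [inv_inv, hc]; exact hy
    obtain ⟨n, hn, h⟩ := P.conj_eq_normalizer_conj_of_mem x c⁻¹ hx h1
    refine ⟨n⁻¹, (normalizer ((P : Subgroup G) : Set G)).inv_mem hn, ?_⟩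
    rw [inv_inv, ← h, inv_inv, hc]
  · rintro ⟨n, hn, rfl⟩
    exact ⟨(mem_normalizer_iff.mp hn x).mp hx, isConj_iff.mpr ⟨n, rfl⟩⟩

theorem card_O [Finite G] (hG : Nat.card G = 604800) {P : Sylow 5 G} {x : G} (hx : x ∈ P) :
    Nat.card (O P x) * Nat.card (normalizer ((P : Subgroup G) : Set G) ⊓
      centralizer ({x} : Set G) : Subgroup G) = Nat.card (normalizer ((P : Subgroup G) : Set G)) := by
  rw [← card_orbit (normalizer ((P : Subgroup G) : Set G)) x]
  congr 1
  exact Nat.card_congr (Equiv.subtypeEquivRight fun y => mem_O_iff hG hx)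

/-- The elements of `P` conjugate to a generator of `⟨x⟩`, for `x` real of order 5. -/
def T (P : Sylow 5 G) (x : G) : Set G := O P x ∪ O P (x ^ 2)

theorem orderOf_eq_of_isConj {x y : G} (h : IsConj x y) : orderOf x = orderOf y := by
  obtain ⟨c, rfl⟩ := isConj_iff.mp h
  exact (MulEquiv.orderOf_eq (MulAut.conj c) x).symm

theorem orderOf_of_mem_T {P : Sylow 5 G} {x : G} (hx : orderOf x = 5) {y : G} (hy : y ∈ T P x) :
    orderOf y = 5 := by
  rcases hy with ⟨-, hy⟩ | ⟨-, hy⟩
  · rw [← orderOf_eq_of_isConj hy]; exact hx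
  · rw [← orderOf_eq_of_isConj hy, Nat.Coprime.orderOf_pow (by rw [hx]; norm_num), hx]

theorem pow_five {x : G} (hx : orderOf x = 5) : x ^ 5 = 1 := by
  rw [← hx]; exact pow_orderOf_eq_one x

theorem sq_mem_T {P : Sylow 5 G} {x : G} (hx : orderOf x = 5) (hreal : IsConj x x⁻¹) {y : G} (hy : y ∈ T P x) :
    y ^ 2 ∈ T P x := by
  have hinv : x⁻¹ = x ^ 4 := by
    rw [inv_eq_iff_mul_eq_one, ← pow_succ']
    exact pow_five hx
  rcases hy with ⟨hyP, hy⟩ | ⟨hyP, hy⟩
  · right
    exact ⟨(P : Subgroup G).pow_mem hyP 2, hy.pow 2⟩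
  · left
    refine ⟨(P : Subgroup G).pow_mem hyP 2, ?_⟩
    have h1 := hy.pow 2
    rw [← pow_mul] at h1
    rw [hinv] at hreal
    exact hreal.trans h1

theorem four_dvd_card_T [Finite G] {P : Sylow 5 G} {x : G} (hx : orderOf x = 5) (hreal : IsConj x x⁻¹) :
    4 ∣ Nat.card (T P x) :=
  four_dvd_card (fun _ hy => orderOf_of_mem_T hx hy) (fun _ hy => sq_mem_T hx hreal hy)

theorem centralizer_sq {x : G} (hx : orderOf x = 5) :
    centralizer ({x ^ 2} : Set G) = centralizer ({x} : Set G) := by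
  have hx3 : (x ^ 2) ^ 3 = x := by
    rw [← pow_mul, show 2 * 3 = 5 + 1 by norm_num, pow_add, pow_five hx]; simp
  ext y
  rw [mem_centralizer_singleton_iff, mem_centralizer_singleton_iff]
  constructor
  · intro h
    have := (show Commute y (x ^ 2) from h).pow_right 3
    rw [hx3] at this
    exact this
  · intro h
    exact (show Commute y x from h).pow_right 2

theorem one_notMem_T {P : Sylow 5 G} {x : G} (hx : orderOf x = 5) : (1 : G) ∉ T P x := by
  intro h
  have := orderOf_of_mem_T hx h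
  rw [orderOf_one] at this; norm_num at this

theorem T_subset {P : Sylow 5 G} {x : G} : T P x ⊆ (P : Set G) := by
  rintro y (⟨hy, -⟩ | ⟨hy, -⟩) <;> exact hy

/-- `O P x` and `O P (x^2)` are equal or disjoint. -/
theorem O_eq_or_disjoint (P : Sylow 5 G) (x y : G) : O P x = O P y ∨ Disjoint (O P x) (O P y) := by
  by_cases h : IsConj x y
  · left
    ext z
    exact ⟨fun hz => ⟨hz.1, h.symm.trans hz.2⟩, fun hz => ⟨hz.1, h.trans hz.2⟩⟩
  · right
    rw [Set.disjoint_left]
    intro z hz hz'
    exact h (hz.2.trans hz'.2.symm)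

theorem card_T [Finite G] (hG : Nat.card G = 604800) {P : Sylow 5 G} {x : G} (hxP : x ∈ P)
    (hx : orderOf x = 5) :
    Nat.card (T P x) = Nat.card (O P x) ∨ Nat.card (T P x) = 2 * Nat.card (O P x) := by
  have h1 := card_O hG hxP
  have h2 := card_O hG ((P : Subgroup G).pow_mem hxP 2)
  rw [centralizer_sq hx, ← h1] at h2
  have h3 : Nat.card (O P (x ^ 2)) = Nat.card (O P x) := Nat.eq_of_mul_eq_mul_right Nat.card_pos h2
  rcases O_eq_or_disjoint P x (x ^ 2) with h | h
  · left
    unfold T
    rw [← h, Set.union_self]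
  · right
    unfold T
    rw [Nat.card_coe_set_eq, Set.ncard_union_eq h, ← Nat.card_coe_set_eq, ← Nat.card_coe_set_eq, h3]
    ring

/-- An element of order 5 of `P` whose centraliser has order not divisible by 4. -/
theorem card_stab [Finite G] (hG : Nat.card G = 604800) {P : Sylow 5 G}
    (hCP : centralizer ((P : Subgroup G) : Set G) = P) {x : G} (hxP : x ∈ P)
    (hx : orderOf x = 5) (h4 : ¬ 4 ∣ Nat.card (centralizer ({x} : Set G))) :
    Nat.card (normalizer ((P : Subgroup G) : Set G) ⊓ centralizer ({x} : Set G) : Subgroup G) = 25 ∨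
      Nat.card (normalizer ((P : Subgroup G) : Set G) ⊓ centralizer ({x} : Set G) : Subgroup G) = 50 := by
  classical
  set S := normalizer ((P : Subgroup G) : Set G) ⊓ centralizer ({x} : Set G) with hS
  have hP25 := card_sylow_five hG P
  have hPS : (P : Subgroup G) ≤ S := by
    rw [hS]
    exact le_inf le_normalizer (sylow_le_centralizer hG P hxP)
  obtain ⟨s, hs⟩ : 25 ∣ Nat.card S := by rw [← hP25]; exact card_dvd_of_le hPS
  -- orbits of `S` on `P \ ⟨x⟩`
  let X : Set G := {v | v ∈ P ∧ v ∉ zpowers x}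
  have hXS : ∀ n ∈ S, ∀ v ∈ X, n * v * n⁻¹ ∈ X := by
    rintro n hn v ⟨hv, hvx⟩
    rw [hS, mem_inf] at hn
    refine ⟨(mem_normalizer_iff.mp hn.1 v).mp hv, ?_⟩
    intro h
    apply hvx
    obtain ⟨k, hk⟩ := mem_zpowers_iff.mp h
    have hc : Commute n (x ^ k) :=
      (show Commute n x from mem_centralizer_singleton_iff.mp hn.2).zpow_right k
    have : v = x ^ k := by
      have h1 : v = n⁻¹ * (n * v * n⁻¹) * n := by group
      rw [h1, ← hk, mul_assoc, ← hc.eq]; group
    rw [this]; exact zpow_mem_zpowers x k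
  have hstab : ∀ v ∈ X, S ⊓ centralizer ({v} : Set G) = P := by
    rintro v ⟨hv, hvx⟩
    refine le_antisymm ?_ ?_
    · intro y hy
      rw [mem_inf] at hy
      have hyx : y * x = x * y := mem_centralizer_singleton_iff.mp (mem_inf.mp (hS ▸ hy.1)).2
      have hyv : y * v = v * y := mem_centralizer_singleton_iff.mp hy.2
      -- `⟨x, v⟩ = P`
      have hmem : y ∈ centralizer ((P : Subgroup G) : Set G) := by
        have h1 : ((P : Subgroup G) ⊓ centralizer ({y} : Set G)) = P := by
          refine eq_of_le_of_card_ge inf_le_left ?_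
          have hlt : zpowers x < (P : Subgroup G) ⊓ centralizer ({y} : Set G) := by
            refine lt_of_le_of_ne ?_ ?_
            · rw [zpowers_le, mem_inf, mem_centralizer_singleton_iff]
              exact ⟨hxP, hyx.symm⟩
            · intro h
              apply hvx
              rw [h, mem_inf, mem_centralizer_singleton_iff]
              exact ⟨hv, hyv.symm⟩
          have h2 : Nat.card ((P : Subgroup G) ⊓ centralizer ({y} : Set G) : Subgroup G) ∣ 25 := by
            rw [← hP25]; exact card_dvd_of_le inf_le_left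
          have h3 : 5 < Nat.card ((P : Subgroup G) ⊓ centralizer ({y} : Set G) : Subgroup G) := by
            have h4 := card_dvd_of_le hlt.le
            have h5 : Nat.card (zpowers x) ≠ Nat.card ((P : Subgroup G) ⊓ centralizer ({y} : Set G) : Subgroup G) :=
              fun h => hlt.ne (eq_of_le_of_card_ge hlt.le h.ge)
            rw [Nat.card_zpowers, hx] at h4 h5
            exact lt_of_le_of_ne (Nat.le_of_dvd Nat.card_pos h4) h5
          have h6 : Nat.card ((P : Subgroup G) ⊓ centralizer ({y} : Set G) : Subgroup G) ∈ Nat.divisors 25 :=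
            Nat.mem_divisors.mpr ⟨h2, by norm_num⟩
          have h25 : Nat.divisors 25 = {1, 5, 25} := by decide +kernel
          rw [h25] at h6
          rw [hP25]
          simp only [Finset.mem_insert, Finset.mem_singleton] at h6
          omega
        rw [mem_centralizer_iff]
        intro p hp
        have : p ∈ (P : Subgroup G) ⊓ centralizer ({y} : Set G) := by rw [h1]; exact hp
        exact mem_centralizer_singleton_iff.mp (mem_inf.mp this).2
      rw [hCP] at hmem
      exact hmem
    · refine le_inf hPS (sylow_le_centralizer hG P hv)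
  have hXcard : Nat.card X = 20 := by
    have h1 : X = (P : Set G) \ (zpowers x : Set G) := rfl
    have h2 : (zpowers x : Set G) ⊆ (P : Set G) := zpowers_le.mpr hxP
    rw [h1, Nat.card_coe_set_eq, Set.ncard_sdiff h2, ← Nat.card_coe_set_eq, ← Nat.card_coe_set_eq]
    have h3 : Nat.card ((P : Set G)) = 25 := hP25
    have h4 : Nat.card ((zpowers x : Subgroup G) : Set G) = 5 := by
      have := Nat.card_zpowers x
      rw [hx] at this; exact this
    rw [h3, h4]
  have hs20 : s ∣ 20 := by
    rw [← hXcard]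
    apply card_eq_of_fibers (fun v : X => {y : G | ∃ n ∈ S, n * v * n⁻¹ = y}) s
    rintro ⟨v, hv⟩
    have h1 := card_orbit S v
    rw [hstab v hv, hP25, hs, mul_comm] at h1
    have h2 : Nat.card {y : G // ∃ n ∈ S, n * v * n⁻¹ = y} = s := Nat.eq_of_mul_eq_mul_left (by norm_num) h1
    rw [← h2]
    refine Nat.card_congr
      { toFun := fun a => ⟨a.1.1, ?_⟩
        invFun := fun b => ⟨⟨b.1, ?_⟩, ?_⟩
        left_inv := fun a => rfl
        right_inv := fun b => rfl }
    · have h3 : {y : G | ∃ n ∈ S, n * a.1.1 * n⁻¹ = y} = {y : G | ∃ n ∈ S, n * v * n⁻¹ = y} := a.2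
      have h4 : a.1.1 ∈ {y : G | ∃ n ∈ S, n * a.1.1 * n⁻¹ = y} := ⟨1, S.one_mem, by group⟩
      rw [h3] at h4
      exact h4
    · obtain ⟨n, hn, h⟩ := b.2
      rw [← h]; exact hXS n hn v hv
    · obtain ⟨y, n, hn, rfl⟩ := b
      ext z
      constructor
      · rintro ⟨m, hm, rfl⟩
        exact ⟨m * n, S.mul_mem hm hn, by group⟩
      · rintro ⟨m, hm, rfl⟩
        exact ⟨m * n⁻¹, S.mul_mem hm (S.inv_mem hn), by group⟩
  have h5s : ¬ 5 ∣ s := by
    rintro ⟨k, rfl⟩
    have h1 : Nat.card S ∣ 604800 := by rw [← hG]; exact card_subgroup_dvd_card S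
    rw [hs] at h1
    have h2 : 25 * 5 ∣ 604800 := (Dvd.intro k (by ring)).trans h1
    norm_num at h2
  have h4s : ¬ 4 ∣ s := by
    intro h
    apply h4
    have h1 : Nat.card S ∣ Nat.card (centralizer ({x} : Set G)) := card_dvd_of_le (by rw [hS]; exact inf_le_right)
    exact (h.trans (Dvd.intro_left 25 hs.symm)).trans h1
  have h20 : Nat.divisors 20 = {1, 2, 4, 5, 10, 20} := by decide +kernel
  have hsd : s ∈ Nat.divisors 20 := Nat.mem_divisors.mpr ⟨hs20, by norm_num⟩
  rw [h20] at hsd
  simp only [Finset.mem_insert, Finset.mem_singleton] at hsd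
  rw [hs]
  rcases hsd with rfl | rfl | rfl | rfl | rfl | rfl
  · left; norm_num
  · right; norm_num
  · exact absurd (by norm_num) h4s
  · exact absurd (by norm_num) h5s
  · exact absurd (by norm_num) h5s
  · exact absurd (by norm_num) h5s

/-- The Sylow 5-structure of a group of order 604800 of Hall-Janko type. -/
theorem sylow_five_aux [Finite G] (hG : Nat.card G = 604800) {P : Sylow 5 G} {w' w : G} (hw' : Good w')
    (hw'P : w' ∈ P) (hw : orderOf w = 5) (hwP : w ∈ P) (hreal : IsConj w w⁻¹)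
    (h4 : ¬ 4 ∣ Nat.card (centralizer ({w} : Set G))) :
    centralizer ((P : Subgroup G) : Set G) = P ∧
      Nat.card (normalizer ((P : Subgroup G) : Set G)) = 300 ∧ T P w' ∪ T P w = (P : Set G) \ {1} := by
  haveI : Fact (Nat.Prime 5) := ⟨by norm_num⟩
  obtain ⟨hCP, h50⟩ := hw'.key hG hw'P
  have h300 := hw'.card_centralizer hG hw'P
  have hP25 := card_sylow_five hG P
  have hstab := card_stab hG hCP hwP hw h4
  have hO' := card_O hG hw'P
  have hO := card_O hG hwP
  rw [h50] at hO'
  have hT' := card_T hG hw'P hw'.1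
  have hT := card_T hG hwP hw
  have h4T' := four_dvd_card_T (P := P) hw'.1 hw'.2.1
  have h4T := four_dvd_card_T (P := P) hw hreal
  have hn : Nat.card (Sylow 5 G) ≡ 1 [MOD 5] := card_sylow_modEq_one 5 G
  have hn' : Nat.card (Sylow 5 G) = (normalizer ((P : Subgroup G) : Set G)).index :=
    P.card_eq_index_normalizer
  have hNG := (normalizer ((P : Subgroup G) : Set G)).card_mul_index
  rw [hG, ← hn'] at hNG
  -- disjointness
  have hcard_conj : ∀ {a b : G}, IsConj a b →
      Nat.card (centralizer ({a} : Set G)) = Nat.card (centralizer ({b} : Set G)) := by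
    intro a b hab
    obtain ⟨c, rfl⟩ := isConj_iff.mp hab
    refine Nat.card_congr ((MulAut.conj c).toEquiv.subtypeEquiv ?_)
    intro y
    show y ∈ centralizer ({a} : Set G) ↔ c * y * c⁻¹ ∈ centralizer ({c * a * c⁻¹} : Set G)
    rw [mem_centralizer_singleton_iff, mem_centralizer_singleton_iff]
    constructor
    · intro h
      calc c * y * c⁻¹ * (c * a * c⁻¹) = c * (y * a) * c⁻¹ := by group
        _ = c * a * c⁻¹ * (c * y * c⁻¹) := by rw [h]; group
    · intro h
      calc y * a = c⁻¹ * (c * y * c⁻¹ * (c * a * c⁻¹)) * c := by group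
        _ = a * y := by rw [h]; group
  have hdisj : Disjoint (T P w') (T P w) := by
    rw [Set.disjoint_left]
    intro y hy' hy
    have h1 : Nat.card (centralizer ({y} : Set G)) = 300 := by
      rcases hy' with ⟨-, h⟩ | ⟨-, h⟩
      · rw [← hcard_conj h]; exact h300
      · rw [← hcard_conj h, centralizer_sq hw'.1]; exact h300
    have h2 : Nat.card (centralizer ({y} : Set G)) = Nat.card (centralizer ({w} : Set G)) := by
      rcases hy with ⟨-, h⟩ | ⟨-, h⟩
      · rw [← hcard_conj h]
      · rw [← hcard_conj h, centralizer_sq hw]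
    apply h4
    rw [← h2, h1]; norm_num
  have hsub : T P w' ∪ T P w ⊆ (P : Set G) \ {1} := by
    rintro y (hy | hy)
    · exact ⟨T_subset hy, fun h => one_notMem_T hw'.1 (P := P) (by rw [← h]; exact hy)⟩
    · exact ⟨T_subset hy, fun h => one_notMem_T hw (P := P) (by rw [← h]; exact hy)⟩
  have h24 : ((P : Set G) \ {1}).ncard = 24 := by
    rw [Set.ncard_sdiff (by simp)]
    rw [Set.ncard_singleton, ← Nat.card_coe_set_eq]
    have h3 : Nat.card ((P : Set G)) = 25 := hP25
    rw [h3]
  have hle : Nat.card (T P w') + Nat.card (T P w) ≤ 24 := by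
    rw [← h24, Nat.card_coe_set_eq, Nat.card_coe_set_eq, ← Set.ncard_union_eq hdisj]
    exact Set.ncard_le_ncard hsub
  -- numerics
  have hn5 : Nat.card (Sylow 5 G) % 5 = 1 := hn
  have hfin : Nat.card (normalizer ((P : Subgroup G) : Set G)) = 300 ∧
      Nat.card (T P w') + Nat.card (T P w) = 24 := by
    generalize Nat.card (normalizer ((P : Subgroup G) : Set G)) = N at *
    generalize Nat.card (Sylow 5 G) = n at *
    generalize Nat.card (O P w') = o' at *
    generalize Nat.card (O P w) = o at *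
    generalize Nat.card (T P w') = t' at *
    generalize Nat.card (T P w) = t at *
    generalize Nat.card (normalizer ((P : Subgroup G) : Set G) ⊓
      centralizer ({w} : Set G) : Subgroup G) = c at *
    subst hO'
    have ho' : o' * n = 12096 := by
      have : 50 * (o' * n) = 50 * 12096 := by linarith [hNG]
      exact Nat.eq_of_mul_eq_mul_left (by norm_num) this
    have ho'24 : o' ≤ 24 := by omega
    have hmod : o' % 5 = 1 := by
      have h1 : (o' * n) % 5 = 1 := by rw [ho']
      rw [Nat.mul_mod, hn5, mul_one, Nat.mod_mod] at h1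
      exact h1
    have hcases : o' = 1 ∨ o' = 6 ∨ o' = 11 ∨ o' = 16 ∨ o' = 21 := by omega
    rcases hcases with rfl | rfl | rfl | rfl | rfl
    · omega
    · rcases hstab with rfl | rfl
      · have : o = 12 := by omega
        subst this; omega
      · have : o = 6 := by omega
        subst this; omega
    · omega
    · rcases hstab with rfl | rfl
      · have : o = 32 := by omega
        subst this; omega
      · have : o = 16 := by omega
        subst this; omega
    · omega
  refine ⟨hCP, hfin.1, ?_⟩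
  refine Set.eq_of_subset_of_ncard_le hsub ?_
  rw [h24, Set.ncard_union_eq hdisj, ← Nat.card_coe_set_eq, ← Nat.card_coe_set_eq, hfin.2]

theorem exists_conj_mem_sylow {p : ℕ} [Fact p.Prime] [Finite G] (P : Sylow p G) {y : G} {n : ℕ}
    (hy : orderOf y = p ^ n) : ∃ g : G, g * y * g⁻¹ ∈ P := by
  have h1 : IsPGroup p (zpowers y) := by
    rw [IsPGroup.iff_card]
    exact ⟨n, by rw [Nat.card_zpowers, hy]⟩
  obtain ⟨Q, hQ⟩ := h1.exists_le_sylow
  obtain ⟨g, hg⟩ := MulAction.exists_smul_eq G Q P
  refine ⟨g, ?_⟩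
  rw [← hg]
  show g * y * g⁻¹ ∈ ((g • Q : Sylow p G) : Subgroup G)
  rw [Sylow.coe_subgroup_smul]
  exact Subgroup.smul_mem_pointwise_smul y (MulAut.conj g) (Q : Subgroup G) (hQ (mem_zpowers y))

theorem sylow_five [Finite G] (hG : Nat.card G = 604800) {w' w : G} (hw' : Good w')
    (hw : orderOf w = 5) (hreal : IsConj w w⁻¹)
    (h4 : ¬ 4 ∣ Nat.card (centralizer ({w} : Set G))) (P : Sylow 5 G) :
    centralizer ((P : Subgroup G) : Set G) = P ∧ Nat.card P = 25 ∧
      Nat.card (normalizer ((P : Subgroup G) : Set G)) = 300 ∧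
      ∃ X Y : Subgroup G, Nat.card X = 5 ∧ Nat.card Y = 5 ∧
        (∀ g : G, X.map (MulAut.conj g).toMonoidHom ≠ Y) ∧
        ∀ W : Subgroup G, Nat.card W = 5 → ∃ g : G, W.map (MulAut.conj g).toMonoidHom = X ∨
          W.map (MulAut.conj g).toMonoidHom = Y := by
  haveI : Fact (Nat.Prime 5) := ⟨by norm_num⟩
  obtain ⟨a, ha⟩ := exists_conj_mem_sylow P (y := w') (n := 1) (by rw [hw'.1]; norm_num)
  obtain ⟨b, hb⟩ := exists_conj_mem_sylow P (y := w) (n := 1) (by rw [hw]; norm_num)
  have hw'2 := hw'.conj a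
  have hwb5 : orderOf (b * w * b⁻¹) = 5 := by
    rw [show b * w * b⁻¹ = MulAut.conj b w from rfl, MulEquiv.orderOf_eq]; exact hw
  have hrealb : IsConj (b * w * b⁻¹) (b * w * b⁻¹)⁻¹ := by
    have h1 : IsConj w (b * w * b⁻¹) := isConj_iff.mpr ⟨b, rfl⟩
    have h2 : IsConj w⁻¹ (b * w * b⁻¹)⁻¹ := isConj_iff.mpr ⟨b, by group⟩
    exact h1.symm.trans (hreal.trans h2)
  have hcard_conj : ∀ (c d : G), Nat.card (centralizer ({c * d * c⁻¹} : Set G)) =
      Nat.card (centralizer ({d} : Set G)) := by
    intro c d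
    refine (Nat.card_congr ((MulAut.conj c).toEquiv.subtypeEquiv ?_)).symm
    intro y
    show y ∈ centralizer ({d} : Set G) ↔ c * y * c⁻¹ ∈ centralizer ({c * d * c⁻¹} : Set G)
    rw [mem_centralizer_singleton_iff, mem_centralizer_singleton_iff]
    constructor
    · intro h
      calc c * y * c⁻¹ * (c * d * c⁻¹) = c * (y * d) * c⁻¹ := by group
        _ = c * d * c⁻¹ * (c * y * c⁻¹) := by rw [h]; group
    · intro h
      calc y * d = c⁻¹ * (c * y * c⁻¹ * (c * d * c⁻¹)) * c := by group
        _ = d * y := by rw [h]; group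
  have h4b : ¬ 4 ∣ Nat.card (centralizer ({b * w * b⁻¹} : Set G)) := by rw [hcard_conj]; exact h4
  obtain ⟨hCP, h300, hU⟩ := sylow_five_aux hG hw'2 ha hwb5 hb hrealb h4b
  refine ⟨hCP, card_sylow_five hG P, h300, zpowers w', zpowers w, ?_, ?_, ?_, ?_⟩
  · rw [Nat.card_zpowers]; exact hw'.1
  · rw [Nat.card_zpowers]; exact hw
  · intro g hg
    rw [MonoidHom.map_zpowers] at hg
    have hc : centralizer ({g * w' * g⁻¹} : Set G) = centralizer ({w} : Set G) := by
      have h1 : ∀ (u v : G), zpowers u = zpowers v → centralizer ({u} : Set G) ≤ centralizer ({v} : Set G) := by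
        intro u v huv y hy
        rw [mem_centralizer_singleton_iff] at hy ⊢
        have : v ∈ zpowers u := by rw [huv]; exact mem_zpowers v
        obtain ⟨k, hk⟩ := mem_zpowers_iff.mp this
        rw [← hk]
        exact (show Commute y u from hy).zpow_right k
      exact le_antisymm (h1 _ _ hg) (h1 _ _ hg.symm)
    apply h4
    rw [← hc, hcard_conj, ← hcard_conj a w', (hw'.conj a).card_centralizer hG ha]
    norm_num
  · intro W hW
    obtain ⟨y, hyW, hy5⟩ : ∃ y : G, zpowers y = W ∧ orderOf y = 5 := by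
      haveI : IsCyclic W := isCyclic_of_prime_card hW
      obtain ⟨y, hy⟩ := isCyclic_iff_exists_zpowers_eq_top.mp (inferInstance : IsCyclic W)
      have h1 : zpowers (y : G) = W := by
        have h2 := congrArg (fun H => H.map W.subtype) hy
        simp only [MonoidHom.map_zpowers] at h2
        rw [← MonoidHom.range_eq_map, Subgroup.range_subtype] at h2
        exact h2
      refine ⟨y, h1, ?_⟩
      rw [← Nat.card_zpowers, h1, hW]
    obtain ⟨g, hg⟩ := exists_conj_mem_sylow P (y := y) (n := 1) (by rw [hy5]; norm_num)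
    have hmem : g * y * g⁻¹ ∈ T P (a * w' * a⁻¹) ∪ T P (b * w * b⁻¹) := by
      rw [hU]
      refine ⟨hg, ?_⟩
      intro h
      have h1 : g * y * g⁻¹ = 1 := h
      have h2 : y = 1 := by
        have : y = g⁻¹ * (g * y * g⁻¹) * g := by group
        rw [this, h1]; group
      rw [h2, orderOf_one] at hy5; norm_num at hy5
    -- conclusion for one class
    have key : ∀ c x : G, orderOf x = 5 → g * y * g⁻¹ ∈ T P (c * x * c⁻¹) →
        ∃ h : G, W.map (MulAut.conj h).toMonoidHom = zpowers x := by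
      intro c x hx hx'
      have hzsq : zpowers (x ^ 2) = zpowers x := by
        refine zp_eq (npow_mem_zpowers x 2) (mem_zpowers_iff.mpr ⟨3, ?_⟩)
        have : (x ^ 2) ^ 3 = x := by
          rw [← pow_mul, show 2 * 3 = 5 + 1 by norm_num, pow_add, pow_five hx]; simp
        exact_mod_cast this
      have h1 : ∃ d : G, zpowers (d * (g * y * g⁻¹) * d⁻¹) = zpowers x := by
        rcases hx' with ⟨-, h⟩ | ⟨-, h⟩
        · obtain ⟨d, hd⟩ := isConj_iff.mp h.symm
          refine ⟨c⁻¹ * d, ?_⟩
          congr 1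
          calc c⁻¹ * d * (g * y * g⁻¹) * (c⁻¹ * d)⁻¹ = c⁻¹ * (d * (g * y * g⁻¹) * d⁻¹) * c := by group
            _ = x := by rw [hd]; group
        · obtain ⟨d, hd⟩ := isConj_iff.mp h.symm
          refine ⟨c⁻¹ * d, ?_⟩
          rw [← hzsq]
          congr 1
          calc c⁻¹ * d * (g * y * g⁻¹) * (c⁻¹ * d)⁻¹ = c⁻¹ * (d * (g * y * g⁻¹) * d⁻¹) * c := by group
            _ = x ^ 2 := by rw [hd, conj_pow]; group
      obtain ⟨d, hd⟩ := h1
      refine ⟨d * g, ?_⟩
      rw [← hyW, MonoidHom.map_zpowers, ← hd]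
      congr 1
      show (d * g) * y * (d * g)⁻¹ = d * (g * y * g⁻¹) * d⁻¹
      group
    rcases hmem with h | h
    · obtain ⟨k, hk⟩ := key a w' hw'.1 h
      exact ⟨k, Or.inl hk⟩
    · obtain ⟨k, hk⟩ := key b w hw h
      exact ⟨k, Or.inr hk⟩

end Cfsg.Agent.J2Type.SylowFive
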