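import Cfsg.Agent.J2Type.A5More
import Cfsg.Agent.J2Type.CentQuot

/-!
Lifting generators of `A₅ = C(w)/⟨w⟩` for an element `w` of order 5 inverted by an involution `z`.
-/

set_option autoImplicit false

namespace Cfsg.Agent.J2Type.ElemA

open Subgroup Cfsg.Agent.J2Type.CentQuot

theorem eq_one_of_coprime {G : Type*} [Group G] {g : G} {m n : ℕ} (hm : g ^ m = 1) (hn : g ^ n = 1)
    (hmn : Nat.Coprime m n) : g = 1 := by
  have h1 := orderOf_dvd_of_pow_eq_one hm
  have h2 := orderOf_dvd_of_pow_eq_one hn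
  have h3 : orderOf g ∣ 1 := by
    rw [← hmn]; exact Nat.dvd_gcd h1 h2
  exact orderOf_eq_one_iff.mp (Nat.dvd_one.mp h3)

variable {G : Type*} [Group G] {w v x z : G}

theorem exists_a (hw : orderOf w = 5) (φ : CQ w ≃* alternatingGroup (Fin 5))
    (hvw : v * w = w * v) (hxw : x * w = w * x) (hzw : z * w * z⁻¹ = w⁻¹) (z2 : z * z = 1)
    (v2 : v * v = 1) (hv1 : v ≠ 1) (x3 : x ^ 3 = 1) (hx1 : x ≠ 1) (vx : (v * x) ^ 3 = 1)
    (hvz : v * z = z * v) (hxz : x * z = z * x) :
    ∃ a : G, a * a = 1 ∧ (x * a) ^ 2 = 1 ∧ (v * a) ^ 3 = 1 ∧ a * z = z * a ∧ a * w = w * a ∧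
      ∃ k : ℕ, orderOf ((v * x * a) ^ k) = 5 := by
  have hw5 : w ^ 5 = 1 := by rw [← hw]; exact pow_orderOf_eq_one w
  have hwz5 : ∀ k : ℤ, (w ^ k) ^ 5 = 1 := by
    intro k
    rw [← zpow_natCast, ← zpow_mul, mul_comm, zpow_mul]
    norm_cast
    rw [hw5, one_zpow]
  -- elements of `C(w)` that are trivial modulo `w`
  have key : ∀ g : centralizer ({w} : Set G), (g : CQ w) = 1 → ∃ k : ℤ, (g : G) = w ^ k := by
    intro g hg
    obtain ⟨k, hk⟩ := mem_zpowers_iff.mp ((mk_eq_one g).mp hg)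
    exact ⟨k, hk.symm⟩
  have hC : ∀ {g : G}, g * w = w * g → g ∈ centralizer ({w} : Set G) :=
    fun hg => mem_centralizer_singleton_iff.mpr hg
  let v0 : centralizer ({w} : Set G) := ⟨v, hC hvw⟩
  let x0 : centralizer ({w} : Set G) := ⟨x, hC hxw⟩
  have hv0 : (v0 : CQ w) ≠ 1 := by
    intro h
    obtain ⟨k, hk⟩ := key v0 h
    apply hv1
    have h2 : v ^ 5 = 1 := by
      have : v = w ^ k := hk
      rw [this]; exact hwz5 k
    exact eq_one_of_coprime (m := 5) (n := 2) h2 (by rw [pow_two, v2]) (by norm_num)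
  have hx0 : (x0 : CQ w) ≠ 1 := by
    intro h
    obtain ⟨k, hk⟩ := key x0 h
    apply hx1
    have h2 : x ^ 5 = 1 := by
      have : x = w ^ k := hk
      rw [this]; exact hwz5 k
    exact eq_one_of_coprime (m := 5) (n := 3) h2 x3 (by norm_num)
  have hv02 : (v0 : CQ w) * v0 = 1 := by
    rw [← QuotientGroup.mk_mul]
    have : v0 * v0 = 1 := Subtype.ext v2
    rw [this]; rfl
  have hx03 : (x0 : CQ w) ^ 3 = 1 := by
    rw [← QuotientGroup.mk_pow]
    have : x0 ^ 3 = 1 := Subtype.ext x3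
    rw [this]; rfl
  have hvx03 : ((v0 : CQ w) * x0) ^ 3 = 1 := by
    rw [← QuotientGroup.mk_mul, ← QuotientGroup.mk_pow]
    have : (v0 * x0) ^ 3 = 1 := Subtype.ext vx
    rw [this]; rfl
  have c1 : φ v0 * φ v0 = 1 := by rw [← map_mul, hv02, map_one]
  have c2 : φ v0 ≠ 1 := by rw [Ne, map_eq_one_iff φ φ.injective]; exact hv0
  have c3 : φ x0 ^ 3 = 1 := by rw [← map_pow, hx03, map_one]
  have c4 : φ x0 ≠ 1 := by rw [Ne, map_eq_one_iff φ φ.injective]; exact hx0
  have c5 : (φ v0 * φ x0) ^ 3 = 1 := by rw [← map_mul, ← map_pow, hvx03, map_one]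
  obtain ⟨b, b2, b1, xb, vb, vxb, vxb1⟩ := A5More.exists_a _ _ c1 c2 c3 c4 c5
  have huniq := A5More.unique_a _ _ c1 c2 c3 c4 c5 b b2 b1 xb vb
  -- lift `b`
  obtain ⟨a1, ha1⟩ := QuotientGroup.mk_surjective (φ.symm b)
  have ha1w : (a1 : G) * w = w * a1 := mem_centralizer_singleton_iff.mp a1.2
  have h1 : ((a1 * a1 : centralizer ({w} : Set G)) : CQ w) = 1 := by
    rw [QuotientGroup.mk_mul, ha1, ← map_mul, b2, map_one]
  obtain ⟨k, hk⟩ := key _ h1
  have hk : (a1 : G) * a1 = w ^ k := hk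
  have hcomm : ∀ j : ℤ, (a1 : G) * w ^ j = w ^ j * a1 := fun j =>
    ((show Commute (a1 : G) w from ha1w).zpow_right j).eq
  set a : G := a1 * w ^ (2 * k) with ha
  have haw : a * w = w * a := by
    rw [ha, mul_assoc, (Commute.refl w).zpow_left (2 * k), ← mul_assoc, ha1w, mul_assoc]
  have a2 : a * a = 1 := by
    calc a * a = (a1 * a1) * (w ^ (2 * k) * w ^ (2 * k)) := by
          rw [ha]
          calc (a1 : G) * w ^ (2 * k) * (a1 * w ^ (2 * k))
              = a1 * (w ^ (2 * k) * a1) * w ^ (2 * k) := by group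
            _ = a1 * (a1 * w ^ (2 * k)) * w ^ (2 * k) := by rw [hcomm]
            _ = _ := by simp only [mul_assoc]
      _ = w ^ k * (w ^ (2 * k) * w ^ (2 * k)) := by rw [hk]
      _ = (w ^ k) ^ 5 := by
          rw [← zpow_add, ← zpow_add, ← zpow_natCast, ← zpow_mul]
          congr 1; push_cast; ring
      _ = 1 := hwz5 k
  let a0 : centralizer ({w} : Set G) := ⟨a, hC haw⟩
  have hwmem : ∀ j : ℤ, w ^ j ∈ centralizer ({w} : Set G) := fun j =>
    hC ((Commute.refl w).zpow_left j).eq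
  have ha0 : (a0 : CQ w) = φ.symm b := by
    rw [← ha1]
    apply QuotientGroup.eq.mpr
    rw [mem_cyc]
    have : ((a0⁻¹ * a1 : centralizer ({w} : Set G)) : G) = w ^ (-(2 * k)) := by
      rw [coe_mul, coe_inv]
      change a⁻¹ * (a1 : G) = _
      rw [ha, mul_inv_rev, mul_assoc, inv_mul_cancel, mul_one, zpow_neg]
    rw [this]
    exact zpow_mem (mem_zpowers w) _
  have hφa0 : φ a0 = b := by rw [ha0, MulEquiv.apply_symm_apply]
  have liftrel : ∀ g : centralizer ({w} : Set G), φ g = 1 → ∃ k : ℤ, (g : G) = w ^ k := by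
    intro g hg
    apply key
    rwa [map_eq_one_iff φ φ.injective] at hg
  have hxwk : ∀ j : ℤ, x * w ^ j = w ^ j * x := fun j =>
    ((show Commute x w from hxw).zpow_right j).eq
  have hvwk : ∀ j : ℤ, v * w ^ j = w ^ j * v := fun j =>
    ((show Commute v w from hvw).zpow_right j).eq
  have hawk : ∀ j : ℤ, a * w ^ j = w ^ j * a := fun j =>
    ((show Commute a w from haw).zpow_right j).eq
  have xa : (x * a) ^ 2 = 1 := by
    have h2 : φ ((x0 * a0) ^ 2 : centralizer ({w} : Set G)) = 1 := by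
      rw [QuotientGroup.mk_pow, QuotientGroup.mk_mul, map_pow, map_mul, hφa0, xb]
    obtain ⟨j, hj⟩ := liftrel _ h2
    have hj : (x * a) ^ 2 = w ^ j := hj
    have h3 : a * x * a = x⁻¹ * w ^ j := by
      rw [← hj, pow_two]; group
    have h4 : (a * x * a) ^ 3 = 1 := by
      calc (a * x * a) ^ 3 = a * x * (a * a) * x * (a * a) * x * a := by
            simp only [pow_succ, pow_zero, one_mul, mul_assoc]
        _ = a * (x ^ 3) * a := by
            rw [a2, mul_one, mul_one]; simp only [pow_succ, pow_zero, one_mul, mul_assoc]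
        _ = 1 := by rw [x3, mul_one, a2]
    have h5 : (x⁻¹ * w ^ j) ^ 3 = (w ^ j) ^ 3 := by
      have : Commute (x⁻¹) (w ^ j) := (show Commute x (w ^ j) from hxwk j).inv_left
      rw [this.mul_pow, inv_pow, x3, inv_one, one_mul]
    rw [h3, h5] at h4
    rw [hj]
    exact eq_one_of_coprime (m := 5) (n := 3) (hwz5 j) h4 (by norm_num)
  have va : (v * a) ^ 3 = 1 := by
    have h2 : φ ((v0 * a0) ^ 3 : centralizer ({w} : Set G)) = 1 := by
      rw [QuotientGroup.mk_pow, QuotientGroup.mk_mul, map_pow, map_mul, hφa0, vb]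
    obtain ⟨j, hj⟩ := liftrel _ h2
    have hj : (v * a) ^ 3 = w ^ j := hj
    have h3 : v * (v * a) ^ 3 * v = ((v * a) ^ 3)⁻¹ := by
      have hvi : v⁻¹ = v := (eq_inv_of_mul_eq_one_left v2).symm
      have hai : a⁻¹ = a := (eq_inv_of_mul_eq_one_left a2).symm
      rw [← inv_pow, mul_inv_rev, hvi, hai]
      calc v * (v * a) ^ 3 * v = (v * v) * (a * v) ^ 3 := by
            simp only [pow_succ, pow_zero, one_mul, mul_assoc]
        _ = (a * v) ^ 3 := by rw [v2, one_mul]
    have h4 : v * w ^ j * v = w ^ j := by rw [hvwk, mul_assoc, v2, mul_one]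
    rw [hj, h4] at h3
    have h5 : (w ^ j) ^ 2 = 1 := by
      rw [pow_two]
      nth_rw 1 [h3]
      exact inv_mul_cancel _
    rw [hj]
    exact eq_one_of_coprime (m := 5) (n := 2) (hwz5 j) h5 (by norm_num)
  refine ⟨a, a2, xa, va, ?_, haw, ?_⟩
  · -- conjugation by `z`
    have hzi : z⁻¹ = z := (eq_inv_of_mul_eq_one_left z2).symm
    have hzwk : ∀ j : ℤ, z * w ^ j * z⁻¹ = (w ^ j)⁻¹ := by
      intro j
      rw [← conj_zpow, hzw, inv_zpow]
    have hcw : (z * a * z⁻¹) * w = w * (z * a * z⁻¹) := by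
      have h1 : w = z * w⁻¹ * z⁻¹ := by
        have := hzwk (-1)
        rw [zpow_neg_one, inv_inv] at this
        exact this.symm
      calc (z * a * z⁻¹) * w = (z * a * z⁻¹) * (z * w⁻¹ * z⁻¹) := by rw [← h1]
        _ = z * (a * w⁻¹) * z⁻¹ := by group
        _ = z * (w⁻¹ * a) * z⁻¹ := by
            rw [((show Commute a w from haw).inv_right).eq]
        _ = (z * w⁻¹ * z⁻¹) * (z * a * z⁻¹) := by group
        _ = w * (z * a * z⁻¹) := by rw [← h1]
    let a' : centralizer ({w} : Set G) := ⟨z * a * z⁻¹, hC hcw⟩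
    have ha'2 : a' * a' = 1 := Subtype.ext (by
      change (z * a * z⁻¹) * (z * a * z⁻¹) = 1
      calc (z * a * z⁻¹) * (z * a * z⁻¹) = z * (a * a) * z⁻¹ := by group
        _ = 1 := by rw [a2]; group)
    have hxa' : (x0 * a') ^ 2 = 1 := Subtype.ext (by
      change (x * (z * a * z⁻¹)) ^ 2 = 1
      calc (x * (z * a * z⁻¹)) ^ 2 = (z * (x * a) * z⁻¹) ^ 2 := by
            congr 1
            rw [← mul_assoc, ← mul_assoc, hxz]; group
        _ = z * (x * a) ^ 2 * z⁻¹ := by rw [conj_pow]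
        _ = 1 := by rw [xa]; group)
    have hva' : (v0 * a') ^ 3 = 1 := Subtype.ext (by
      change (v * (z * a * z⁻¹)) ^ 3 = 1
      calc (v * (z * a * z⁻¹)) ^ 3 = (z * (v * a) * z⁻¹) ^ 3 := by
            congr 1
            rw [← mul_assoc, ← mul_assoc, hvz]; group
        _ = z * (v * a) ^ 3 * z⁻¹ := by rw [conj_pow]
        _ = 1 := by rw [va]; group)
    have h2 : φ a' = b := by
      apply huniq
      · rw [← map_mul, ← QuotientGroup.mk_mul, ha'2]; exact map_one φ
      · intro h0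
        obtain ⟨j, hj⟩ := liftrel a' h0
        have hj : z * a * z⁻¹ = w ^ j := hj
        have h3 : w ^ j = 1 := by
          have h4 : (w ^ j) ^ 2 = 1 := by
            rw [pow_two, ← hj]
            exact congrArg Subtype.val ha'2
          exact eq_one_of_coprime (m := 5) (n := 2) (hwz5 j) h4 (by norm_num)
        rw [h3, conj_eq_one_iff] at hj
        apply b1
        rw [← hφa0]
        have h5 : a0 = 1 := Subtype.ext hj
        rw [h5]; exact map_one φ
      · rw [← map_mul, ← map_pow, ← QuotientGroup.mk_mul, ← QuotientGroup.mk_pow, hxa']; exact map_one φ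
      · rw [← map_mul, ← map_pow, ← QuotientGroup.mk_mul, ← QuotientGroup.mk_pow, hva']; exact map_one φ
    have h3 : φ ((a0⁻¹ * a' : centralizer ({w} : Set G)) : CQ w) = 1 := by
      rw [QuotientGroup.mk_mul, QuotientGroup.mk_inv, map_mul, map_inv, h2, hφa0, inv_mul_cancel]
    obtain ⟨j, hj⟩ := liftrel _ h3
    have hj : a⁻¹ * (z * a * z⁻¹) = w ^ j := hj
    have h4 : z * a * z⁻¹ = a * w ^ j := by rw [← hj]; group
    have h5 : (w ^ j) ^ 2 = 1 := by
      have h6 : (a * w ^ j) ^ 2 = 1 := by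
        rw [← h4, conj_pow, pow_two, a2]; group
      rw [(show Commute a (w ^ j) from hawk j).mul_pow, pow_two a, a2, one_mul] at h6
      exact h6
    have h6 := eq_one_of_coprime (m := 5) (n := 2) (hwz5 j) h5 (by norm_num)
    rw [h6, mul_one] at h4
    exact (mul_inv_eq_iff_eq_mul.mp h4).symm
  · -- an element of order 5
    have h2 : φ ((v0 * x0 * a0) ^ 5 : centralizer ({w} : Set G)) = 1 := by
      rw [QuotientGroup.mk_pow, QuotientGroup.mk_mul, QuotientGroup.mk_mul, map_pow, map_mul, map_mul,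
        hφa0, vxb]
    obtain ⟨j, hj⟩ := liftrel _ h2
    have hj : (v * x * a) ^ 5 = w ^ j := hj
    have h3 : (v * x * a) ^ 25 = 1 := by
      rw [show 25 = 5 * 5 from rfl, pow_mul, hj, hwz5]
    have h4 : v * x * a ≠ 1 := by
      intro h0
      apply vxb1
      have h5 : v0 * x0 * a0 = 1 := Subtype.ext h0
      rw [← hφa0, ← map_mul, ← map_mul, ← QuotientGroup.mk_mul, ← QuotientGroup.mk_mul, h5]
      exact map_one φ
    have h5 : orderOf (v * x * a) ∣ 5 ^ 2 := orderOf_dvd_of_pow_eq_one h3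
    have hn : orderOf (v * x * a) ≠ 1 := fun h0 => h4 (orderOf_eq_one_iff.mp h0)
    obtain ⟨m, hm, hm'⟩ := (Nat.dvd_prime_pow (by norm_num)).mp h5
    have hm0 : m ≠ 0 := by
      rintro rfl
      exact hn hm'
    refine ⟨5 ^ (m - 1), ?_⟩
    rw [orderOf_pow_of_dvd (by positivity) (by rw [hm']; exact pow_dvd_pow 5 (Nat.sub_le m 1)), hm']
    obtain ⟨n, rfl⟩ := Nat.exists_eq_succ_of_ne_zero hm0
    rw [Nat.succ_eq_add_one, Nat.add_sub_cancel, pow_succ]
    exact Nat.mul_div_cancel_left 5 (by positivity)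

end Cfsg.Agent.J2Type.ElemA
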