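import Cfsg.Agent.J2Type.EnBData

set_option autoImplicit false
set_option maxRecDepth 100000

namespace Cfsg.Agent.J2Type.EnBChk0

open Cfsg.Agent.SporadicRecognition.CosetCert Cfsg.Agent.J2Type.EnBData

theorem c0 : Part C 0 32 32 := runChunk_sound C 32 (by decide +kernel : runChunk C 9 511 0x1008040201004049301008040100809076301008045341d8c0401008080533a980a8602008080402a18080323010cc025351c0ea633a19cc020201008047300c8c0402010080323318080202010080402008080402218cc047300c8cc7130094c040201008025301008863300808050321808040201008020201009860159b4c02530140c8602013cc04020080804e36180566d3008080402218cc04024180804010094d4602218cc049341808040101008020231808047300808c602008080402218cc02530100886330100446130100c0402128082a05 1 1 0 0 32 = 33)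

theorem all : Part C 0 32 32 := c0

end Cfsg.Agent.J2Type.EnBChk0
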