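import Cfsg.Agent.SporadicRecognition.CosetCert

set_option autoImplicit false
set_option maxRecDepth 100000

namespace Cfsg.Agent.J2Type.EnBData

open Cfsg.Agent.SporadicRecognition.CosetCert

noncomputable def tree : Tr := (.N 16 (.L 0xfffd4495635d967355a5454297fff6c5538c4c3928e472540e1fffd994462d2cf432524f4f3cbfff3f1d550644d85259450885fffd7124d3cf0b3a2cdc73e2c7fff584514e3b30d473930f4c2fffcb463020d083228c4a53417fff5240ac72c2520f4438a060fffc9052f28cca272098841357fff4034a89231ce0c362c8450fffcb8a20146c41e187462924ffff25207c6170c68519148873fffc402140c706161054412117fff0b044c418143c30e0c3435fffc4440504282080824207093fff0c0c18204040c10204041f) (.L 0xffff01bb87ef9eba72f1db56c3fffb462de0b276b99b07aad80fffe8d7a876f60af7ea99a6697fffa26a9deb17eee0a0727570fffe5569a667199f76e6098657fffbf825188d56416926ada03fffe85d8c5e1d4916e296a578ffff854e65c9b72a5ead7e5dc5fffecdf936dfd2824e117ac7cffffa47a2da7b460d87e4e79d3fffe59c784dd50896a3db7a4cffff6b3dc128e6dc947441b945fffd94e684621a6a41c556d557fff8665dd66335f578161e563fffd6cc6f56018604588d5e457fff572d9d47c5d68d5f497525))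

noncomputable def wtree : WT := (.N 11 (.N 5 (.N 2 (.N 1 (.L 0 [4,0,4]) (.L 2 [4,2,4])) (.N 3 (.L 3 [4,3,4]) (.N 4 (.L 0 [5,0,5]) (.L 1 [5,1,5])))) (.N 8 (.N 6 (.L 4 [5,4,5]) (.N 7 (.L 1 [3,2,3]) (.L 4 [3,4,3]))) (.N 9 (.L 3 [0,3,0,3,0]) (.N 10 (.L 4 [0,4,0]) (.L 3 [5,3,5,3,5,3,4,5]))))) (.N 17 (.N 14 (.N 12 (.L 1 [2,2]) (.N 13 (.L 3 [2,3,2]) (.L 0 [2,0,2,0,2]))) (.N 15 (.L 4 [2,4,1]) (.N 16 (.L 4 [1,4,2]) (.L 2 [5,2,5])))) (.N 20 (.N 18 (.L 0 [3,0,3,0,3]) (.N 19 (.L 2 [3,1,3]) (.L 2 [3,5,3,5,0,3,5,3,2,0,1,3,5,3,0,3,5,3,2,0]))) (.N 21 (.L 5 [3,5,3,2,0,1,3,5,3,0,3,5,3,2,0,1,3,5,3,0]) (.N 22 (.L 1 [0,2,0,2,0]) (.L 2 [0,1,0,1,0]))))))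

noncomputable def stree : ST := (.N 1 (.L 0 [] []) (.N 2 (.L 1 [] []) (.L 3 [] [])))

noncomputable def C : Cert where
  data := tree
  lm := 15
  rb := 102
  fb := 14
  mask := 16383
  B := 64
  k := 6
  N := 32
  inv := fun x => bif Nat.beq x 0 then 0 else bif Nat.beq x 1 then 2 else bif Nat.beq x 2 then 1 else bif Nat.beq x 3 then 3 else bif Nat.beq x 4 then 4 else bif Nat.beq x 5 then 5 else x
  words := wtree
  subs := stree

def rels : List (List Nat) := [[1,1,1], [1,3,1,3], [0,4,0,4], [4,1,4,2], [3,4,3,4], [5,4,5,4], [5,0,5,0], [5,1,5,2], [0,1,0,1,0,1], [0,3,0,3,0,3], [5,3,5,3,5,3,5,3,4], [0,3,5,3,2,0,1,3,5,3,0,3,5,3,2,0,1,3,5,3,5]]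

def subw : List (List Nat) := [[0], [1], [3]]

end Cfsg.Agent.J2Type.EnBData
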