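import Cfsg.Agent.J2Type.EnCData

set_option autoImplicit false
set_option maxRecDepth 100000

namespace Cfsg.Agent.J2Type.EnCChk0

open Cfsg.Agent.SporadicRecognition.CosetCert Cfsg.Agent.J2Type.EnCData

theorem c0 : Part C 0 60 60 := runChunk_sound C 60 (by decide +kernel : runChunk C 8 255 0x202010202010302830201029301030202020102020103a3020201730201030202020173020103a30202020102020173020103a35302020183020102930103020202020183020102930103a3020202018302010293010302020202010102020283020102930103a3020202010102020202020173020103a35302020101130202530202010102230283020173930103a3530202010113230202010202530202010113230202020173020202010102020202020301011302020263020153020201010202020233020101130202020243010113230202020102020103020113230202020102020103020202020102020202 1 1 0 0 60 = 61)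

theorem all : Part C 0 60 60 := c0

end Cfsg.Agent.J2Type.EnCChk0
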