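import Cfsg.Agent.SporadicRecognition.CosetCert

set_option autoImplicit false
set_option maxRecDepth 100000

namespace Cfsg.Agent.J2Type.EnCData

open Cfsg.Agent.SporadicRecognition.CosetCert

noncomputable def tree : Tr := (.N 32 (.N 16 (.L 0xfffd61d2e24ed32b1c3fff2718cd12a2159c3fffd49b435898b23183fff374939a4c648450fffc6c41e1480a4a60ffff485c94e42586440fffc5431f306054054ffff3e50e932d404c30fffc442293cc513648ffff30444060d08b101fffca0f0b083c72438bfff09045ca1d3088d3fffc70c080c1411a2c7fff16280c107105092fffc4880e1c30601043fff0a14184040c082f) (.L 0xfffd999647d8529fb47fff606975263825eb2fffe6eca2ba7ad5b443fff5741ae15a526ac3fffe3e994ae4aa553c3fff51395177b963a93fffd7df506534d859c7fff65812cd4f69de42fffe06688a212749303fff472df65536e0263fffdea5412d10e464cbfff6f89d24728cfca0fffcf495975a616e88ffff6884f1039251561fffce0d628179f35203fff2f1cc88343d71e3)) (.N 48 (.L 0xfffeb24a98abf1d7e0bfffb5cb7badae69e10ffff3f7a4b685ea6a87fffd5e275ea3ba8202fffe71ed2e33b799743fffc3d65aa937261f1ffff2f6917256ba5b8bfff9073236c2d635b0fffee738a9e1d88c8c7fffbfd20d889a219a2fffe098bcd2e337f5c3fff7959f1b7e5ed323fffeaf0768dcd578647fffb1c5c5575922e82fffdc15aec6ab06d503fff674da946c76a2f3)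 (.L 0xffffbb9ecefa72f0cc7fffe6eb8f2ebf3a362ffff97be0e776fe2dc7fffedf366fdfeb7312ffff5add4df46cd8c07fffd0bb36cd3e387a2ffff32acad71e9e7ec7fffc4af069c9db1b42ffff027beceee6c5d47fffbaa2de6bdd3bfc2fffedafeaf393bb3943fffb28ec30ad8b6f91)))

noncomputable def wtree : WT := (.N 5 (.N 2 (.N 1 (.L 1 [2,2]) (.L 2 [3,1,3])) (.N 3 (.L 1 [3,2,3]) (.N 4 (.L 2 [0,1,0,1,0]) (.L 1 [0,2,0,2,0])))) (.N 8 (.N 6 (.L 3 [0,3,0,3,0]) (.N 7 (.L 2 [1,1]) (.L 0 [1,0,1,0,1]))) (.N 9 (.L 3 [1,3,1]) (.N 10 (.L 3 [2,3,2]) (.L 0 [2,0,2,0,2])))))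

noncomputable def stree : ST := (.L 4 [] [])

noncomputable def C : Cert where
  data := tree
  lm := 15
  rb := 74
  fb := 14
  mask := 16383
  B := 64
  k := 4
  N := 60
  inv := fun x => bif Nat.beq x 0 then 0 else bif Nat.beq x 1 then 2 else bif Nat.beq x 2 then 1 else bif Nat.beq x 3 then 3 else x
  words := wtree
  subs := stree

def rels : List (List Nat) := [[1,1,1], [1,3,1,3], [0,1,0,1,0,1], [0,3,0,3,0,3]]

def subw : List (List Nat) := []

end Cfsg.Agent.J2Type.EnCData
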