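import Mathlib
import Cfsg.Prelude.Def_Transfer
import Cfsg.Agent.Lib.FrattiniPGroup

/-!
A nonabelian group of order `p ^ 3` is extraspecial.
-/

set_option autoImplicit false
set_option linter.style.haveILetI false

open scoped commutatorElement

namespace Cfsg.Agent.J2Type.ExtCube

open Subgroup

/-- A nonabelian group of order `p ^ 3` is extraspecial. -/
theorem isExtraspecial_of_card_cube {P : Type*} [Group P] [Finite P] {p : ℕ} [hp : Fact p.Prime]
    (hP : Nat.card P = p ^ 3) (hne : ∃ x y : P, x * y ≠ y * x) : Cfsg.IsExtraspecial p P := by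
  have hPp : IsPGroup p P := IsPGroup.of_card hP
  have hnab : ∀ (G' : Type _) [Group G'] [IsCyclic G'] (f : P →* G'), ¬ f.ker ≤ center P := by
    intro G' _ _ f hf
    have h1 := (MonoidHom.isMulCommutative_of_isCyclic_of_ker_le_center f hf).is_comm.comm
    obtain ⟨x, y, hxy⟩ := hne
    exact hxy (h1 x y)
  obtain ⟨k, hk, hZ⟩ := IsPGroup.card_center_eq_prime_pow hP (by norm_num)
  have hmul : Nat.card (P ⧸ center P) * Nat.card (center P) = p ^ 3 := by
    rw [← hP]; exact (Subgroup.card_eq_card_quotient_mul_card_subgroup _).symm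
  have hker : (QuotientGroup.mk' (center P)).ker ≤ center P := by rw [QuotientGroup.ker_mk']
  have hppos : 0 < p := hp.out.pos
  have hk3 : k ≤ 3 := by
    have h1 : p ^ k ∣ p ^ 3 := by rw [← hZ, ← hP]; exact card_subgroup_dvd_card _
    exact (Nat.pow_dvd_pow_iff_le_right hp.out.one_lt).mp h1
  have hk1 : k = 1 := by
    interval_cases k
    · rfl
    · exfalso
      have h1 : Nat.card (P ⧸ center P) = p := by
        rw [hZ, pow_succ' p 2] at hmul
        exact Nat.eq_of_mul_eq_mul_right (pow_pos hppos 2) hmul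
      haveI : IsCyclic (P ⧸ center P) := isCyclic_of_prime_card h1
      exact hnab _ (QuotientGroup.mk' (center P)) hker
    · exfalso
      have h1 : Nat.card (P ⧸ center P) = 1 := by
        rw [hZ] at hmul
        exact Nat.eq_of_mul_eq_mul_right (pow_pos hppos 3) (by rw [hmul, one_mul])
      haveI : Subsingleton (P ⧸ center P) := (Nat.card_eq_one_iff_unique.mp h1).1
      exact hnab _ (QuotientGroup.mk' (center P)) hker
  rw [hk1, pow_one] at hZ
  have hQ : Nat.card (P ⧸ center P) = p ^ 2 := by
    rw [hZ, pow_succ p 2] at hmul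
    exact Nat.eq_of_mul_eq_mul_right hppos hmul
  have hQc := (IsPGroup.isMulCommutative_of_card_eq_prime_sq hQ).is_comm.comm
  have hc : ∀ x y : P, ⁅x, y⁆ ∈ center P := by
    intro x y
    rw [← QuotientGroup.eq_one_iff, commutatorElement_def]
    have h1 := hQc (x : P ⧸ center P) (y : P ⧸ center P)
    calc ((x * y * x⁻¹ * y⁻¹ : P) : P ⧸ center P) = (x : P ⧸ center P) * y * (x : P ⧸ center P)⁻¹ * (y : P ⧸ center P)⁻¹ := rfl
      _ = 1 := by rw [h1]; group
  have hpow : ∀ x : P, x ^ p ∈ center P := by
    intro x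
    rw [← QuotientGroup.eq_one_iff]
    show (x : P ⧸ center P) ^ p = 1
    have h1 : orderOf (x : P ⧸ center P) ∣ p ^ 2 := by rw [← hQ]; exact orderOf_dvd_natCard _
    obtain ⟨j, hj, hj'⟩ := (Nat.dvd_prime_pow hp.out).mp h1
    have hj2 : j ≠ 2 := by
      rintro rfl
      haveI : IsCyclic (P ⧸ center P) := isCyclic_of_orderOf_eq_card (x : P ⧸ center P) (by rw [hj', hQ])
      exact hnab _ (QuotientGroup.mk' (center P)) hker
    rw [← orderOf_dvd_iff_pow_eq_one, hj']
    have : j ≤ 1 := by omega
    calc p ^ j ∣ p ^ 1 := pow_dvd_pow p this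
      _ = p := pow_one p
  have hprime : ∀ H : Subgroup P, H ≤ center P → H ≠ ⊥ → H = center P := by
    intro H hH hne
    have hdvd : Nat.card H ∣ p := by rw [← hZ]; exact card_dvd_of_le hH
    rcases (Nat.dvd_prime hp.out).1 hdvd with h1 | h1
    · exact absurd ((Subgroup.card_eq_one).1 h1) hne
    · exact Subgroup.eq_of_le_of_card_ge hH (by rw [hZ, h1])
  have hcom : commutator P = center P := by
    apply hprime
    · rw [_root_.commutator_def, Subgroup.commutator_le]
      intro x _ y _
      exact hc x y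
    · intro h
      obtain ⟨x, y, hxy⟩ := hne
      apply hxy
      have : ⁅x, y⁆ ∈ commutator P := by
        rw [_root_.commutator_def]
        exact Subgroup.commutator_mem_commutator (mem_top _) (mem_top _)
      rw [h, mem_bot, commutatorElement_eq_one_iff_mul_comm] at this
      exact this
  have hfr : frattini P = center P := by
    apply le_antisymm
    · exact Cfsg.Agent.Lib.FrattiniPGroup.frattini_le (p := p) (center P) hc hpow
    · rw [← hcom]
      exact Cfsg.Agent.Lib.FrattiniPGroup.commutator_le_frattini hPp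
  exact ⟨⟨hPp, hfr, hcom⟩, hZ⟩

end Cfsg.Agent.J2Type.ExtCube
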