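import Mathlib
import Cfsg.Agent.J2Type.Cent5
import Cfsg.Agent.J2Type.Order

/-!
Sylow 5-subgroups of a group of Hall-Janko type, from the fusion interface `Fus`.
-/

set_option autoImplicit false
set_option linter.style.haveILetI false

namespace Cfsg.Agent.J2Type.FiveFus

open Subgroup Cfsg.Agent.J2Type.Base Cfsg.Agent.J2Type.HStr Cfsg.Agent.J2Type.CentU
  Cfsg.Agent.J2Type.FourSelfCent Cfsg.Agent.J2Type.SylowSeven Cfsg.Agent.J2Type.CentQuot
  Cfsg.Agent.J2Type.A5Facts

variable {G : Type*} [Group G] [Finite G] {z u : G}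

omit [Finite G] in
/-- Elements of order 5 commuting with `z` are real. -/
theorem real_of_comm (h : Fus z u) {w : G} (hw : orderOf w = 5) (hwz : w * z = z * w) : IsConj w w⁻¹ := by
  have h1 : orderOf w⁻¹ = 5 := by rw [orderOf_inv]; exact hw
  have hw5 : w ^ 5 = 1 := by rw [← hw]; exact pow_orderOf_eq_one w
  have h2 : w⁻¹ * z = z * w⁻¹ := by
    have : Commute w z := hwz
    exact this.inv_left
  obtain ⟨g, -, hg | hg⟩ := h.conj5 w w⁻¹ hw h1 hwz h2
  · exact isConj_iff.mpr ⟨g, hg⟩
  · have h3 : g * w * g⁻¹ = w ^ 3 := by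
      rw [hg]
      have : w⁻¹ ^ 2 * w ^ 5 = w ^ 3 := by group
      rw [← this, hw5, mul_one]
    refine isConj_iff.mpr ⟨g * g, ?_⟩
    have h4 : (g * g) * w * (g * g)⁻¹ = (w ^ 3) ^ 3 := by
      calc (g * g) * w * (g * g)⁻¹ = g * (g * w * g⁻¹) * g⁻¹ := by group
        _ = g * w ^ 3 * g⁻¹ := by rw [h3]
        _ = (g * w * g⁻¹) ^ 3 := by rw [conj_pow]
        _ = (w ^ 3) ^ 3 := by rw [h3]
    rw [h4, eq_inv_iff_mul_eq_one]
    calc (w ^ 3) ^ 3 * w = w ^ 5 * w ^ 5 := by group
      _ = 1 := by rw [hw5, one_mul]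

theorem not_four_dvd (h : Fus z u) {w : G} (hw : orderOf w = 5) (hwz : w * z = z * w) :
    ¬ 4 ∣ Nat.card (centralizer ({w} : Set G)) := by
  intro h4
  haveI : Fact (Nat.Prime 2) := ⟨by norm_num⟩
  have hzC : z ∈ centralizer ({w} : Set G) := mem_centralizer_singleton_iff.mpr hwz.symm
  let Z : Subgroup (centralizer ({w} : Set G)) := zpowers ⟨z, hzC⟩
  have hZ : Nat.card Z = 2 ^ 1 := by
    rw [Nat.card_zpowers, ← orderOf_coe]
    simpa using h.hz
  have h1 : 2 ^ (1 + 1) ∣ Nat.card (normalizer (Z : Set (centralizer ({w} : Set G)))) :=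
    Sylow.prime_pow_dvd_card_normalizer (by simpa using h4) hZ
  -- the normaliser of `⟨z⟩` is the centraliser of `z`
  have h2 : Nat.card (normalizer (Z : Set (centralizer ({w} : Set G)))) ∣ 10 := by
    rw [← h.card10 w hw hwz]
    let φ : normalizer (Z : Set (centralizer ({w} : Set G))) →
        (centralizer ({z} : Set G) ⊓ centralizer ({w} : Set G) : Subgroup G) := fun x => ⟨x.1.1, by
      rw [mem_inf]
      refine ⟨?_, x.1.2⟩
      rw [mem_centralizer_singleton_iff]
      have hx := (mem_normalizer_iff.mp x.2 ⟨z, hzC⟩).mp (mem_zpowers _)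
      obtain ⟨k, hk⟩ := mem_zpowers_iff.mp hx
      have hk' : z ^ k = x.1.1 * z * (x.1.1)⁻¹ := congrArg Subtype.val hk
      have hz2 : z ^ (2 : ℤ) = 1 := by
        have := pow_orderOf_eq_one z
        rw [h.hz] at this
        exact_mod_cast this
      have hk2 : z ^ k = 1 ∨ z ^ k = z := by
        rcases Int.even_or_odd k with ⟨m, hm⟩ | ⟨m, hm⟩
        · left; rw [hm, ← two_mul, zpow_mul, hz2, one_zpow]
        · right; rw [hm, zpow_add, zpow_mul, hz2, one_zpow, one_mul, zpow_one]
      rcases hk2 with h3 | h3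
      · exfalso
        rw [h3] at hk'
        have : z = 1 := by
          have : z = (x.1.1)⁻¹ * (x.1.1 * z * (x.1.1)⁻¹) * x.1.1 := by group
          rw [this, ← hk']; group
        have h4 := h.hz
        rw [this, orderOf_one] at h4; norm_num at h4
      · rw [h3] at hk'
        calc x.1.1 * z = (x.1.1 * z * (x.1.1)⁻¹) * x.1.1 := by group
          _ = z * x.1.1 := by rw [← hk']⟩
    let ψ : normalizer (Z : Set (centralizer ({w} : Set G))) →*
        (centralizer ({z} : Set G) ⊓ centralizer ({w} : Set G) : Subgroup G) :=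
      { toFun := φ
        map_one' := rfl
        map_mul' := fun _ _ => rfl }
    refine Subgroup.card_dvd_of_injective ψ ?_
    intro x y hxy
    have h5 : (ψ x : G) = (ψ y : G) := by rw [hxy]
    exact Subtype.ext (Subtype.ext h5)
  have h3 := h1.trans h2
  norm_num at h3

/-- The conclusion of S1722. -/
theorem sylow_five (h : Fus z u) (P : Sylow 5 G) :
    centralizer ((P : Subgroup G) : Set G) = P ∧ Nat.card P = 25 ∧
      Nat.card (normalizer ((P : Subgroup G) : Set G)) = 300 ∧
      ∃ X Y : Subgroup G, Nat.card X = 5 ∧ Nat.card Y = 5 ∧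
        (∀ g : G, X.map (MulAut.conj g).toMonoidHom ≠ Y) ∧
        ∀ W : Subgroup G, Nat.card W = 5 → ∃ g : G, W.map (MulAut.conj g).toMonoidHom = X ∨
          W.map (MulAut.conj g).toMonoidHom = Y := by
  haveI : Fact (Nat.Prime 5) := ⟨by norm_num⟩
  have hG := Order.card_of_fus h
  obtain ⟨f, U, V, H0, F⟩ := CentU.main h
  have h60 : Nat.card H0 = 60 := by
    have h1 := Order.card_centralizer_u h
    rw [F.str.card] at h1
    omega
  obtain ⟨w', hw'⟩ := exists_prime_orderOf_dvd_card' (G := H0) 5 (by rw [h60]; norm_num)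
  obtain ⟨w, hw⟩ := exists_prime_orderOf_dvd_card' (G := centralizer ({z} : Set G)) 5
    (by rw [h.cardC]; norm_num)
  have hw'5 : orderOf (w' : G) = 5 := by rw [orderOf_coe]; exact hw'
  have hw5 : orderOf (w : G) = 5 := by rw [orderOf_coe]; exact hw
  have hwz : (w : G) * z = z * w := mem_centralizer_singleton_iff.mp w.2
  exact SylowFive.sylow_five hG (Cent5.good_of_mem h F h60 w'.2 hw'5) hw5 (real_of_comm h hw5 hwz)
    (not_four_dvd h hw5 hwz) P

end Cfsg.Agent.J2Type.FiveFus
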