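import Cfsg.Agent.J2Type.ElemA
import Cfsg.Agent.J2Type.Cent5
import Cfsg.Agent.J2Type.Order
import Cfsg.Agent.J2Type.Pres

/-!
The relations `Pres.Rels` hold for suitable elements of a group of Hall–Janko type.
-/

set_option autoImplicit false

namespace Cfsg.Agent.J2Type.GRels

open Subgroup Cfsg.Agent.J2Type.Base Cfsg.Agent.J2Type.CentU Cfsg.Agent.J2Type.Cent5
  Cfsg.Agent.J2Type.CentQuot Cfsg.Agent.J2Type.Pres

variable {G : Type*} [Group G] {z u f : G} {U V H0 : Subgroup G}

/-- norm of `g` with respect to `x` -/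
def nm (x g : G) : G := g * (x * g * x⁻¹) * (x ^ 2 * g * (x ^ 2)⁻¹)

theorem nm_conj {x g k : G} (hk : k * x = x * k) : nm x (k * g * k⁻¹) = k * nm x g * k⁻¹ := by
  have h1 : ∀ j : ℕ, x ^ j * (k * g * k⁻¹) * (x ^ j)⁻¹ = k * (x ^ j * g * (x ^ j)⁻¹) * k⁻¹ := by
    intro j
    have h2 : Commute k (x ^ j) := (show Commute k x from hk).pow_right j
    calc x ^ j * (k * g * k⁻¹) * (x ^ j)⁻¹ = (x ^ j * k) * g * (x ^ j * k)⁻¹ := by group
      _ = (k * x ^ j) * g * (k * x ^ j)⁻¹ := by rw [h2.eq]
      _ = _ := by group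
  have h3 := h1 1
  rw [pow_one] at h3
  unfold nm
  rw [h3, h1 2]
  group

/-- A four-group `V` acted on by `x` of order 3 moving `v`. -/
theorem four_cases {x v : G} (hV : Nat.card V = 4) (hV2 : ∀ a ∈ V, a * a = 1) (hx3 : x ^ 3 = 1)
    (hxV : ∀ a ∈ V, x * a * x⁻¹ ∈ V) (hv : v ∈ V) (hxv : x * v ≠ v * x) :
    nm x v = 1 ∧ ∀ b ∈ V, b = 1 ∨ b = v ∨ b = x * v * x⁻¹ ∨ b = x ^ 2 * v * (x ^ 2)⁻¹ := by
  classical
  set v1 := x * v * x⁻¹ with hv1
  set v2 := x ^ 2 * v * (x ^ 2)⁻¹ with hv2
  have hv1V : v1 ∈ V := hxV v hv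
  have hv2' : v2 = x * v1 * x⁻¹ := by rw [hv2, hv1, pow_two]; group
  have hv2V : v2 ∈ V := by rw [hv2']; exact hxV v1 hv1V
  have hv3 : x * v2 * x⁻¹ = v := by
    have : x * v2 * x⁻¹ = x ^ 3 * v * (x ^ 3)⁻¹ := by
      rw [hv2]; simp only [pow_succ, pow_zero, one_mul]; group
    rw [this, hx3]; group
  have hne1 : v ≠ 1 := by
    rintro rfl; apply hxv; simp
  have h01 : v ≠ v1 := by
    intro h; apply hxv
    have : x * v * x⁻¹ = v := h.symm
    exact mul_inv_eq_iff_eq_mul.mp this
  have h12 : v1 ≠ v2 := by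
    intro h
    rw [hv2', hv1] at h
    apply h01
    have h' : x * v * x⁻¹ = x * (x * v * x⁻¹) * x⁻¹ := h
    have := mul_left_cancel (mul_right_cancel h')
    exact this
  have h02 : v ≠ v2 := by
    intro h
    apply h01
    rw [← h] at hv3
    exact hv3.symm
  have h11 : v1 ≠ 1 := by
    intro h
    rw [hv1, conj_eq_one_iff] at h
    exact hne1 h
  have h21 : v2 ≠ 1 := by
    intro h
    rw [hv2, conj_eq_one_iff] at h
    exact hne1 h
  have hfin : Finite V := Nat.finite_of_card_ne_zero (by rw [hV]; norm_num)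
  have := Fintype.ofFinite V
  let S : Finset V := {1, ⟨v, hv⟩, ⟨v1, hv1V⟩, ⟨v2, hv2V⟩}
  have hS : S.card = 4 := by
    rw [Finset.card_insert_of_notMem, Finset.card_insert_of_notMem, Finset.card_insert_of_notMem,
      Finset.card_singleton]
    · simpa using h12
    · simpa using ⟨h01, h02⟩
    · simp only [Finset.mem_insert, Finset.mem_singleton, not_or]
      refine ⟨fun h => hne1 (congrArg Subtype.val h).symm, fun h => h11 (congrArg Subtype.val h).symm,
        fun h => h21 (congrArg Subtype.val h).symm⟩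
  have hSu : S = Finset.univ := by
    apply Finset.eq_univ_of_card
    rw [hS, ← hV, Nat.card_eq_fintype_card]
  have hall : ∀ b ∈ V, b = 1 ∨ b = v ∨ b = v1 ∨ b = v2 := by
    intro b hb
    have hmem : (⟨b, hb⟩ : V) ∈ S := by rw [hSu]; exact Finset.mem_univ _
    simp only [S, Finset.mem_insert, Finset.mem_singleton] at hmem
    rcases hmem with h | h | h | h
    · left; exact congrArg Subtype.val h
    · right; left; exact congrArg Subtype.val h
    · right; right; left; exact congrArg Subtype.val h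
    · right; right; right; exact congrArg Subtype.val h
  refine ⟨?_, hall⟩
  have hfinal : v * v1 = v2 := by
    rcases hall _ (V.mul_mem hv hv1V) with h | h | h | h
    · exfalso
      apply h01
      have h2 := hV2 v1 hv1V
      exact mul_right_cancel (h.trans h2.symm)
    · exfalso
      exact h11 (mul_eq_left.mp h)
    · exfalso
      exact hne1 (mul_eq_right.mp h)
    · exact h
  change v * v1 * v2 = 1
  rw [hfinal]
  exact hV2 v2 hv2V

/-- the `z`-type elements commuting with `z` and `e` are `z`, `e`, `ze`. -/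
theorem three_z [Finite G] (h : Fus z u) {e g : G} (he : IsConj z e) (hez : e * z = z * e) (hne : e ≠ z)
    (hg : IsConj z g) (hgz : g * z = z * g) (hge : e * g = g * e) : g = z ∨ g = e ∨ g = z * e := by
  classical
  let A : Set G := {y | IsConj z y ∧ y * z = z * y}
  let B : Set G := {y | IsConj z y ∧ y * z = z * y ∧ e * y ≠ y * e}
  have hA : A.ncard = 11 := h.card11
  have hB : B.ncard = 8 := h.card8 e he hez hne
  have hBA : B ⊆ A := fun y hy => ⟨hy.1, hy.2.1⟩
  have hAB : (A \ B).ncard = 3 := by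
    rw [Set.ncard_sdiff hBA, hA, hB]
  have hz1 := z_ne h
  have he1 : e ≠ 1 := isConj_ne h he
  have hzz := zz h
  have hee : e * e = 1 := by
    obtain ⟨c, rfl⟩ := isConj_iff.mp he
    calc c * z * c⁻¹ * (c * z * c⁻¹) = c * (z * z) * c⁻¹ := by group
      _ = 1 := by rw [hzz]; group
  have hsub : ({z, e, z * e} : Set G) ⊆ A \ B := by
    intro y hy
    rcases hy with rfl | rfl | rfl
    · exact ⟨⟨IsConj.refl _, rfl⟩, fun h0 => h0.2.2 hez⟩
    · exact ⟨⟨he, hez⟩, fun h0 => h0.2.2 rfl⟩
    · refine ⟨⟨h.mul_z z e (IsConj.refl z) he hez.symm (Ne.symm hne), ?_⟩, fun h0 => h0.2.2 ?_⟩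
      · rw [mul_assoc, hez]
      · rw [← mul_assoc, hez]
  have h3 : ({z, e, z * e} : Set G).ncard = 3 := by
    rw [Set.ncard_eq_toFinset_card', Set.toFinset_insert, Set.toFinset_insert, Set.toFinset_singleton,
      Finset.card_insert_of_notMem, Finset.card_insert_of_notMem, Finset.card_singleton]
    · simp only [Finset.mem_singleton]
      intro h0
      exact hz1 (mul_eq_right.mp h0.symm)
    · simp only [Finset.mem_insert, Finset.mem_singleton, not_or]
      refine ⟨Ne.symm hne, fun h0 => ?_⟩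
      exact he1 (mul_eq_left.mp h0.symm)
  have heq := Set.eq_of_subset_of_ncard_le hsub (by rw [h3, hAB])
  have hgm : g ∈ A \ B := ⟨⟨hg, hgz⟩, fun h0 => h0.2.2 hge⟩
  rw [← heq] at hgm
  exact hgm

/-- The relation `n1` for `x = d` or `x = d⁻¹`. -/
theorem n1_cases [Finite G] (h : Fus z u) (F : Full z u f U V H0)
    {d y e q : G} (hd3 : d ^ 3 = 1) (hdV : ∀ v ∈ V, d * v * d⁻¹ ∈ V) (hdu : d * u ≠ u * d)
    (hdH : ∀ g ∈ H0, d * g = g * d)
    (hy : y ∈ H0) (he : e = y⁻¹ * z * y) (heU : e ∈ U) (hez : e ≠ z) (he1 : e ≠ 1)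
    (hyz : y * z * y⁻¹ = z * e)
    (hq : IsConj z q) (hqz : q * z = z * q) (hqe : q * e * q = e * z) (hqd : q * d = d * q)
    (h24 : Nat.card {t : G // IsConj u t ∧ t * z = z * t ∧ t * e = e * t} = 24) :
    y⁻¹ * (q * u * q) * y = q * (d⁻¹ * u * d) * q ∨ y⁻¹ * (q * u * q) * y = q * (d * u * d⁻¹) * q := by
  classical
  have hzz := zz h
  have huu := uu h
  have hqq : q * q = 1 := by
    obtain ⟨c, rfl⟩ := isConj_iff.mp hq
    calc c * z * c⁻¹ * (c * z * c⁻¹) = c * (z * z) * c⁻¹ := by group
      _ = 1 := by rw [hzz]; group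
  have hqi : q⁻¹ = q := (eq_inv_of_mul_eq_one_left hqq).symm
  have hee : e * e = 1 := sq_U h F heU
  have heE : e ∈ E z u := by
    rcases (F.memU e).mp heU with h1 | ⟨_, h2, h3⟩
    · exact absurd h1 he1
    · exact mem_E.mpr ⟨h2, h3⟩
  have hezc : e * z = z * e := (mem_E.mp heE).1
  have heu : e * u = u * e := (mem_E.mp heE).2
  have hyu : y * u = u * y := mem_C.mp (F.str.le hy)
  have hdz : d * z = z * d := hdH z (F.U_le F.zU)
  have hdy : d * y = y * d := hdH y hy
  have hz1 := z_ne h
  -- `q` does not commute with `e`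
  have hqe' : q * e ≠ e * q := by
    intro h0
    rw [h0, mul_assoc, hqq, mul_one] at hqe
    exact hz1 (mul_eq_left.mp hqe.symm)
  have hUE : ∀ g ∈ U, g ∈ E z u := by
    intro g hg
    rcases (F.memU g).mp hg with h1 | ⟨_, h2, h3⟩
    · rw [h1]; exact one_mem _
    · exact mem_E.mpr ⟨h2, h3⟩
  have hqu : q * u ≠ u * q := by
    intro h0
    exact hqe' (comm_E h (mem_E.mpr ⟨hqz, h0⟩) heE)
  -- elements of `E \ U` are of `u`-type
  have hutype : ∀ s ∈ E z u, s ∉ U → IsConj u s := by
    intro s hs hsU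
    have hs1 : s ≠ 1 := fun h0 => hsU (h0 ▸ one_mem U)
    have hs2 : orderOf s = 2 := orderOf_eq_prime (by rw [pow_two]; exact sq_E h hs) hs1
    rcases h.cover s hs2 with h1 | h1
    · exact absurd ((F.memU s).mpr (Or.inr ⟨h1, (mem_E.mp hs).1, (mem_E.mp hs).2⟩)) hsU
    · exact h1
  -- `q s q ∉ E` for `s ∈ E \ U`
  have hqs : ∀ s ∈ E z u, s ∉ U → q * s * q ∉ E z u := by
    intro s hs hsU hqsE
    have hst := hutype s hs hsU
    by_cases hc : q * s = s * q
    · -- C(z) ∩ C(s) = E
      have hle : E z u ≤ E z s := by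
        intro g hg
        exact mem_E.mpr ⟨(mem_E.mp hg).1, comm_E h hg hs⟩
      have hcard : Nat.card (E z s) ≤ Nat.card (E z u) := by
        obtain ⟨g, h1, h2⟩ := h.pair z s (IsConj.refl z) hst (mem_E.mp hs).1.symm
        have := card_E_conj (z := z) (u := u) g
        rw [h1, h2] at this
        exact this.le
      have heq := Subgroup.eq_of_le_of_card_ge hle hcard
      have hqE : q ∈ E z u := by
        rw [heq]; exact mem_E.mpr ⟨hqz, hc⟩
      exact hqe' (comm_E h hqE heE)
    · have h1 := h.pow4 q s hq hst hqz (mem_E.mp hs).1 hc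
      have h2 : (q * s) ^ 2 = q * s * q * s := by rw [pow_two]; group
      have h3 : (q * s) ^ 2 ∈ E z u := by rw [h2]; exact (E z u).mul_mem hqsE hs
      have h4 : (q * s) ^ 4 = 1 := by
        rw [show (4 : ℕ) = 2 * 2 from rfl, pow_mul, pow_two ((q * s) ^ 2)]
        exact sq_E h h3
      rw [h4] at h1
      exact hz1 h1.symm
  have huU : u ∉ U := fun hu => F.str.notMem (F.U_le hu)
  set t := y⁻¹ * (q * u * q) * y with ht
  have htz : t * z = z * t := by
    have h1 : (q * u * q) * (z * e) = (z * e) * (q * u * q) := by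
      have h2 : q * (z * e) = e * q := by
        rw [← mul_assoc, hqz, mul_assoc]
        have : q * e = e * z * q := by rw [← hqe, mul_assoc, hqq, mul_one]
        rw [this, ← mul_assoc, ← mul_assoc, ← hezc, mul_assoc e z z, hzz, mul_one]
      have h3 : q * e = (z * e) * q := by
        have : q * e = e * z * q := by rw [← hqe, mul_assoc, hqq, mul_one]
        rw [this, hezc]
      calc (q * u * q) * (z * e) = q * u * (q * (z * e)) := by group
        _ = q * (u * e) * q := by rw [h2]; group
        _ = (q * e) * u * q := by rw [← heu]; group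
        _ = (z * e) * (q * u * q) := by rw [h3]; group
    have h4 : z = y⁻¹ * (z * e) * y := by rw [← hyz]; group
    calc t * z = (y⁻¹ * (q * u * q) * y) * (y⁻¹ * (z * e) * y) := by rw [← h4]
      _ = y⁻¹ * ((q * u * q) * (z * e)) * y := by group
      _ = y⁻¹ * ((z * e) * (q * u * q)) * y := by rw [h1]
      _ = (y⁻¹ * (z * e) * y) * (y⁻¹ * (q * u * q) * y) := by group
      _ = z * t := by rw [← h4]
  have hte : t * e = e * t := by
    have h1 : (q * u * q) * z = z * (q * u * q) := by
      calc (q * u * q) * z = q * u * (q * z) := by group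
        _ = q * (u * z) * q := by rw [hqz]; group
        _ = (q * z) * u * q := by rw [← h.comm]; group
        _ = z * (q * u * q) := by rw [hqz]; group
    calc t * e = y⁻¹ * ((q * u * q) * z) * y := by rw [ht, he]; group
      _ = y⁻¹ * (z * (q * u * q)) * y := by rw [h1]
      _ = e * t := by rw [ht, he]; group
  have htu : IsConj u t := by
    refine isConj_iff.mpr ⟨y⁻¹ * q, ?_⟩
    rw [mul_inv_rev, hqi, inv_inv, ht]; group
  -- the 24 elements
  let S : Set G := {t | IsConj u t ∧ t * z = z * t ∧ t * e = e * t}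
  let A1 : Set G := {s | s ∈ E z u ∧ s ∉ U}
  let A2 : Set G := (fun s => q * s * q) '' A1
  have hS : S.ncard = 24 := h24
  have hA1 : A1.ncard = 12 := by
    have h1 : A1 = (E z u : Set G) \ (U : Set G) := rfl
    rw [h1, Set.ncard_sdiff (fun g hg => hUE g hg)]
    have h2 : (E z u : Set G).ncard = 16 := card_E h
    have h3 : (U : Set G).ncard = 4 := F.cardU
    rw [h2, h3]
  have hinj : Function.Injective (fun s : G => q * s * q) := by
    intro a b hab
    have hab' : q * a * q = q * b * q := hab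
    exact mul_left_cancel (mul_right_cancel hab')
  have hA2 : A2.ncard = 12 := by rw [Set.ncard_image_of_injective A1 hinj, hA1]
  have hA1S : A1 ⊆ S := fun s hs => ⟨hutype s hs.1 hs.2, (mem_E.mp hs.1).1, comm_E h hs.1 heE⟩
  have hA2S : A2 ⊆ S := by
    rintro _ ⟨s, hs, rfl⟩
    have hsz := (mem_E.mp hs.1).1
    refine ⟨(hutype s hs.1 hs.2).trans (isConj_iff.mpr ⟨q, by rw [hqi]⟩), ?_, ?_⟩
    · calc q * s * q * z = q * (s * z) * q := by rw [mul_assoc, hqz]; group
        _ = (q * z) * s * q := by rw [hsz]; group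
        _ = z * (q * s * q) := by rw [hqz]; group
    · have h2 : q * e = e * z * q := by rw [← hqe, mul_assoc, hqq, mul_one]
      have h3 : q * (e * z) = e * q := by
        rw [← mul_assoc, h2, mul_assoc (e * z), hqz, ← mul_assoc, mul_assoc e z z, hzz, mul_one]
      have h4 : s * (e * z) = (e * z) * s :=
        comm_E h hs.1 ((E z u).mul_mem heE (z_mem_E h))
      calc q * s * q * e = q * s * (q * e) := by group
        _ = q * (s * (e * z)) * q := by rw [h2]; group
        _ = (q * (e * z)) * s * q := by rw [h4]; group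
        _ = e * (q * s * q) := by rw [h3]; group
  have hdisj : Disjoint A1 A2 := by
    rw [Set.disjoint_left]
    rintro _ ha ⟨s, hs, rfl⟩
    exact hqs s hs.1 hs.2 ha.1
  have hunion : A1 ∪ A2 = S := by
    apply Set.eq_of_subset_of_ncard_le (Set.union_subset hA1S hA2S)
    rw [Set.ncard_union_eq hdisj, hA1, hA2, hS]
  have htS : t ∈ A1 ∪ A2 := by rw [hunion]; exact ⟨htu, htz, hte⟩
  rcases htS with ht1 | ⟨s, hs, hst⟩
  · -- `t ∈ E`: impossible
    exfalso
    have h1 : y * t * y⁻¹ = q * u * q := by rw [ht]; group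
    apply hqs u (u_mem_E h) huU
    rw [← h1, mem_E]
    constructor
    · have h2 : t * e = e * t := hte
      have h3 : z = y * e * y⁻¹ := by rw [he]; group
      calc y * t * y⁻¹ * z = y * t * y⁻¹ * (y * e * y⁻¹) := by rw [← h3]
        _ = y * (t * e) * y⁻¹ := by group
        _ = y * (e * t) * y⁻¹ := by rw [h2]
        _ = (y * e * y⁻¹) * (y * t * y⁻¹) := by group
        _ = z * (y * t * y⁻¹) := by rw [← h3]
    · have h2 := (mem_E.mp ht1.1).2
      have h3 : y⁻¹ * u = u * y⁻¹ := ((show Commute y u from hyu).inv_left).eq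
      calc y * t * y⁻¹ * u = y * t * (y⁻¹ * u) := by group
        _ = y * (t * u) * y⁻¹ := by rw [h3]; group
        _ = (y * u) * t * y⁻¹ := by rw [h2]; group
        _ = u * (y * t * y⁻¹) := by rw [hyu]; group
  · -- `t = q s q` with `s ∈ E \ U`
    have hst' : q * s * q = t := hst
    have hs' : s = q * t * q := by
      rw [← hst']
      calc s = 1 * s * 1 := by group
        _ = (q * q) * s * (q * q) := by rw [hqq]
        _ = q * (q * s * q) * q := by group
    -- norm of `s`
    have hN : nm d s = 1 := by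
      have h1 := (four_cases F.cardV (fun a ha => sq_V h F ha) hd3 hdV F.uV hdu).1
      have h2 : s = (q * y⁻¹ * q) * u * (q * y⁻¹ * q)⁻¹ := by
        rw [hs', ht, mul_inv_rev, mul_inv_rev, hqi, inv_inv]; group
      have h3 : (q * y⁻¹ * q) * d = d * (q * y⁻¹ * q) := by
        have c1 : Commute q d := hqd
        have c2 : Commute y d := hdy.symm
        exact ((c1.mul_left c2.inv_left).mul_left c1).eq
      rw [h2, nm_conj h3, h1]; group
    obtain ⟨a0, ha0, b0, hb0, hab⟩ := F.mulUV s (mem_E.mp hs.1).1 (mem_E.mp hs.1).2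
    have hda0 : d * a0 = a0 * d := hdH a0 (F.U_le ha0)
    have hs1 : s ≠ 1 := fun h0 => hs.2 (h0 ▸ one_mem U)
    have hb0E : b0 ∈ E z u := mem_E.mpr ⟨((F.memV b0).mp hb0).1, ((F.memV b0).mp hb0).2.1⟩
    -- `nm d (a0 b0) = a0 ^ 3 nm d b0`
    have hdb : ∀ b ∈ V, b ∈ E z u := fun b hb =>
      mem_E.mpr ⟨((F.memV b).mp hb).1, ((F.memV b).mp hb).2.1⟩
    have hNab : nm d s = a0 * nm d b0 := by
      have k1 : d * (a0 * b0) * d⁻¹ = a0 * (d * b0 * d⁻¹) := by
        calc d * (a0 * b0) * d⁻¹ = (d * a0) * b0 * d⁻¹ := by group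
          _ = a0 * (d * b0 * d⁻¹) := by rw [hda0]; group
      have hb1 : d * b0 * d⁻¹ ∈ V := hdV b0 hb0
      have hb2 : d ^ 2 * b0 * (d ^ 2)⁻¹ ∈ V := by
        have : d ^ 2 * b0 * (d ^ 2)⁻¹ = d * (d * b0 * d⁻¹) * d⁻¹ := by rw [pow_two]; group
        rw [this]; exact hdV _ hb1
      have k2 : d ^ 2 * (a0 * b0) * (d ^ 2)⁻¹ = a0 * (d ^ 2 * b0 * (d ^ 2)⁻¹) := by
        have c : d ^ 2 * a0 = a0 * d ^ 2 := ((show Commute d a0 from hda0).pow_left 2).eq
        calc d ^ 2 * (a0 * b0) * (d ^ 2)⁻¹ = (d ^ 2 * a0) * b0 * (d ^ 2)⁻¹ := by group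
          _ = a0 * (d ^ 2 * b0 * (d ^ 2)⁻¹) := by rw [c]; group
      have hUV : ∀ b ∈ V, b * a0 = a0 * b := fun b hb => comm_E h (hdb b hb) (hUE a0 ha0)
      have ha02 : a0 * a0 = 1 := sq_U h F ha0
      unfold nm
      rw [hab, k1, k2]
      calc a0 * b0 * (a0 * (d * b0 * d⁻¹)) * (a0 * (d ^ 2 * b0 * (d ^ 2)⁻¹))
          = a0 * (b0 * a0) * ((d * b0 * d⁻¹) * a0) * (d ^ 2 * b0 * (d ^ 2)⁻¹) := by group
        _ = a0 * (a0 * b0) * (a0 * (d * b0 * d⁻¹)) * (d ^ 2 * b0 * (d ^ 2)⁻¹) := by
            rw [hUV b0 hb0, hUV _ hb1]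
        _ = (a0 * a0) * (b0 * a0) * (d * b0 * d⁻¹) * (d ^ 2 * b0 * (d ^ 2)⁻¹) := by
            simp only [mul_assoc]
        _ = a0 * (b0 * (d * b0 * d⁻¹) * (d ^ 2 * b0 * (d ^ 2)⁻¹)) := by
            rw [ha02, one_mul, hUV b0 hb0]; group
    rw [hNab] at hN
    have hcomm_b0 : d * b0 ≠ b0 * d := by
      intro hc
      have : nm d b0 = b0 := by
        have c1 : d * b0 * d⁻¹ = b0 := by rw [hc]; group
        have c2 : d ^ 2 * b0 * (d ^ 2)⁻¹ = b0 := by
          rw [((show Commute d b0 from hc).pow_left 2).eq]; group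
        unfold nm
        rw [c1, c2, sq_V h F hb0, one_mul]
      rw [this] at hN
      apply hs1
      rw [hab, hN]
    have hNb := (four_cases F.cardV (fun a ha => sq_V h F ha) hd3 hdV hb0 hcomm_b0).1
    rw [hNb, mul_one] at hN
    rw [hN, one_mul] at hab
    -- so `s = b0 ∈ V`
    have hcases := (four_cases F.cardV (fun a ha => sq_V h F ha) hd3 hdV F.uV hdu).2 b0 hb0
    rw [← hst', hab]
    rcases hcases with h1 | h1 | h1 | h1
    · exact absurd (hab.trans h1) hs1
    · -- `b0 = u`
      exfalso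
      have h2 : t = q * u * q := by rw [← hst', hab, h1]
      have h3 : y * (q * u * q) = (q * u * q) * y := by
        have h4 : y⁻¹ * (q * u * q) * y = q * u * q := h2
        calc y * (q * u * q) = y * (y⁻¹ * (q * u * q) * y) := by rw [h4]
          _ = (q * u * q) * y := by group
      have h5 : y * ((q * u * q) * u) = ((q * u * q) * u) * y := by
        have c1 : Commute y (q * u * q) := h3
        have c2 : Commute y u := hyu
        exact (c1.mul_right c2).eq
      have h6 : ((q * u * q) * u) ^ 2 = z := by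
        have h7 := h.pow4 q u hq (IsConj.refl u) hqz h.comm.symm hqu
        rw [← h7, show (4 : ℕ) = 2 * 2 from rfl, pow_mul]
        congr 1
        rw [pow_two]; group
      have h8 : y * z = z * y := by
        rw [← h6]
        exact ((show Commute y ((q * u * q) * u) from h5).pow_right 2).eq
      apply hez
      rw [he, mul_assoc, ← h8]; group
    · right; rw [h1]
    · left
      rw [h1]
      have h2 : d ^ 2 = d⁻¹ := by
        rw [eq_inv_iff_mul_eq_one, ← pow_succ, hd3]
      rw [h2, inv_inv]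

/-- Existence of elements satisfying the relations. -/
theorem exists_rels [Finite G] (h : Fus z u) (F : Full z u f U V H0) (h60 : Nat.card H0 = 60)
    (hG : Nat.card G = 604800)
    (hd : ∃ d : G, orderOf d = 3 ∧ (∀ x ∈ H0, d * x = x * d) ∧ (∀ v ∈ V, d * v * d⁻¹ ∈ V) ∧ d * u ≠ u * d)
    (h24 : ∀ e ∈ U, e ≠ 1 → e ≠ z → Nat.card {t : G // IsConj u t ∧ t * z = z * t ∧ t * e = e * t} = 24) :
    ∃ v x a y l : G, Rels v x a z y l := by
  classical
  obtain ⟨d, hdo, hdH, hdV, hdu⟩ := hd
  have hd3 : d ^ 3 = 1 := by rw [← hdo]; exact pow_orderOf_eq_one d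
  have hd1 : d ≠ 1 := by rintro rfl; simp at hdu
  have hzz := zz h
  have huu := uu h
  have hz1 := z_ne h
  have hu1 := u_ne h
  have hzi : z⁻¹ = z := (eq_inv_of_mul_eq_one_left hzz).symm
  have hzH : z ∈ H0 := F.U_le F.zU
  obtain ⟨φ⟩ := exists_equiv h F h60
  let z0 : H0 := ⟨z, hzH⟩
  have hz0 : φ z0 * φ z0 = 1 := by
    rw [← map_mul]
    have : z0 * z0 = 1 := Subtype.ext hzz
    rw [this, map_one]
  have hz01 : φ z0 ≠ 1 := by
    rw [Ne, map_eq_one_iff φ φ.injective]
    intro h0
    exact hz1 (congrArg Subtype.val h0)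
  obtain ⟨y', l', y3', y1', zy', l2', yl', zl', w5', w1'⟩ := A5More.exists_yl _ hz0 hz01
  let ψ : alternatingGroup (Fin 5) →* G := H0.subtype.comp φ.symm.toMonoidHom
  have hψinj : Function.Injective ψ := H0.subtype_injective.comp φ.symm.injective
  have hψmem : ∀ g, ψ g ∈ H0 := fun g => (φ.symm g).2
  have hψz : ψ (φ z0) = z := by
    change ((φ.symm (φ z0) : H0) : G) = z
    rw [MulEquiv.symm_apply_apply]
  set y := ψ y' with hy
  set l := ψ l' with hl
  have hyH : y ∈ H0 := hψmem _
  have hlH : l ∈ H0 := hψmem _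
  have y3 : y ^ 3 = 1 := by rw [hy, ← map_pow, y3', map_one]
  have zy : (z * y) ^ 3 = 1 := by
    rw [hy]; conv_lhs => rw [← hψz]
    rw [← map_mul, ← map_pow, zy', map_one]
  have l2 : l * l = 1 := by rw [hl, ← map_mul, l2', map_one]
  have yl : (y * l) ^ 2 = 1 := by rw [hy, hl, ← map_mul, ← map_pow, yl', map_one]
  have zl : (z * l) ^ 3 = 1 := by
    rw [hl]; conv_lhs => rw [← hψz]
    rw [← map_mul, ← map_pow, zl', map_one]
  set w := z * (l * y) with hw
  have hwψ : w = ψ (φ z0 * (l' * y')) := by rw [map_mul, map_mul, hψz]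
  have w5 : w ^ 5 = 1 := by rw [hwψ, ← map_pow, w5', map_one]
  have w1 : w ≠ 1 := by
    rw [hwψ]
    intro h0
    exact w1' (hψinj (h0.trans (map_one ψ).symm))
  have hwo : orderOf w = 5 := by
    have : Fact (Nat.Prime 5) := ⟨by norm_num⟩
    exact orderOf_eq_prime w5 w1
  have hwH : w ∈ H0 := H0.mul_mem hzH (H0.mul_mem hlH hyH)
  have ly2 : (l * y) * (l * y) = 1 := by
    have h1 : (l * y) * (l * y) = l * ((y * l) ^ 2) * l⁻¹ := by
      rw [pow_two]; group
    rw [h1, yl]; group
  have hzw : z * w * z⁻¹ = w⁻¹ := by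
    rw [hw, mul_inv_rev, hzi, ← eq_inv_of_mul_eq_one_left ly2, ← mul_assoc z z, hzz, one_mul]
  have huH : ∀ g ∈ H0, u * g = g * u := fun g hg => (mem_C.mp (F.str.le hg)).symm
  have hdz : d * z = z * d := hdH z hzH
  have hdy : d * y = y * d := hdH y hyH
  have hnm := (four_cases F.cardV (fun a ha => sq_V h F ha) hd3 hdV F.uV hdu).1
  have hud : (u * d) ^ 3 = 1 := by
    have h1 : (u * d) ^ 3 = nm d u * d ^ 3 := by
      unfold nm
      simp only [pow_succ, pow_zero, one_mul]; group
    rw [h1, hnm, hd3, one_mul]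
  obtain ⟨φ'⟩ := exists_equiv_CQ h F h60 hG hwH hwo
  obtain ⟨a, a2, da, ua, az, aw, k, hk⟩ := ElemA.exists_a hwo φ' (huH w hwH) (hdH w hwH) hzw hzz huu hu1
    hd3 hd1 hud h.comm.symm hdz
  have hai : a⁻¹ = a := (eq_inv_of_mul_eq_one_left a2).symm
  have aly : a * (l * y) = (l * y) * a := by
    have h1 : l * y = z * w := by rw [hw, ← mul_assoc, hzz, one_mul]
    rw [h1]
    have c1 : Commute a z := az
    have c2 : Commute a w := aw
    exact (c1.mul_right c2).eq
  -- the element `e`
  set e := y⁻¹ * z * y with he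
  have hee : e * e = 1 := by
    calc (y⁻¹ * z * y) * (y⁻¹ * z * y) = y⁻¹ * (z * z) * y := by group
      _ = 1 := by rw [hzz]; group
  have h1 : z * (y * z * y⁻¹) * e = 1 := by
    have h2 : (z * y) ^ 3 = z * (y * z * y⁻¹) * (y ^ 2 * z * y) := by
      simp only [pow_succ, pow_zero, one_mul]; group
    have h3 : y ^ 2 = y⁻¹ := by
      rw [eq_inv_iff_mul_eq_one, ← pow_succ, y3]
    rw [zy, h3] at h2
    exact h2.symm
  have hei : e⁻¹ = e := (eq_inv_of_mul_eq_one_left hee).symm
  have hyz : y * z * y⁻¹ = z * e := by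
    have h2 : z * (y * z * y⁻¹) = e := by
      rw [mul_eq_one_iff_eq_inv] at h1
      rw [h1, hei]
    rw [← h2, ← mul_assoc, hzz, one_mul]
  have hezc : e * z = z * e := by
    have h2 : (z * e) * (z * e) = 1 := by
      rw [← hyz]
      calc y * z * y⁻¹ * (y * z * y⁻¹) = y * (z * z) * y⁻¹ := by group
        _ = 1 := by rw [hzz]; group
    have h3 : (z * e)⁻¹ = z * e := (eq_inv_of_mul_eq_one_left h2).symm
    rw [mul_inv_rev, hei, hzi] at h3
    exact h3
  have heH : e ∈ H0 := H0.mul_mem (H0.mul_mem (H0.inv_mem hyH) hzH) hyH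
  have heU : e ∈ U := F.cap e heH hezc
  have he1 : e ≠ 1 := by
    intro h0
    apply hz1
    have : z = y * e * y⁻¹ := by rw [he]; group
    rw [this, h0]; group
  have hezne : e ≠ z := by
    intro h0
    have h2 : z * y = y * z := by
      have : y⁻¹ * z * y = z := h0
      calc z * y = y * (y⁻¹ * z * y) := by group
        _ = y * z := by rw [this]
    have h3 : (z * y) ^ 3 = z := by
      rw [(show Commute z y from h2).mul_pow, y3, mul_one, pow_succ, pow_two, hzz, one_mul]
    rw [zy] at h3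
    exact hz1 h3.symm
  have heconj : IsConj z e := isConj_iff.mpr ⟨y⁻¹, by rw [inv_inv]⟩
  have hde : d * e = e * d := hdH e heH
  have hue : u * e = e * u := huH e heH
  -- the element `q`
  set q := a * e * a with hq
  have hqconj : IsConj z q := heconj.trans (isConj_iff.mpr ⟨a, by rw [hai]⟩)
  have hqz : q * z = z * q := by
    have c1 : Commute a z := az
    have c2 : Commute e z := hezc
    exact ((c1.mul_left c2).mul_left c1).eq
  have hqne : q ≠ z := by
    intro h0
    apply hezne
    have h2 : e = a * q * a := by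
      rw [hq]
      calc e = 1 * e * 1 := by group
        _ = (a * a) * e * (a * a) := by rw [a2]
        _ = a * (a * e * a) * a := by group
    rw [h2, h0, az, mul_assoc, a2, mul_one]
  have hnotcomm : e * q ≠ q * e := by
    intro h0
    rcases three_z h heconj hezc hezne hqconj hqz h0 with h2 | h2 | h2
    · exact hqne h2
    · -- `a` commutes with `e`
      have hae : a * e = e * a := by
        have : a * e * a = e := h2
        calc a * e = (a * e * a) * a⁻¹ := by group
          _ = e * a := by rw [this, hai]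
      have hwe : (u * d * a) * e = e * (u * d * a) := by
        have c1 : Commute u e := hue
        have c2 : Commute d e := hde
        have c3 : Commute a e := hae
        exact ((c1.mul_left c2).mul_left c3).eq
      have hwz : (u * d * a) * z = z * (u * d * a) := by
        have c1 : Commute u z := h.comm.symm
        have c2 : Commute d z := hdz
        have c3 : Commute a z := az
        exact ((c1.mul_left c2).mul_left c3).eq
      have hwe' := ((show Commute _ e from hwe).pow_left k).eq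
      have hwz' := ((show Commute _ z from hwz).pow_left k).eq
      have h10 := h.card10 _ hk hwz'
      have hle : U ≤ centralizer ({z} : Set G) ⊓ centralizer ({(u * d * a) ^ k} : Set G) := by
        intro g hg
        -- U = {1, z, e, z e}
        have hgE : g * z = z * g := by
          rcases (F.memU g).mp hg with h3 | ⟨_, h3, _⟩
          · rw [h3, one_mul, mul_one]
          · exact h3
        have hge : e * g = g * e := comm_U h F heU hg
        rw [mem_inf, mem_C, mem_C]
        refine ⟨hgE, ?_⟩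
        have hcz : Commute ((u * d * a) ^ k) z := hwz'
        have hce : Commute ((u * d * a) ^ k) e := hwe'
        rcases (F.memU g).mp hg with h3 | ⟨h3, _, _⟩
        · rw [h3, one_mul, mul_one]
        · rcases three_z h heconj hezc hezne h3 hgE hge with h4 | h4 | h4
          · rw [h4]; exact hcz.eq.symm
          · rw [h4]; exact hce.eq.symm
          · rw [h4]; exact (hcz.mul_right hce).eq.symm
      have h4 : Nat.card U ∣ 10 := by rw [← h10]; exact card_dvd_of_le hle
      rw [F.cardU] at h4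
      omega
    · -- `q = z e`
      have hne : z * e ≠ e := fun h3 => hz1 (mul_eq_right.mp h3)
      have haea : a * e * a = z * e := h2
      have h3 : (u * a) * e * (u * a)⁻¹ = z * e := by
        have hui : u⁻¹ = u := (eq_inv_of_mul_eq_one_left huu).symm
        rw [mul_inv_rev, hai, hui]
        calc u * a * e * (a * u) = u * (a * e * a) * u := by group
          _ = u * (z * e) * u := by rw [haea]
          _ = (z * e) * (u * u) := by
              rw [← mul_assoc u z e, ← h.comm, mul_assoc z u e, hue]; group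
          _ = z * e := by rw [huu, mul_one]
      have h4 : (u * a) * z * (u * a)⁻¹ = z := by
        have c : Commute (u * a) z := (show Commute u z from h.comm.symm).mul_left az
        rw [c.eq]; group
      have h5 : (u * a) ^ 3 * e * ((u * a) ^ 3)⁻¹ = z * (z * (z * e)) := by
        generalize u * a = g at h3 h4
        calc g ^ 3 * e * (g ^ 3)⁻¹ = g * (g * (g * e * g⁻¹) * g⁻¹) * g⁻¹ := by
              simp only [pow_succ, pow_zero, one_mul]; group
          _ = g * (g * (z * e) * g⁻¹) * g⁻¹ := by rw [h3]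
          _ = g * ((g * z * g⁻¹) * (g * e * g⁻¹)) * g⁻¹ := by group
          _ = g * (z * (z * e)) * g⁻¹ := by rw [h3, h4]
          _ = (g * z * g⁻¹) * ((g * z * g⁻¹) * (g * e * g⁻¹)) := by group
          _ = z * (z * (z * e)) := by rw [h3, h4]
      rw [ua] at h5
      rw [← mul_assoc z z, hzz, one_mul] at h5
      apply hne
      simpa using h5.symm
  have heq4 : (e * q) ^ 2 = z :=
    h.sq_z e q heconj hqconj hezc hqz hnotcomm
  have hqeq : q * e * q = e * z := by
    have h2 : e * q * e * q = z := by rw [← heq4, pow_two]; group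
    calc q * e * q = (e * e) * (q * e * q) := by rw [hee, one_mul]
      _ = e * (e * q * e * q) := by group
      _ = e * z := by rw [h2]
  -- `q` commutes with `d`
  have hada : a * d * a = d⁻¹ := by
    have : d * (a * d * a) = 1 := by
      rw [← da, pow_two]; group
    exact (inv_eq_of_mul_eq_one_right this).symm
  have hqd : q * d = d * q := by
    have h2 : a * d = d⁻¹ * a := by rw [← hada, mul_assoc, a2, mul_one]
    have h3 : a * d⁻¹ = d * a := by
      rw [← hada, ← mul_assoc, ← mul_assoc, a2, one_mul]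
    calc q * d = a * e * (a * d) := by rw [hq]; group
      _ = a * (e * d⁻¹) * a := by rw [h2]; group
      _ = (a * d⁻¹) * e * a := by
          rw [((show Commute e d from hde.symm).inv_right).eq]; group
      _ = d * q := by rw [h3, hq]; group
  have hn1 := n1_cases h F hd3 hdV hdu hdH hyH he heU hezne he1 hyz hqconj hqz hqeq hqd
    (h24 e heU he1 hezne)
  have hdv : d⁻¹ ^ 3 = 1 := by rw [inv_pow, hd3, inv_one]
  have hcommon : ∀ x : G, x ^ 3 = 1 → (u * x) ^ 3 = 1 → (x * a) ^ 2 = 1 → x * z = z * x → x * y = y * x →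
      x * l = l * x → y⁻¹ * (q * u * q) * y = q * (x⁻¹ * u * x) * q → Rels u x a z y l := by
    intro x hx3 hux hxa hxz hxy hxl hxn
    exact ⟨huu, hx3, hux, a2, hxa, ua, hzz, y3, zy, l2, yl, zl, h.comm.symm, huH y hyH, huH l hlH,
      hxz, hxy, hxl, az, aly, heq4, hxn⟩
  have hdl : d * l = l * d := hdH l hlH
  rcases hn1 with h2 | h2
  · exact ⟨u, d, a, y, l, hcommon d hd3 hud da hdz hdy hdl h2⟩
  · refine ⟨u, d⁻¹, a, y, l, hcommon d⁻¹ hdv ?_ ?_ ?_ ?_ ?_ ?_⟩
    · -- `(u d⁻¹)^3 = 1`
      have hui : u⁻¹ = u := (eq_inv_of_mul_eq_one_left huu).symm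
      have h3 : (d * u) ^ 3 = 1 := by
        have : (d * u) ^ 3 = d * ((u * d) ^ 3) * d⁻¹ := by
          simp only [pow_succ, pow_zero, one_mul]; group
        rw [this, hud]; group
      have h4 : (u * d⁻¹) ^ 3 = ((d * u) ^ 3)⁻¹ := by
        rw [← inv_pow, mul_inv_rev, hui]
      rw [h4, h3, inv_one]
    · have h3 : (d⁻¹ * a) ^ 2 = ((a * d) ^ 2)⁻¹ := by
        rw [← inv_pow, mul_inv_rev, hai]
      have h4 : (a * d) ^ 2 = 1 := by
        have : (a * d) ^ 2 = a * ((d * a) ^ 2) * a⁻¹ := by
          simp only [pow_two]; group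
        rw [this, da]; group
      rw [h3, h4, inv_one]
    · exact ((show Commute d z from hdz).inv_left).eq
    · exact ((show Commute d y from hdy).inv_left).eq
    · exact ((show Commute d l from hdl).inv_left).eq
    · rw [inv_inv]; exact h2

end Cfsg.Agent.J2Type.GRels
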