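import Mathlib

/-!
A finite group with an involution whose centraliser has order 2 has an abelian normal subgroup of odd order and
index 2, inverted by the involution.
-/

set_option autoImplicit false
set_option linter.style.haveILetI false

namespace Cfsg.Agent.J2Type.InvTwo

open Subgroup

theorem exists_abelian_index_two {K : Type*} [Group K] [Finite K] {t : K} (ht : t * t = 1) (ht1 : t ≠ 1)
    (hc : ∀ x : K, x * t = t * x → x = 1 ∨ x = t) :
    ∃ A : Subgroup K, A.Normal ∧ A.index = 2 ∧ (∀ x ∈ A, ∀ y ∈ A, x * y = y * x) ∧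
      (∀ x ∈ A, t * x * t⁻¹ = x⁻¹) ∧ ∀ x : K, Odd (orderOf x) → x ∈ A := by
  haveI : Fact (Nat.Prime 2) := ⟨by norm_num⟩
  have ht2 : orderOf t = 2 := orderOf_eq_prime (by rw [pow_two]; exact ht) ht1
  have hZ : Nat.card (zpowers t) = 2 ^ 1 := by rw [Nat.card_zpowers, ht2]; norm_num
  have hmem : ∀ x : K, x ∈ zpowers t → x = 1 ∨ x = t := by
    intro x hx
    obtain ⟨k, hk⟩ := mem_zpowers_iff.mp hx
    have ht2' : t ^ (2 : ℤ) = 1 := by
      have : t ^ 2 = 1 := by rw [pow_two]; exact ht
      exact_mod_cast this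
    rcases Int.even_or_odd k with ⟨m, hm⟩ | ⟨m, hm⟩
    · left; rw [← hk, hm, ← two_mul, zpow_mul, ht2', one_zpow]
    · right; rw [← hk, hm, zpow_add, zpow_mul, ht2', one_zpow, one_mul, zpow_one]
  -- the normaliser of `⟨t⟩` is `⟨t⟩`
  have hnorm : normalizer ((zpowers t : Subgroup K) : Set K) ≤ zpowers t := by
    intro x hx
    have h1 := (mem_normalizer_iff.mp hx t).mp (mem_zpowers t)
    rcases hmem _ h1 with h | h
    · exfalso
      apply ht1
      calc t = x⁻¹ * (x * t * x⁻¹) * x := by group
        _ = 1 := by rw [h]; group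
    · have h2 : x * t = t * x := by
        calc x * t = (x * t * x⁻¹) * x := by group
          _ = t * x := by rw [h]
      rcases hc x h2 with h3 | h3
      · rw [h3]; exact one_mem _
      · rw [h3]; exact mem_zpowers t
  have h4 : ¬ 4 ∣ Nat.card K := by
    intro h4
    have h1 : 2 ^ (1 + 1) ∣ Nat.card (normalizer ((zpowers t : Subgroup K) : Set K)) :=
      Sylow.prime_pow_dvd_card_normalizer (by simpa using h4) hZ
    have h2 := h1.trans (card_dvd_of_le hnorm)
    rw [hZ] at h2
    norm_num at h2
  -- the Sylow 2-subgroup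
  have hfac : (Nat.card K).factorization 2 = 1 := by
    have h2 : 2 ∣ Nat.card K := by rw [← ht2]; exact orderOf_dvd_natCard t
    have h3 : 1 ≤ (Nat.card K).factorization 2 :=
      (Nat.Prime.dvd_iff_one_le_factorization (by norm_num) Nat.card_pos.ne').mp h2
    have h5 : ¬ 2 ≤ (Nat.card K).factorization 2 := by
      intro h6
      apply h4
      have := (Nat.Prime.pow_dvd_iff_le_factorization (by norm_num : Nat.Prime 2) Nat.card_pos.ne').mpr h6
      simpa using this
    omega
  let P : Sylow 2 K := Sylow.ofCard (zpowers t) (by rw [hZ, hfac])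
  have hPt : (P : Subgroup K) = zpowers t := rfl
  have hcyc : IsCyclic P := by
    show IsCyclic (zpowers t)
    infer_instance
  have hmin : (Nat.card K).minFac = 2 := by
    have h2 : 2 ∣ Nat.card K := by rw [← ht2]; exact orderOf_dvd_natCard t
    exact (Nat.minFac_eq_two_iff _).mpr h2
  have hcompl := IsCyclic.isComplement' hmin (P := P) hcyc
  set A := (MonoidHom.transferSylow P (hcyc.normalizer_le_centralizer hmin)).ker with hA
  have hAn : A.Normal := by rw [hA]; infer_instance
  have hidx : A.index = 2 := by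
    have := hcompl.symm.index_eq_card
    rw [this]
    show Nat.card (zpowers t) = 2
    rw [hZ]; norm_num
  have htA : t ∉ A := by
    intro h
    have h1 := hcompl.disjoint
    rw [disjoint_def] at h1
    exact ht1 (h1 h (mem_zpowers t))
  -- the action of `t` on `A`
  let φ : A →* A :=
    { toFun := fun x => ⟨t * x * t⁻¹, hAn.conj_mem x x.2 t⟩
      map_one' := by apply Subtype.ext; simp
      map_mul' := by
        intro x y
        apply Subtype.ext
        show t * (x * y) * t⁻¹ = (t * x * t⁻¹) * (t * y * t⁻¹)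
        group }
  have hfpf : MonoidHom.FixedPointFree φ := by
    intro x hx
    have h1 : t * x * t⁻¹ = x := congrArg Subtype.val hx
    have h2 : (x : K) * t = t * x := by
      calc (x : K) * t = (t * x * t⁻¹) * t := by rw [h1]
        _ = t * x := by group
    rcases hc x h2 with h3 | h3
    · exact Subtype.ext h3
    · exact absurd (h3 ▸ x.2) htA
  have hinv : Function.Involutive φ := by
    intro x
    apply Subtype.ext
    show t * (t * x * t⁻¹) * t⁻¹ = x
    have : t * (t * x * t⁻¹) * t⁻¹ = (t * t) * x * (t * t)⁻¹ := by group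
    rw [this, ht]; simp
  refine ⟨A, hAn, hidx, ?_, ?_, ?_⟩
  · intro x hx y hy
    have := hfpf.commute_all_of_involutive hinv ⟨x, hx⟩ ⟨y, hy⟩
    exact congrArg Subtype.val this
  · intro x hx
    have := congrFun (hfpf.coe_eq_inv_of_involutive hinv) ⟨x, hx⟩
    exact congrArg Subtype.val this
  · intro x hx
    obtain ⟨k, hk⟩ := hx
    have h1 : x ^ 2 ∈ A := by
      have := A.pow_index_mem x
      rwa [hidx] at this
    have h2 : x = (x ^ 2) ^ (k + 1) * (x ^ orderOf x)⁻¹ := by
      rw [← pow_mul, hk, show 2 * (k + 1) = (2 * k + 1) + 1 by ring, pow_succ]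
      rw [← hk, pow_orderOf_eq_one]; simp
    rw [h2, pow_orderOf_eq_one, inv_one, mul_one]
    exact A.pow_mem h1 _

end Cfsg.Agent.J2Type.InvTwo
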