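import Mathlib
import Cfsg.Prelude.Def_Classical
import Cfsg.Agent.S0824

/-! `|Ω⁻(4,2)| = 60` -/

set_option autoImplicit false

namespace Cfsg.Agent.J2Type.OmegaCard

theorem commutator_perm_five : commutator (Equiv.Perm (Fin 5)) = alternatingGroup (Fin 5) :=
  alternatingGroup.commutator_perm_eq (by simp)

theorem card_omega :
    Nat.card (Cfsg.Omega (ZMod 2) (Cfsg.quadFormMinus 1 (ZMod 2) 1 1)) = 60 := by
  obtain ⟨e⟩ := Cfsg.Agent.S0824.result (F := ZMod 2) (ZMod.card 2)
  have h1 : (commutator (Cfsg.isometryGroup (ZMod 2) (Cfsg.quadFormMinus 1 (ZMod 2) 1 1))).map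
      e.toMonoidHom = commutator (Equiv.Perm (Fin 5)) := by
    rw [_root_.commutator_def, Subgroup.map_commutator, _root_.commutator_def]
    rw [Subgroup.map_top_of_surjective e.toMonoidHom e.surjective]
  have h2 : Nat.card (commutator (Cfsg.isometryGroup (ZMod 2) (Cfsg.quadFormMinus 1 (ZMod 2) 1 1))) =
      Nat.card (commutator (Equiv.Perm (Fin 5))) := by
    rw [← h1]
    exact Nat.card_congr (e.subgroupMap _).toEquiv
  show Nat.card (commutator (Cfsg.isometryGroup (ZMod 2) (Cfsg.quadFormMinus 1 (ZMod 2) 1 1))) = 60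
  rw [h2, commutator_perm_five, nat_card_alternatingGroup, Nat.card_eq_fintype_card, Fintype.card_fin]
  rfl

end Cfsg.Agent.J2Type.OmegaCard
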