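import Mathlib
import Cfsg.Prelude.Def_Local
import Cfsg.Prelude.Def_Transfer
import Cfsg.Prelude.Def_Classical
import Cfsg.Agent.TwoFusion.FStarControl
import Cfsg.Agent.J2Type.OmegaCard
import Cfsg.Agent.J2Type.Fusion

/-! From the hypotheses of the statements on groups of Hall–Janko type to `Fus`. -/

set_option autoImplicit false

namespace Cfsg.Agent.J2Type.Setup

open Cfsg.Agent.J2Type.Base

theorem centralizer_le {H : Type*} [Group H] [Finite H] (Q : Subgroup H)
    (hF : Cfsg.generalizedFittingSubgroup H = Q) : Subgroup.centralizer (Q : Set H) ≤ Q := by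
  have h1 := Cfsg.Agent.TwoFusion.FStarControl.centralizer_genFitting_le_fitting (H := H)
  rw [hF] at h1
  refine h1.trans ?_
  have h2 := Cfsg.Agent.TwoFusion.FStarControl.fitting_le_genFitting (H := H)
  rw [hF] at h2
  exact h2

/-- `Fus` from the hypotheses of S1720–S1724. -/
theorem fus_of_type {G : Type*} [Group G] [Finite G] (z : G) (hz : orderOf z = 2)
    (Q : Subgroup (Subgroup.centralizer ({z} : Set G))) [Q.Normal]
    (hF : Cfsg.generalizedFittingSubgroup (Subgroup.centralizer ({z} : Set G)) = Q)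
    (hQ : Cfsg.IsExtraspecial 2 Q) (hcard : Nat.card Q = 2 ^ 5)
    (e : (Subgroup.centralizer ({z} : Set G)) ⧸ Q ≃*
      Cfsg.Omega (ZMod 2) (Cfsg.quadFormMinus 1 (ZMod 2) 1 1))
    (hnwc : ∃ g : G, (∃ hq : g * z * g⁻¹ ∈ Subgroup.centralizer ({z} : Set G),
      (⟨g * z * g⁻¹, hq⟩ : Subgroup.centralizer ({z} : Set G)) ∈ Q) ∧ g * z * g⁻¹ ≠ z)
    (hcl : ∃ x y : G, orderOf x = 2 ∧ orderOf y = 2 ∧ ¬ IsConj x y) :
    ∃ u, Fus z u := by
  refine Cfsg.Agent.J2Type.Fusion.fus_core z hz Q hQ (by rw [hcard]; norm_num)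
    (centralizer_le Q hF) ?_ hnwc hcl
  rw [Nat.card_congr e.toEquiv]
  exact Cfsg.Agent.J2Type.OmegaCard.card_omega

end Cfsg.Agent.J2Type.Setup
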