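import Mathlib
import Cfsg.Agent.J2Type.Cent5
import Cfsg.Agent.J2Type.Order

/-!
An element `d` of order 3 centralising `H0` in a group of Hall-Janko type.
-/

set_option autoImplicit false
set_option linter.style.haveILetI false

namespace Cfsg.Agent.J2Type.ThreeA

open Subgroup Cfsg.Agent.J2Type.Base Cfsg.Agent.J2Type.HStr Cfsg.Agent.J2Type.CentU
  Cfsg.Agent.J2Type.FourSelfCent Cfsg.Agent.J2Type.SylowSeven Cfsg.Agent.J2Type.CentQuot
  Cfsg.Agent.J2Type.A5Facts

/-- A simple group of order 60 has no proper subgroup of order divisible by 15. -/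
theorem eq_top_of_fifteen {K : Type*} [Group K] [Finite K] [IsSimpleGroup K] (h60 : Nat.card K = 60)
    (A : Subgroup K) (h : 15 ∣ Nat.card A) : A = ⊤ := by
  by_contra hne
  obtain ⟨k, hk⟩ := h
  have h1 := A.card_mul_index
  rw [h60, hk] at h1
  have h2 : k * A.index = 4 := by
    have : 15 * (k * A.index) = 15 * 4 := by rw [← mul_assoc, h1]
    exact Nat.eq_of_mul_eq_mul_left (by norm_num) this
  have h3 : A.normalCore = ⊥ := by
    rcases (A.normalCore_normal).eq_bot_or_eq_top with h | h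
    · exact h
    · exfalso
      apply hne
      rw [eq_top_iff, ← h]
      exact A.normalCore_le
  have hinj : Function.Injective (MulAction.toPermHom K (K ⧸ A)) := by
    rw [← MonoidHom.ker_eq_bot_iff, ← normalCore_eq_ker, h3]
  have h4 := Subgroup.card_dvd_of_injective _ hinj
  rw [h60, Nat.card_perm] at h4
  have h5 : Nat.card (K ⧸ A) = A.index := rfl
  rw [h5] at h4
  have h6 : A.index ∣ 4 := ⟨k, by rw [mul_comm]; exact h2.symm⟩
  have h7 : A.index ≤ 4 := Nat.le_of_dvd (by norm_num) h6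
  have h8 := Nat.le_of_dvd (Nat.factorial_pos _) h4
  have h9 : (A.index).factorial ≤ (4).factorial := Nat.factorial_le h7
  have h10 : (4).factorial = 24 := rfl
  omega

variable {G : Type*} [Group G] [Finite G]

/-- An element of prime order `p` normalising `H` centralises a subgroup of `H` of order congruent to `|H|`. -/
theorem card_centralizer_modEq {p : ℕ} [hp : Fact p.Prime] (H : Subgroup G) {d : G} (hd : orderOf d = p)
    (hn : ∀ x ∈ H, d * x * d⁻¹ ∈ H) :
    Nat.card H ≡ Nat.card (H ⊓ centralizer ({d} : Set G) : Subgroup G) [MOD p] := by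
  classical
  haveI := Fintype.ofFinite H
  let g : Function.End H := fun x => ⟨d * x * d⁻¹, hn x x.2⟩
  have hg : ∀ n : ℕ, ∀ x : H, (((g ^ n) x : H) : G) = d ^ n * x * (d ^ n)⁻¹ := by
    intro n
    induction n with
    | zero =>
      intro x
      rw [pow_zero, pow_zero]
      show (x : G) = 1 * x * 1⁻¹
      group
    | succ n ih =>
      intro x
      rw [pow_succ']
      show d * ((g ^ n) x : H) * d⁻¹ = _
      rw [ih, pow_succ']; group
  have hgp : g ^ p ^ 1 = 1 := by
    rw [pow_one]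
    funext x
    apply Subtype.ext
    rw [hg, ← hd, pow_orderOf_eq_one]
    show 1 * (x : G) * 1⁻¹ = x
    group
  have h1 := Equiv.Perm.card_fixedPoints_modEq hgp
  rw [← Nat.card_eq_fintype_card, ← Nat.card_eq_fintype_card] at h1
  have h2 : Nat.card (Function.fixedPoints g) = Nat.card (H ⊓ centralizer ({d} : Set G) : Subgroup G) := by
    refine Nat.card_congr
      { toFun := fun x => ⟨x.1.1, ?_⟩
        invFun := fun x => ⟨⟨x.1, (mem_inf.mp x.2).1⟩, ?_⟩
        left_inv := fun x => rfl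
        right_inv := fun x => rfl }
    · have h3 : d * x.1.1 * d⁻¹ = x.1.1 := congrArg Subtype.val x.2
      rw [mem_inf, mem_centralizer_singleton_iff]
      refine ⟨x.1.2, ?_⟩
      calc (x.1.1 : G) * d = (d * x.1.1 * d⁻¹) * d := by rw [h3]
        _ = d * x.1.1 := by group
    · have h3 := mem_centralizer_singleton_iff.mp (mem_inf.mp x.2).2
      apply Subtype.ext
      show d * x.1 * d⁻¹ = x.1
      rw [← h3]; group
  rw [h2] at h1
  exact h1

theorem orders_A5 : ∀ g : alternatingGroup (Fin 5), g ^ 2 = 1 ∨ g ^ 3 = 1 ∨ g ^ 5 = 1 := by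
  decide +kernel

variable {z u f : G} {U V H0 : Subgroup G}

theorem card_H0 (h : Fus z u) (F : Full z u f U V H0) : Nat.card H0 = 60 := by
  have h1 := Order.card_centralizer_u h
  rw [F.str.card] at h1
  omega

theorem isSimpleGroup_H0 (h : Fus z u) (F : Full z u f U V H0) : IsSimpleGroup H0 := by
  obtain ⟨e⟩ := Cent5.exists_equiv h F (card_H0 h F)
  exact e.isSimpleGroup

/-- An element normalising `V` normalises `H0`. -/
theorem conj_mem_H0 (h : Fus z u) (F : Full z u f U V H0) {d : G} (hd : ∀ v ∈ V, d * v * d⁻¹ ∈ V) {x : G}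
    (hx : x ∈ H0) : d * x * d⁻¹ ∈ H0 := by
  have h60 := card_H0 h F
  obtain ⟨e⟩ := Cent5.exists_equiv h F h60
  -- `d` normalises `C(u)`
  have hC : ∀ y ∈ centralizer ({u} : Set G), d * y * d⁻¹ ∈ centralizer ({u} : Set G) := by
    intro y hy
    obtain ⟨v, hv, hvu⟩ : ∃ v ∈ V, d * v * d⁻¹ = u := by
      have hmap : V.map (MulAut.conj d).toMonoidHom = V := by
        refine eq_of_le_of_card_ge ?_ ?_
        · rintro _ ⟨t, ht, rfl⟩
          exact hd t ht
        · rw [Subgroup.card_map_of_injective (MulAut.conj d).injective]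
      have h1 : u ∈ V.map (MulAut.conj d).toMonoidHom := by rw [hmap]; exact F.uV
      obtain ⟨v, hv, hvu⟩ := h1
      exact ⟨v, hv, hvu⟩
    have hv1 : v ≠ 1 := by
      rintro rfl
      have : u = 1 := by rw [← hvu]; group
      have h2 := h.hu
      rw [this, orderOf_one] at h2; norm_num at h2
    rw [← Cent5.centralizer_eq h F h60 hv hv1, mem_centralizer_singleton_iff] at hy
    rw [mem_centralizer_singleton_iff, ← hvu]
    calc d * y * d⁻¹ * (d * v * d⁻¹) = d * (y * v) * d⁻¹ := by group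
      _ = d * v * d⁻¹ * (d * y * d⁻¹) := by rw [hy]; group
  have hxC : x ∈ centralizer ({u} : Set G) := F.str.le hx
  have horder : x ^ 2 = 1 ∨ x ^ 3 = 1 ∨ x ^ 5 = 1 := by
    have h1 : ∀ n : ℕ, (e ⟨x, hx⟩) ^ n = 1 → x ^ n = 1 := by
      intro n hn
      rw [← map_pow] at hn
      have h2 : (⟨x, hx⟩ : H0) ^ n = 1 := e.injective (by rw [hn, map_one])
      exact congrArg Subtype.val h2
    rcases orders_A5 (e ⟨x, hx⟩) with h | h | h
    · exact Or.inl (h1 2 h)
    · exact Or.inr (Or.inl (h1 3 h))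
    · exact Or.inr (Or.inr (h1 5 h))
  have hsq : ∀ y ∈ centralizer ({u} : Set G), y * y = x → d * x * d⁻¹ ∈ H0 := by
    intro y hy hyx
    have h1 := F.str.sq_mem _ (hC y hy)
    have h2 : d * y * d⁻¹ * (d * y * d⁻¹) = d * x * d⁻¹ := by rw [← hyx]; group
    rw [← h2]; exact h1
  rcases horder with hx2 | hx3 | hx5
  · by_cases hx1 : x = 1
    · rw [hx1]; simp
    · have h2 : orderOf x = 2 := orderOf_eq_prime hx2 hx1
      have h3 := F.str.invol x hx h2
      refine F.str.z_mem _ (h3.trans (isConj_iff.mpr ⟨d, rfl⟩)) ?_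
      exact mem_centralizer_singleton_iff.mp (hC x hxC)
  · refine hsq (x ^ 2) ((centralizer ({u} : Set G)).pow_mem hxC 2) ?_
    rw [← pow_add, show 2 + 2 = 3 + 1 by norm_num, pow_add, hx3]; simp
  · refine hsq (x ^ 3) ((centralizer ({u} : Set G)).pow_mem hxC 3) ?_
    rw [← pow_add, show 3 + 3 = 5 + 1 by norm_num, pow_add, hx5]; simp

/-- There is an element of order 3 normalising `V` and centralising `H0`. -/
theorem exists_d (h : Fus z u) (F : Full z u f U V H0) :
    ∃ d : G, orderOf d = 3 ∧ (∀ v ∈ V, d * v * d⁻¹ ∈ V) ∧ ∀ x ∈ H0, d * x = x * d := by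
  haveI : Fact (Nat.Prime 5) := ⟨by norm_num⟩
  haveI : Fact (Nat.Prime 3) := ⟨by norm_num⟩
  have hG := Order.card_of_fus h
  have h60 := card_H0 h F
  obtain ⟨w, hw⟩ := exists_prime_orderOf_dvd_card' (G := H0) 5 (by rw [h60]; norm_num)
  have hw5 : orderOf (w : G) = 5 := by rw [orderOf_coe]; exact hw
  have hyp := Cent5.hyp_five h F h60 w.2 hw5
  have hC60 := Cent5.card_CQ_five h F h60 hG w.2 hw5
  have hN := hyp.card_normalizer_of_sixty hC60
  obtain ⟨y, hy⟩ := exists_prime_orderOf_dvd_card'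
    (G := normalizer ((im (w : G) V : Subgroup (CQ (w : G))) : Set (CQ (w : G)))) 3 (by rw [hN]; norm_num)
  have hy3 : orderOf (y : CQ (w : G)) = 3 := by rw [orderOf_coe]; exact hy
  have hyn := y.2
  generalize (y : CQ (w : G)) = yy at hy3 hyn
  obtain ⟨c, rfl⟩ := QuotientGroup.mk_surjective yy
  have hc3 : (c ^ 3 : centralizer ({(w : G)} : Set G)) ∈ cyc (w : G) := by
    rw [← QuotientGroup.eq_one_iff, QuotientGroup.mk_pow, ← hy3, pow_orderOf_eq_one]
  have hw5' : (w : G) ^ 5 = 1 := by rw [← hw5]; exact pow_orderOf_eq_one _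
  have hc15 : c ^ 15 = 1 := by
    rw [mem_cyc] at hc3
    obtain ⟨k, hk⟩ := mem_zpowers_iff.mp hc3
    apply Subtype.ext
    have h1 : ((c ^ 15 : centralizer ({(w : G)} : Set G)) : G) = (((c ^ 3 : centralizer ({(w : G)} : Set G)) : G)) ^ 5 := by
      rw [← Subgroup.coe_pow, ← pow_mul]
    rw [h1, ← hk, ← zpow_natCast, ← zpow_mul, mul_comm, zpow_mul]
    have : (w : G) ^ ((5 : ℕ) : ℤ) = 1 := by exact_mod_cast hw5'
    rw [this, one_zpow]; rfl
  set d' : centralizer ({(w : G)} : Set G) := c ^ 10 with hd'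
  have hd'3 : d' ^ 3 = 1 := by
    rw [hd', ← pow_mul, show 10 * 3 = 15 * 2 by norm_num, pow_mul, hc15, one_pow]
  have hmk : (d' : CQ (w : G)) = (c : CQ (w : G)) := by
    rw [hd', QuotientGroup.mk_pow, show 10 = 3 * 3 + 1 by norm_num, pow_add, pow_mul, ← hy3,
      pow_orderOf_eq_one, one_pow, one_mul, pow_one]
  have hd'1 : d' ≠ 1 := by
    intro h1
    rw [h1, QuotientGroup.mk_one] at hmk
    rw [← hmk, orderOf_one] at hy3; norm_num at hy3
  have hd3 : orderOf (d' : G) = 3 := by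
    rw [orderOf_coe]; exact orderOf_eq_prime hd'3 hd'1
  have hdw : (d' : G) * w = w * d' := mem_centralizer_singleton_iff.mp d'.2
  have hVd : ∀ v ∈ V, (d' : G) * v * (d' : G)⁻¹ ∈ V := by
    intro v hv
    have hvw : v * (w : G) = w * v := Cent5.V_comm h F h60 hv w.2
    let v' : centralizer ({(w : G)} : Set G) := ⟨v, mem_centralizer_singleton_iff.mpr hvw⟩
    have h1 : (v' : CQ (w : G)) ∈ im (w : G) V := mem_im.mpr ⟨v', hv, rfl⟩
    have h2 := (mem_normalizer_iff.mp hyn (v' : CQ (w : G))).mp h1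
    rw [← hmk] at h2
    obtain ⟨v2, hv2, h3⟩ := mem_im.mp h2
    have h4 : ((v2 : centralizer ({(w : G)} : Set G)) : CQ (w : G)) =
        ((d' * v' * d'⁻¹ : centralizer ({(w : G)} : Set G)) : CQ (w : G)) := h3
    rw [QuotientGroup.eq, mem_cyc] at h4
    have h5 : ((v2⁻¹ * (d' * v' * d'⁻¹) : centralizer ({(w : G)} : Set G)) : G) =
        (v2 : G)⁻¹ * ((d' : G) * v * (d' : G)⁻¹) := rfl
    rw [h5] at h4
    obtain ⟨k, hk⟩ := mem_zpowers_iff.mp h4
    have h6 : (d' : G) * v * (d' : G)⁻¹ = v2 * (w : G) ^ k := by rw [hk]; group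
    have hvv := Cent5.sq_V h F hv
    have hv2v2 := Cent5.sq_V h F hv2
    have hcomm : Commute (v2 : G) ((w : G) ^ k) :=
      (show Commute (v2 : G) (w : G) from Cent5.V_comm h F h60 hv2 w.2).zpow_right k
    have h7 : (w : G) ^ k * (w : G) ^ k = 1 := by
      have h8 : ((d' : G) * v * (d' : G)⁻¹) * ((d' : G) * v * (d' : G)⁻¹) = 1 := by
        calc ((d' : G) * v * (d' : G)⁻¹) * ((d' : G) * v * (d' : G)⁻¹) = (d' : G) * (v * v) * (d' : G)⁻¹ := by group
          _ = 1 := by rw [hvv]; group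
      rw [h6] at h8
      calc (w : G) ^ k * (w : G) ^ k = (v2 * v2 : G) * ((w : G) ^ k * (w : G) ^ k) := by rw [hv2v2, one_mul]
        _ = (v2 * (w : G) ^ k) * (v2 * (w : G) ^ k) := by
            rw [mul_assoc, mul_assoc, ← mul_assoc ((w : G) ^ k) (v2 : G), ← hcomm.eq, mul_assoc]
        _ = 1 := h8
    have h9 : (w : G) ^ k = 1 := eq_one_of_sq_of_mem_zpowers (p := 5) (by decide) hw5 h7 (zpow_mem_zpowers _ k)
    rw [h6, h9, mul_one]; exact hv2
  refine ⟨d', hd3, hVd, ?_⟩
  have hH0 : ∀ x ∈ H0, (d' : G) * x * (d' : G)⁻¹ ∈ H0 := fun x hx => conj_mem_H0 h F hVd hx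
  have hmod := card_centralizer_modEq (p := 3) H0 hd3 hH0
  rw [h60] at hmod
  have h3 : 3 ∣ Nat.card (H0 ⊓ centralizer ({(d' : G)} : Set G) : Subgroup G) := by
    have : Nat.card (H0 ⊓ centralizer ({(d' : G)} : Set G) : Subgroup G) % 3 = 0 := hmod.symm
    omega
  have h5 : 5 ∣ Nat.card (H0 ⊓ centralizer ({(d' : G)} : Set G) : Subgroup G) := by
    rw [← hw5, ← Nat.card_zpowers]
    apply card_dvd_of_le
    rw [zpowers_le, mem_inf, mem_centralizer_singleton_iff]
    exact ⟨w.2, hdw.symm⟩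
  have h15 : 15 ∣ Nat.card (H0 ⊓ centralizer ({(d' : G)} : Set G) : Subgroup G) := by
    have : Nat.lcm 3 5 ∣ Nat.card (H0 ⊓ centralizer ({(d' : G)} : Set G) : Subgroup G) := Nat.lcm_dvd h3 h5
    exact this
  haveI := isSimpleGroup_H0 h F
  have htop := eq_top_of_fifteen h60 ((H0 ⊓ centralizer ({(d' : G)} : Set G)).subgroupOf H0)
    (by rw [Nat.card_congr (subgroupOfEquivOfLe inf_le_left).toEquiv]; exact h15)
  intro x hx
  have h1 : (⟨x, hx⟩ : H0) ∈ (H0 ⊓ centralizer ({(d' : G)} : Set G)).subgroupOf H0 := by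
    rw [htop]; exact mem_top _
  rw [mem_subgroupOf, mem_inf, mem_centralizer_singleton_iff] at h1
  exact h1.2.symm

end Cfsg.Agent.J2Type.ThreeA
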