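import Mathlib
import Cfsg.Agent.J2Type.ThreeA
import Cfsg.Agent.J2Type.InvTwo
import Cfsg.Agent.J2Type.FiveFus

/-!
Centralisers of elements of order 3 in a group of Hall-Janko type: orders 1080 and 36.
-/

set_option autoImplicit false
set_option linter.style.haveILetI false

namespace Cfsg.Agent.J2Type.ThreeB

open Subgroup Cfsg.Agent.J2Type.Base Cfsg.Agent.J2Type.HStr Cfsg.Agent.J2Type.CentU
  Cfsg.Agent.J2Type.FourSelfCent Cfsg.Agent.J2Type.SylowSeven Cfsg.Agent.J2Type.CentQuot
  Cfsg.Agent.J2Type.A5Facts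

variable {G : Type*} [Group G] [Finite G] {z u f : G} {U V H0 : Subgroup G}

omit [Finite G] in
theorem cube_of_orderOf {c : G} (hc : orderOf c = 3) : c ^ 3 = 1 := by
  rw [← hc]; exact pow_orderOf_eq_one c

omit [Finite G] in
/-- Conjugation invariance of `|C(t) ∩ C(d)|`. -/
theorem card_inf_conj (g t d : G) :
    Nat.card (centralizer ({g * t * g⁻¹} : Set G) ⊓ centralizer ({g * d * g⁻¹} : Set G) : Subgroup G) =
      Nat.card (centralizer ({t} : Set G) ⊓ centralizer ({d} : Set G) : Subgroup G) := by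
  have key : ∀ (y s : G), (g * y * g⁻¹) * (g * s * g⁻¹) = (g * s * g⁻¹) * (g * y * g⁻¹) ↔ y * s = s * y := by
    intro y s
    constructor
    · intro h
      calc y * s = g⁻¹ * (g * y * g⁻¹ * (g * s * g⁻¹)) * g := by group
        _ = s * y := by rw [h]; group
    · intro h
      calc g * y * g⁻¹ * (g * s * g⁻¹) = g * (y * s) * g⁻¹ := by group
        _ = g * s * g⁻¹ * (g * y * g⁻¹) := by rw [h]; group
  refine (Nat.card_congr ((MulAut.conj g).toEquiv.subtypeEquiv ?_)).symm
  intro y
  show y ∈ centralizer ({t} : Set G) ⊓ centralizer ({d} : Set G) ↔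
    g * y * g⁻¹ ∈ centralizer ({g * t * g⁻¹} : Set G) ⊓ centralizer ({g * d * g⁻¹} : Set G)
  rw [mem_inf, mem_inf, mem_centralizer_singleton_iff, mem_centralizer_singleton_iff,
    mem_centralizer_singleton_iff, mem_centralizer_singleton_iff, key, key]

/-- The order of `C(u) ∩ C(c)` for `c` of order 3. -/
theorem card_le_twelve (h : Fus z u) (F : Full z u f U V H0) {c : G} (hc : orderOf c = 3)
    (hcu : c * u = u * c) :
    Nat.card (centralizer ({u} : Set G) ⊓ centralizer ({c} : Set G) : Subgroup G) ≤ 12 := by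
  have h60 := ThreeA.card_H0 h F
  obtain ⟨e⟩ := Cent5.exists_equiv h F h60
  have hc3 := cube_of_orderOf hc
  have hcH : c ∈ H0 := by
    have h1 := F.str.sq_mem (c ^ 2) ((centralizer ({u} : Set G)).pow_mem
      (mem_centralizer_singleton_iff.mpr hcu) 2)
    rw [← pow_add, show 2 + 2 = 3 + 1 by norm_num, pow_add, hc3] at h1
    simpa using h1
  let φ : V × Fin 3 → G := fun p => p.1 * c ^ (p.2 : ℕ)
  have hsub : ((centralizer ({u} : Set G) ⊓ centralizer ({c} : Set G) : Subgroup G) : Set G) ⊆ Set.range φ := by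
    intro x hx
    rw [SetLike.mem_coe, mem_inf] at hx
    obtain ⟨a, ha, b, hb, rfl⟩ := Cent5.exists_mul F hx.1
    have hxc := mem_centralizer_singleton_iff.mp hx.2
    have hbc : b * c = c * b := by
      have h1 : a * (b * c) = a * (c * b) := by
        calc a * (b * c) = a * b * c := by group
          _ = c * (a * b) := hxc
          _ = c * a * b := by group
          _ = a * (c * b) := by rw [← Cent5.V_comm h F h60 ha hcH]; group
      exact mul_left_cancel h1
    have hc' : orderOf (⟨c, hcH⟩ : H0) = 3 := by rw [← orderOf_coe]; exact hc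
    rcases Cent5.mem_zpowers_of_comm3 e (g := (⟨c, hcH⟩ : H0)) (x := ⟨b, hb⟩) hc' (Subtype.ext hbc)
      with h1 | h1 | h1
    · refine ⟨(⟨a, ha⟩, 0), ?_⟩
      have : b = 1 := congrArg Subtype.val h1
      show a * c ^ 0 = a * b
      rw [this, pow_zero]
    · refine ⟨(⟨a, ha⟩, 1), ?_⟩
      have : b = c := congrArg Subtype.val h1
      show a * c ^ 1 = a * b
      rw [this, pow_one]
    · refine ⟨(⟨a, ha⟩, 2), ?_⟩
      have : b = c ^ 2 := congrArg Subtype.val h1
      show a * c ^ 2 = a * b
      rw [this]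
  have h1 : Nat.card (centralizer ({u} : Set G) ⊓ centralizer ({c} : Set G) : Subgroup G) ≤
      Nat.card (Set.range φ) := by
    exact Nat.card_mono (Set.finite_range φ) hsub
  have h2 : Nat.card (Set.range φ) ≤ Nat.card (V × Fin 3) := Finite.card_range_le φ
  have h3 : Nat.card (V × Fin 3) = 12 := by
    rw [Nat.card_prod, F.cardV, Nat.card_eq_fintype_card (α := Fin 3), Fintype.card_fin]
  rw [h3] at h2
  exact h1.trans h2

/-- Elements of order 3 have centralisers of order not divisible by 16. -/
theorem not_sixteen_dvd (h : Fus z u) (F : Full z u f U V H0) {d : G} (hd : orderOf d = 3) :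
    ¬ 16 ∣ Nat.card (centralizer ({d} : Set G)) := by
  intro h16
  haveI : Fact (Nat.Prime 2) := ⟨by norm_num⟩
  obtain ⟨T⟩ : Nonempty (Sylow 2 (centralizer ({d} : Set G))) := inferInstance
  have hT : 2 ^ 4 ∣ Nat.card (T : Subgroup (centralizer ({d} : Set G))) :=
    T.pow_dvd_card_of_pow_dvd_card (by simpa using h16)
  have hT1 : Nontrivial (T : Subgroup (centralizer ({d} : Set G))) := by
    rw [← Finite.one_lt_card_iff_nontrivial]
    have := Nat.le_of_dvd Nat.card_pos hT
    norm_num at this; omega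
  haveI := hT1
  have hcenter : Nontrivial (center (T : Subgroup (centralizer ({d} : Set G)))) := T.isPGroup'.center_nontrivial
  -- an involution in the centre
  have hdvd : 2 ∣ Nat.card (center (T : Subgroup (centralizer ({d} : Set G)))) := by
    have hp : IsPGroup 2 (center (T : Subgroup (centralizer ({d} : Set G)))) := T.isPGroup'.to_subgroup _
    rcases hp.card_eq_or_dvd with h1 | h1
    · exfalso
      rw [Nat.card_eq_one_iff_unique] at h1
      exact (not_subsingleton_iff_nontrivial.mpr hcenter) h1.1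
    · exact h1
  obtain ⟨t, ht⟩ := exists_prime_orderOf_dvd_card' 2 hdvd
  set t' : G := (((t : (T : Subgroup (centralizer ({d} : Set G)))) : centralizer ({d} : Set G)) : G) with ht'
  have ht2 : orderOf t' = 2 := by
    rw [ht', orderOf_coe, orderOf_coe, orderOf_coe]; exact ht
  have htd : t' * d = d * t' :=
    mem_centralizer_singleton_iff.mp ((t : (T : Subgroup (centralizer ({d} : Set G)))) : centralizer ({d} : Set G)).2
  -- `T` embeds in `C(t') ∩ C(d)`
  have hdvd16 : 2 ^ 4 ∣ Nat.card (centralizer ({t'} : Set G) ⊓ centralizer ({d} : Set G) : Subgroup G) := by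
    refine hT.trans ?_
    let φ : (T : Subgroup (centralizer ({d} : Set G))) →*
        (centralizer ({t'} : Set G) ⊓ centralizer ({d} : Set G) : Subgroup G) :=
      { toFun := fun x => ⟨x.1.1, by
          rw [mem_inf, mem_centralizer_singleton_iff]
          refine ⟨?_, x.1.2⟩
          have h1 := (mem_center_iff.mp t.2) x
          have h2 := congrArg Subtype.val h1
          exact congrArg Subtype.val h2⟩
        map_one' := rfl
        map_mul' := fun _ _ => rfl }
    refine Subgroup.card_dvd_of_injective φ ?_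
    intro x y hxy
    have h1 : (φ x : G) = (φ y : G) := by rw [hxy]
    exact Subtype.ext (Subtype.ext h1)
  rcases h.cover t' ht2 with h1 | h1
  · obtain ⟨g, hg⟩ := isConj_iff.mp h1
    have h2 := card_inf_conj g z (g⁻¹ * d * g)
    have h3 : g * (g⁻¹ * d * g) * g⁻¹ = d := by group
    rw [hg, h3] at h2
    have h4 : orderOf (g⁻¹ * d * g) = 3 := by
      rw [show g⁻¹ * d * g = MulAut.conj g⁻¹ d by simp, MulEquiv.orderOf_eq]; exact hd
    have h5 : (g⁻¹ * d * g) * z = z * (g⁻¹ * d * g) := by
      calc (g⁻¹ * d * g) * z = g⁻¹ * (d * (g * z * g⁻¹)) * g := by group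
        _ = g⁻¹ * ((g * z * g⁻¹) * d) * g := by rw [hg, htd]
        _ = z * (g⁻¹ * d * g) := by group
    rw [h2, h.card24 _ h4 h5] at hdvd16
    norm_num at hdvd16
  · obtain ⟨g, hg⟩ := isConj_iff.mp h1
    have h2 := card_inf_conj g u (g⁻¹ * d * g)
    have h3 : g * (g⁻¹ * d * g) * g⁻¹ = d := by group
    rw [hg, h3] at h2
    have h4 : orderOf (g⁻¹ * d * g) = 3 := by
      rw [show g⁻¹ * d * g = MulAut.conj g⁻¹ d by simp, MulEquiv.orderOf_eq]; exact hd
    have h5 : (g⁻¹ * d * g) * u = u * (g⁻¹ * d * g) := by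
      calc (g⁻¹ * d * g) * u = g⁻¹ * (d * (g * u * g⁻¹)) * g := by group
        _ = g⁻¹ * ((g * u * g⁻¹) * d) * g := by rw [hg, htd]
        _ = u * (g⁻¹ * d * g) := by group
    have h6 := card_le_twelve h F h4 h5
    rw [h2] at hdvd16
    exact absurd ((Nat.le_of_dvd Nat.card_pos hdvd16).trans h6) (by norm_num)

end Cfsg.Agent.J2Type.ThreeB
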