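import Mathlib
import Cfsg.Agent.J2Type.ThreeB

/-!
Centralisers of elements of order 3 in a group of Hall-Janko type: the orders 1080 and 36.
-/

set_option autoImplicit false
set_option linter.style.haveILetI false

namespace Cfsg.Agent.J2Type.ThreeC

open Subgroup Cfsg.Agent.J2Type.Base Cfsg.Agent.J2Type.HStr Cfsg.Agent.J2Type.CentU
  Cfsg.Agent.J2Type.FourSelfCent Cfsg.Agent.J2Type.SylowSeven Cfsg.Agent.J2Type.CentQuot
  Cfsg.Agent.J2Type.A5Facts Cfsg.Agent.J2Type.SylowFive

section general

variable {G : Type*} [Group G] [Finite G]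

/-- The elements of order 5, in explicit form. -/
theorem five_data (hG : Nat.card G = 604800) {w' w : G} (hw' : Good w')
    (hw : orderOf w = 5) (hreal : IsConj w w⁻¹)
    (h4 : ¬ 4 ∣ Nat.card (centralizer ({w} : Set G))) :
    (¬ IsConj w' (w' ^ 2)) ∧ ∀ y : G, orderOf y = 5 →
      IsConj w' y ∨ IsConj (w' ^ 2) y ∨ IsConj w y ∨ IsConj (w ^ 2) y := by
  haveI : Fact (Nat.Prime 5) := ⟨by norm_num⟩
  obtain ⟨P⟩ : Nonempty (Sylow 5 G) := inferInstance
  obtain ⟨a, ha⟩ := exists_conj_mem_sylow P (y := w') (n := 1) (by rw [hw'.1]; norm_num)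
  obtain ⟨b, hb⟩ := exists_conj_mem_sylow P (y := w) (n := 1) (by rw [hw]; norm_num)
  have hw'2 := hw'.conj a
  have hwa : IsConj w' (a * w' * a⁻¹) := isConj_iff.mpr ⟨a, rfl⟩
  have hwb : IsConj w (b * w * b⁻¹) := isConj_iff.mpr ⟨b, rfl⟩
  have hwb5 : orderOf (b * w * b⁻¹) = 5 := by rw [← orderOf_eq_of_isConj hwb]; exact hw
  have hrealb : IsConj (b * w * b⁻¹) (b * w * b⁻¹)⁻¹ := by
    have h2 : IsConj w⁻¹ (b * w * b⁻¹)⁻¹ := isConj_iff.mpr ⟨b, by group⟩
    exact hwb.symm.trans (hreal.trans h2)
  have h4b : ¬ 4 ∣ Nat.card (centralizer ({b * w * b⁻¹} : Set G)) := by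
    rw [← Cent5.card_centralizer_of_isConj hwb]; exact h4
  obtain ⟨hCP, h300, hU⟩ := sylow_five_aux hG hw'2 ha hwb5 hb hrealb h4b
  constructor
  · intro hc
    have h50 := (hw'2.key hG ha).2
    have hO := card_O hG ha
    rw [h50, h300] at hO
    have hO6 : Nat.card (O P (a * w' * a⁻¹)) = 6 := by omega
    have h1 : IsConj (a * w' * a⁻¹) ((a * w' * a⁻¹) ^ 2) :=
      hwa.symm.trans (hc.trans (hwa.pow 2))
    have h2 : T P (a * w' * a⁻¹) = O P (a * w' * a⁻¹) := by
      unfold T
      apply Set.union_eq_self_of_subset_right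
      intro y hy
      exact ⟨hy.1, h1.trans hy.2⟩
    have h3 := four_dvd_card_T (P := P) hw'2.1 hw'2.2.1
    rw [h2, hO6] at h3
    norm_num at h3
  · intro y hy5
    obtain ⟨g, hg⟩ := exists_conj_mem_sylow P (y := y) (n := 1) (by rw [hy5]; norm_num)
    have hyg : IsConj y (g * y * g⁻¹) := isConj_iff.mpr ⟨g, rfl⟩
    have hmem : g * y * g⁻¹ ∈ T P (a * w' * a⁻¹) ∪ T P (b * w * b⁻¹) := by
      rw [hU]
      refine ⟨hg, ?_⟩
      intro h
      have h1 : g * y * g⁻¹ = 1 := h
      rw [orderOf_eq_of_isConj hyg, h1, orderOf_one] at hy5; norm_num at hy5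
    rcases hmem with (⟨-, h⟩ | ⟨-, h⟩) | (⟨-, h⟩ | ⟨-, h⟩)
    · left; exact hwa.trans (h.trans hyg.symm)
    · right; left; exact (hwa.pow 2).trans (h.trans hyg.symm)
    · right; right; left; exact hwb.trans (h.trans hyg.symm)
    · right; right; right; exact (hwb.pow 2).trans (h.trans hyg.symm)

/-- `|C(w) ∩ C(d)| = 15`. -/
theorem card_inf_fifteen {w d : G} (e : CQ w ≃* alternatingGroup (Fin 5)) (hw : orderOf w = 5)
    (hd : orderOf d = 3) (hdw : d * w = w * d) :
    Nat.card (centralizer ({w} : Set G) ⊓ centralizer ({d} : Set G) : Subgroup G) = 15 := by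
  have hdC : d ∈ centralizer ({w} : Set G) := mem_centralizer_singleton_iff.mpr hdw
  let dC : centralizer ({w} : Set G) := ⟨d, hdC⟩
  have hne : (dC : CQ w) ≠ 1 := by
    intro h1
    rw [CentQuot.mk_eq_one] at h1
    have h2 : orderOf d ∣ orderOf w := orderOf_dvd_of_mem_zpowers h1
    rw [hd, hw] at h2
    norm_num at h2
  haveI : Fact (Nat.Prime 3) := ⟨by norm_num⟩
  have h3 : orderOf (dC : CQ w) = 3 := by
    refine orderOf_eq_prime ?_ hne
    have : dC ^ 3 = 1 := Subtype.ext (ThreeB.cube_of_orderOf hd)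
    rw [← QuotientGroup.mk_pow, this]; rfl
  have h15 : Nat.card ((zpowers (dC : CQ w)).comap (QuotientGroup.mk' (cyc w))) = 15 := by
    rw [card_comap_mk', Nat.card_zpowers, h3, card_cyc, hw]
  have heq : (centralizer ({d} : Set G)).subgroupOf (centralizer ({w} : Set G)) =
      (zpowers (dC : CQ w)).comap (QuotientGroup.mk' (cyc w)) := by
    ext x
    rw [mem_subgroupOf, mem_comap, mem_centralizer_singleton_iff]
    constructor
    · intro hx
      have hx' : x * dC = dC * x := Subtype.ext hx
      have hx2 : (x : CQ w) * (dC : CQ w) = (dC : CQ w) * (x : CQ w) := by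
        rw [← QuotientGroup.mk_mul, hx', QuotientGroup.mk_mul]
      rcases Cent5.mem_zpowers_of_comm3 e h3 hx2 with h | h | h
      · show (x : CQ w) ∈ _
        rw [h]; exact one_mem _
      · show (x : CQ w) ∈ _
        rw [h]; exact mem_zpowers _
      · show (x : CQ w) ∈ _
        rw [h]; exact npow_mem_zpowers _ 2
    · intro hx
      obtain ⟨k, hk⟩ := mem_zpowers_iff.mp hx
      have hk' : ((dC ^ k : centralizer ({w} : Set G)) : CQ w) = (x : CQ w) := by
        rw [QuotientGroup.mk_zpow]; exact hk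
      rw [QuotientGroup.eq, mem_cyc] at hk'
      obtain ⟨m, hm⟩ := mem_zpowers_iff.mp hk'
      have h1 : (x : G) = d ^ k * w ^ m := by
        rw [hm]
        show (x : G) = d ^ k * ((d ^ k)⁻¹ * x)
        group
      rw [h1]
      have hc1 : Commute (d ^ k) d := (Commute.refl d).zpow_left k
      have hc2 : Commute (w ^ m) d := (show Commute w d from hdw.symm).zpow_left m
      exact (hc1.mul_left hc2).eq
  have h2 : Nat.card (((centralizer ({d} : Set G)).subgroupOf (centralizer ({w} : Set G))).map
      (centralizer ({w} : Set G)).subtype) =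
      Nat.card (centralizer ({d} : Set G) ⊓ centralizer ({w} : Set G) : Subgroup G) := by
    rw [subgroupOf_map_subtype]
  rw [inf_comm, ← h2, card_map_of_injective (subtype_injective _), heq, h15]

theorem numerics1080 : ∀ n ∈ Nat.divisors 20160, n % 5 = 1 → 24 ∣ 30 * n → ¬ 16 ∣ 30 * n → n = 36 := by
  decide +kernel

/-- The order of `C(d)`. -/
theorem card_eq_1080 (hG : Nat.card G = 604800) {w d : G}
    (hCP : ∀ P : Sylow 5 G, centralizer ((P : Subgroup G) : Set G) = P)
    (e : CQ w ≃* alternatingGroup (Fin 5)) (hw : orderOf w = 5)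
    (hnc : ¬ IsConj w (w ^ 2)) (hd : orderOf d = 3) (hdw : d * w = w * d)
    (hinv : ∃ t : G, t * d = d * t ∧ t * w * t⁻¹ = w⁻¹)
    (h24 : 24 ∣ Nat.card (centralizer ({d} : Set G)))
    (h16 : ¬ 16 ∣ Nat.card (centralizer ({d} : Set G))) :
    Nat.card (centralizer ({d} : Set G)) = 1080 := by
  haveI : Fact (Nat.Prime 5) := ⟨by norm_num⟩
  have h15 := card_inf_fifteen e hw hd hdw
  have hwC : w ∈ centralizer ({d} : Set G) := mem_centralizer_singleton_iff.mpr hdw.symm
  set C := centralizer ({d} : Set G) with hC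
  let w' : C := ⟨w, hwC⟩
  have hw' : orderOf w' = 5 := by rw [← orderOf_coe]; exact hw
  have hCG : Nat.card C ∣ 604800 := by rw [← hG]; exact card_subgroup_dvd_card C
  -- 25 does not divide the order
  have h25 : ¬ 25 ∣ Nat.card C := by
    intro h25
    obtain ⟨K, hK⟩ := Sylow.exists_subgroup_card_pow_prime 5 (n := 2) (G := C) (by simpa using h25)
    have hK' : Nat.card (K.map C.subtype) = 25 := by
      rw [card_map_of_injective (subtype_injective _), hK]; norm_num
    have hKp : IsPGroup 5 (K.map C.subtype) := by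
      rw [IsPGroup.iff_card]; exact ⟨2, by rw [hK']; norm_num⟩
    obtain ⟨P, hP⟩ := hKp.exists_le_sylow
    have hPc := card_sylow_five hG P
    have heq : K.map C.subtype = (P : Subgroup G) := eq_of_le_of_card_ge hP (by rw [hPc, hK'])
    have hdP : d ∈ (P : Subgroup G) := by
      rw [← hCP P, ← heq, mem_centralizer_iff]
      rintro _ ⟨k, -, rfl⟩
      exact mem_centralizer_singleton_iff.mp k.2
    have h1 := orderOf_dvd_natCard (⟨d, hdP⟩ : (P : Subgroup G))
    rw [hPc, ← orderOf_coe] at h1
    change orderOf d ∣ 25 at h1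
    rw [hd] at h1
    norm_num at h1
  have h5 : 5 ∣ Nat.card C := by
    have := orderOf_dvd_natCard w'
    rwa [hw'] at this
  obtain ⟨m, hm⟩ := h5
  have hm5 : ¬ 5 ∣ m := by
    rintro ⟨k, rfl⟩
    apply h25
    exact ⟨k, by rw [hm]; ring⟩
  have hzp : IsPGroup 5 (zpowers w') := by
    rw [IsPGroup.iff_card]; exact ⟨1, by rw [Nat.card_zpowers, hw']; norm_num⟩
  obtain ⟨S, hS⟩ := hzp.exists_le_sylow
  have hScard : Nat.card (S : Subgroup C) = 5 := by
    have := card_sylow S 1 m (by rw [hm]; ring) hm5
    simpa using this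
  have hSeq : zpowers w' = (S : Subgroup C) :=
    eq_of_le_of_card_ge hS (by rw [hScard, Nat.card_zpowers, hw'])
  have hmod : Nat.card (Sylow 5 C) ≡ 1 [MOD 5] := card_sylow_modEq_one 5 C
  have hidx : Nat.card (Sylow 5 C) = (normalizer ((S : Subgroup C) : Set C)).index :=
    S.card_eq_index_normalizer
  -- the normaliser has order 30
  have hN30 : Nat.card (normalizer ((S : Subgroup C) : Set C)) = 30 := by
    rw [← hSeq]
    have h1 := card_orbit (normalizer ((zpowers w' : Subgroup C) : Set C)) w'
    have hle : centralizer ({w'} : Set C) ≤ normalizer ((zpowers w' : Subgroup C) : Set C) := by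
      intro x hx
      rw [mem_centralizer_singleton_iff] at hx
      refine centralizer_le_normalizer' _ ?_
      rw [mem_centralizer_iff]
      intro y hy
      obtain ⟨k, rfl⟩ := mem_zpowers_iff.mp hy
      exact ((show Commute x w' from hx).zpow_right k).symm.eq
    rw [inf_eq_right.mpr hle] at h1
    have h2 : Nat.card (centralizer ({w'} : Set C)) = 15 := by
      rw [← h15]
      have h3 : (centralizer ({w} : Set G)).subgroupOf C = centralizer ({w'} : Set C) := by
        ext x
        rw [mem_subgroupOf, mem_centralizer_singleton_iff, mem_centralizer_singleton_iff]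
        constructor
        · intro hx; exact Subtype.ext hx
        · intro hx; exact congrArg Subtype.val hx
      rw [← h3, ← subgroupOf_map_subtype, card_map_of_injective (subtype_injective _)]
    have h3 : {y : C | ∃ n ∈ normalizer ((zpowers w' : Subgroup C) : Set C), n * w' * n⁻¹ = y} =
        {w', w'⁻¹} := by
      ext y
      rw [Set.mem_ofPred_eq, Set.mem_insert_iff, Set.mem_singleton_iff]
      constructor
      · rintro ⟨n, hn, rfl⟩
        have h4 := (mem_normalizer_iff.mp hn w').mp (mem_zpowers w')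
        have hreal : IsConj w w⁻¹ := by
          obtain ⟨t, -, ht⟩ := hinv
          exact isConj_iff.mpr ⟨t, ht⟩
        have hinv4 : w⁻¹ = w ^ 4 := by
          rw [inv_eq_iff_mul_eq_one, ← pow_succ']; exact pow_five hw
        have hcn : IsConj w ((n * w' * n⁻¹ : C) : G) := isConj_iff.mpr ⟨n, rfl⟩
        rcases (mem_zpowers_iff5 hw' _).mp h4 with h5 | h5 | h5 | h5 | h5
        · exfalso
          have h6 : w' = 1 := by
            calc w' = n⁻¹ * (n * w' * n⁻¹) * n := by group
              _ = 1 := by rw [h5]; group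
          rw [h6, orderOf_one] at hw'; norm_num at hw'
        · left; exact h5
        · exfalso
          rw [h5] at hcn
          exact hnc hcn
        · exfalso
          rw [h5] at hcn
          apply hnc
          have h6 : IsConj w⁻¹ ((w ^ 3)⁻¹) := by
            obtain ⟨c, hc⟩ := isConj_iff.mp hcn
            refine isConj_iff.mpr ⟨c, ?_⟩
            have hc' : c * w * c⁻¹ = w ^ 3 := hc
            rw [← hc']; group
          have h7 : (w ^ 3)⁻¹ = w ^ 2 := by
            rw [inv_eq_iff_mul_eq_one, ← pow_add]; exact pow_five hw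
          rw [h7] at h6
          exact hreal.trans h6
        · right
          rw [h5, eq_comm, inv_eq_iff_mul_eq_one, ← pow_succ']
          exact pow_five hw'
      · rintro (rfl | rfl)
        · exact ⟨1, one_mem _, by group⟩
        · obtain ⟨t, htd, ht⟩ := hinv
          have htC : t ∈ C := mem_centralizer_singleton_iff.mpr htd
          have ht' : (⟨t, htC⟩ : C) * w' * (⟨t, htC⟩ : C)⁻¹ = w'⁻¹ := Subtype.ext ht
          refine ⟨⟨t, htC⟩, ?_, ht'⟩
          have h4 : (zpowers w').map (MulAut.conj (⟨t, htC⟩ : C)).toMonoidHom = zpowers w' := by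
            rw [MonoidHom.map_zpowers]
            show zpowers ((⟨t, htC⟩ : C) * w' * (⟨t, htC⟩ : C)⁻¹) = zpowers w'
            rw [ht', zpowers_inv]
          rw [mem_normalizer_iff]
          intro y
          constructor
          · intro hy
            have h5 : (MulAut.conj (⟨t, htC⟩ : C)).toMonoidHom y ∈
              (zpowers w').map (MulAut.conj (⟨t, htC⟩ : C)).toMonoidHom := mem_map_of_mem _ hy
            rw [h4] at h5
            exact h5
          · intro hy
            rw [← h4] at hy
            obtain ⟨y', hy', h5⟩ := hy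
            have h6 : y' = y := (MulAut.conj (⟨t, htC⟩ : C)).injective h5
            rw [← h6]; exact hy'
    have h4 : Nat.card {y : C // ∃ n ∈ normalizer ((zpowers w' : Subgroup C) : Set C), n * w' * n⁻¹ = y} = 2 := by
      show Nat.card ({y : C | ∃ n ∈ normalizer ((zpowers w' : Subgroup C) : Set C), n * w' * n⁻¹ = y} : Set C) = 2
      rw [h3, Nat.card_coe_set_eq]
      apply Set.ncard_pair
      intro h5
      have h6 : w' ^ 2 = 1 := by rw [pow_two]; nth_rewrite 1 [h5]; group
      have h7 := orderOf_dvd_of_pow_eq_one h6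
      rw [hw'] at h7; norm_num at h7
    rw [h4, h2] at h1
    omega
  have hNC := (normalizer ((S : Subgroup C) : Set C)).card_mul_index
  rw [hN30, ← hidx] at hNC
  have hn5 : Nat.card (Sylow 5 C) % 5 = 1 := hmod
  have hnd : Nat.card (Sylow 5 C) ∈ Nat.divisors 20160 := by
    rw [Nat.mem_divisors]
    refine ⟨?_, by norm_num⟩
    rw [← hNC] at hCG
    rw [show 604800 = 30 * 20160 by norm_num] at hCG
    exact Nat.dvd_of_mul_dvd_mul_left (by norm_num) hCG
  rw [← hNC] at h24 h16
  have := numerics1080 _ hnd hn5 h24 h16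
  rw [← hNC, this]

end general

end Cfsg.Agent.J2Type.ThreeC
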