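import Mathlib
import Cfsg.Agent.J2Type.ThreeC

/-!
Centralisers of elements of order 3 in a group of Hall-Janko type: `|C(d)| = 1080`, `|C(f)| = 36`.
-/

set_option autoImplicit false
set_option linter.style.haveILetI false

namespace Cfsg.Agent.J2Type.ThreeD

open Subgroup Cfsg.Agent.J2Type.Base Cfsg.Agent.J2Type.HStr Cfsg.Agent.J2Type.CentU
  Cfsg.Agent.J2Type.FourSelfCent Cfsg.Agent.J2Type.SylowSeven Cfsg.Agent.J2Type.CentQuot
  Cfsg.Agent.J2Type.A5Facts Cfsg.Agent.J2Type.SylowFive

variable {G : Type*} [Group G] [Finite G] {z u f : G} {U V H0 : Subgroup G}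

/-- Existence of elements of order 5 in `C(z)`. -/
theorem exists_w0 (h : Fus z u) : ∃ w0 : G, orderOf w0 = 5 ∧ w0 * z = z * w0 := by
  haveI : Fact (Nat.Prime 5) := ⟨by norm_num⟩
  obtain ⟨w, hw⟩ := exists_prime_orderOf_dvd_card' (G := centralizer ({z} : Set G)) 5
    (by rw [h.cardC]; norm_num)
  exact ⟨w, by rw [orderOf_coe]; exact hw, mem_centralizer_singleton_iff.mp w.2⟩

/-- `C(w0)` has order prime to 3 for elements of order 5 of `C(z)`. -/
theorem not_three_dvd (h : Fus z u) {w0 : G} (hw0 : orderOf w0 = 5) (hwz : w0 * z = z * w0) :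
    ¬ 3 ∣ Nat.card (centralizer ({w0} : Set G)) := by
  intro h3
  haveI : Fact (Nat.Prime 3) := ⟨by norm_num⟩
  haveI : Fact (Nat.Prime 5) := ⟨by norm_num⟩
  have hG := Order.card_of_fus h
  have hzz : z * z = 1 := by rw [← pow_two, ← h.hz]; exact pow_orderOf_eq_one z
  have hzC : z ∈ centralizer ({w0} : Set G) := mem_centralizer_singleton_iff.mpr hwz.symm
  let zC : centralizer ({w0} : Set G) := ⟨z, hzC⟩
  have hw5 : w0 ^ 5 = 1 := pow_five hw0
  -- the centraliser of the image of `z` in `C(w0)/⟨w0⟩`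
  have hc : ∀ x : CQ w0, x * (zC : CQ w0) = (zC : CQ w0) * x → x = 1 ∨ x = (zC : CQ w0) := by
    intro x
    induction x using QuotientGroup.induction_on with
    | H x =>
      intro hx
      rw [← QuotientGroup.mk_mul, ← QuotientGroup.mk_mul, QuotientGroup.eq, mem_cyc] at hx
      obtain ⟨k, hk⟩ := mem_zpowers_iff.mp hx
      have hxw : (x : G) * w0 = w0 * x := mem_centralizer_singleton_iff.mp x.2
      -- `z x = x z w0^k`
      have h1 : z * x = x * z * w0 ^ k := by
        rw [hk]
        show z * x = x * z * ((x * z)⁻¹ * (z * x))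
        group
      have hczw : Commute z (w0 ^ k) := (show Commute w0 z from hwz).symm.zpow_right k
      have hcxw : Commute (x : G) (w0 ^ k) := (show Commute (x : G) w0 from hxw).zpow_right k
      have h2 : w0 ^ k * w0 ^ k = 1 := by
        have h3 : z * (z * x) = x * w0 ^ k * w0 ^ k := by
          calc z * (z * x) = z * (x * z * w0 ^ k) := by rw [h1]
            _ = (z * x) * z * w0 ^ k := by group
            _ = x * z * w0 ^ k * z * w0 ^ k := by rw [h1]
            _ = x * z * (w0 ^ k * z) * w0 ^ k := by group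
            _ = x * z * (z * w0 ^ k) * w0 ^ k := by rw [hczw.eq]
            _ = x * (z * z) * w0 ^ k * w0 ^ k := by group
            _ = x * w0 ^ k * w0 ^ k := by rw [hzz, mul_one]
        rw [← mul_assoc, hzz, one_mul] at h3
        have h4 : (x : G) * 1 = x * (w0 ^ k * w0 ^ k) := by rw [mul_one, ← mul_assoc]; exact h3
        exact (mul_left_cancel h4).symm
      have h3 : w0 ^ k = 1 :=
        eq_one_of_sq_of_mem_zpowers (p := 5) (by decide) hw0 h2 (zpow_mem_zpowers w0 k)
      rw [h3, mul_one] at h1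
      -- `x ∈ C(z) ∩ C(w0) = ⟨z w0⟩`
      have hxmem : (x : G) ∈ (centralizer ({z} : Set G) ⊓ centralizer ({w0} : Set G) : Subgroup G) := by
        rw [mem_inf, mem_centralizer_singleton_iff]
        exact ⟨h1.symm, x.2⟩
      have hcomm : Commute z w0 := hwz.symm
      have hord : orderOf (z * w0) = 10 := by
        rw [hcomm.orderOf_mul_eq_mul_orderOf_of_coprime (by rw [h.hz, hw0]; norm_num), h.hz, hw0]
      have heq : zpowers (z * w0) = (centralizer ({z} : Set G) ⊓ centralizer ({w0} : Set G) : Subgroup G) := by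
        refine eq_of_le_of_card_ge ?_ ?_
        · rw [zpowers_le, mem_inf, mem_centralizer_singleton_iff, mem_centralizer_singleton_iff]
          constructor
          · rw [mul_assoc, ← hcomm.eq]
          · rw [mul_assoc, ← mul_assoc w0, ← hcomm.eq, mul_assoc]
        · rw [h.card10 w0 hw0 hwz, Nat.card_zpowers, hord]
      rw [← heq] at hxmem
      obtain ⟨m, hm⟩ := mem_zpowers_iff.mp hxmem
      rw [hcomm.mul_zpow] at hm
      have hz2 : z ^ (2 : ℤ) = 1 := by
        have : z ^ 2 = 1 := by rw [pow_two]; exact hzz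
        exact_mod_cast this
      rcases Int.even_or_odd m with ⟨n, hn⟩ | ⟨n, hn⟩
      · left
        rw [CentQuot.mk_eq_one, ← hm, hn, ← two_mul, zpow_mul z, hz2, one_zpow, one_mul]
        exact zpow_mem_zpowers _ _
      · right
        rw [eq_comm, QuotientGroup.eq, mem_cyc]
        show z⁻¹ * (x : G) ∈ zpowers w0
        rw [← hm]
        have h5 : z ^ m = z := by
          rw [hn, zpow_add, zpow_mul, hz2, one_zpow, one_mul, zpow_one]
        rw [h5, inv_mul_cancel_left]
        exact zpow_mem_zpowers _ _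
  have ht : (zC : CQ w0) * (zC : CQ w0) = 1 := by
    have : zC * zC = 1 := Subtype.ext hzz
    rw [← QuotientGroup.mk_mul, this]; rfl
  have ht1 : (zC : CQ w0) ≠ 1 := by
    intro h1
    rw [CentQuot.mk_eq_one] at h1
    have h2 : z = 1 := eq_one_of_sq_of_mem_zpowers (p := 5) (by decide) hw0 hzz h1
    have := h.hz
    rw [h2, orderOf_one] at this
    norm_num at this
  obtain ⟨A, -, -, hAcomm, -, hAodd⟩ := InvTwo.exists_abelian_index_two ht ht1 hc
  -- an element of order 3
  obtain ⟨f1, hf1⟩ := exists_prime_orderOf_dvd_card' 3 h3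
  have hf1' : orderOf (f1 : G) = 3 := by rw [orderOf_coe]; exact hf1
  have hf1c := ThreeB.cube_of_orderOf hf1'
  have hf1A : (f1 : CQ w0) ∈ A := by
    apply hAodd
    have h1 : orderOf (f1 : CQ w0) ∣ 3 := by
      rw [← hf1]; exact orderOf_map_dvd (QuotientGroup.mk' (cyc w0)) f1
    exact Odd.of_dvd_nat (by decide) h1
  -- a Sylow 5-subgroup containing `w0`
  have hzp : IsPGroup 5 (zpowers w0) := by
    rw [IsPGroup.iff_card]; exact ⟨1, by rw [Nat.card_zpowers, hw0]; norm_num⟩
  obtain ⟨P, hP⟩ := hzp.exists_le_sylow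
  have hw0P : w0 ∈ (P : Subgroup G) := hP (mem_zpowers w0)
  have hPle := sylow_le_centralizer hG P hw0P
  have hfP : (f1 : G) ∈ centralizer ((P : Subgroup G) : Set G) := by
    rw [mem_centralizer_iff]
    intro p hp
    have hp : p ∈ (P : Subgroup G) := hp
    let pC : centralizer ({w0} : Set G) := ⟨p, hPle hp⟩
    have hpA : (pC : CQ w0) ∈ A := by
      apply hAodd
      have h1 : orderOf (pC : CQ w0) ∣ 25 := by
        refine (orderOf_map_dvd (QuotientGroup.mk' (cyc w0)) pC).trans ?_
        have h2 := orderOf_dvd_natCard (⟨p, hp⟩ : (P : Subgroup G))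
        rw [card_sylow_five hG P, ← orderOf_coe] at h2
        rw [← orderOf_coe]
        exact h2
      exact Odd.of_dvd_nat (by decide) h1
    have h1 := hAcomm _ hf1A _ hpA
    rw [← QuotientGroup.mk_mul, ← QuotientGroup.mk_mul, QuotientGroup.eq, mem_cyc] at h1
    obtain ⟨k, hk⟩ := mem_zpowers_iff.mp h1
    -- `p f = f p w0^k`
    have h2 : p * f1 = f1 * p * w0 ^ k := by
      rw [hk]
      show p * f1 = f1 * p * ((f1 * p)⁻¹ * (p * f1))
      group
    have hfw : Commute (f1 : G) (w0 ^ k) :=
      (show Commute (f1 : G) w0 from mem_centralizer_singleton_iff.mp f1.2).zpow_right k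
    set c := w0 ^ k with hcdef
    have h4 : p * (f1 * f1 * f1) = (f1 * f1 * f1) * p * (c * c * c) := by
      calc p * (f1 * f1 * f1) = (p * f1) * f1 * f1 := by group
        _ = f1 * p * c * f1 * f1 := by rw [h2]
        _ = f1 * p * (c * f1) * f1 := by group
        _ = f1 * p * (f1 * c) * f1 := by rw [hfw.eq]
        _ = f1 * (p * f1) * (c * f1) := by group
        _ = f1 * (f1 * p * c) * (f1 * c) := by rw [h2, hfw.eq]
        _ = f1 * f1 * p * (c * f1) * c := by group
        _ = f1 * f1 * p * (f1 * c) * c := by rw [hfw.eq]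
        _ = f1 * f1 * (p * f1) * c * c := by group
        _ = f1 * f1 * (f1 * p * c) * c * c := by rw [h2]
        _ = (f1 * f1 * f1) * p * (c * c * c) := by group
    have h5 : (f1 : G) * f1 * f1 = 1 := by
      rw [← hf1c, pow_succ, pow_two]
    rw [h5, mul_one, one_mul] at h4
    have h6 : c * c * c = 1 := by
      have h7 : p * (c * c * c) = p * 1 := by rw [mul_one]; exact h4.symm
      exact mul_left_cancel h7
    have h7 : orderOf c ∣ 3 := orderOf_dvd_of_pow_eq_one (by rw [pow_succ, pow_two]; exact h6)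
    have h8 : orderOf c ∣ 5 := by
      rw [← hw0, hcdef]; exact orderOf_dvd_of_mem_zpowers (zpow_mem_zpowers w0 k)
    have h9 : orderOf c ∣ Nat.gcd 3 5 := Nat.dvd_gcd h7 h8
    have h10 : c = 1 := orderOf_eq_one_iff.mp (Nat.dvd_one.mp (by simpa using h9))
    rw [h2, h10, mul_one]
  rw [(FiveFus.sylow_five h P).1] at hfP
  have h1 := orderOf_dvd_natCard (⟨f1, hfP⟩ : (P : Subgroup G))
  rw [card_sylow_five hG P, ← orderOf_coe] at h1
  change orderOf (f1 : G) ∣ 25 at h1
  rw [hf1'] at h1
  norm_num at h1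

/-- `|C(d)| = 1080`. -/
theorem card_centralizer_d (h : Fus z u) (F : Full z u f U V H0) {d : G} (hd : orderOf d = 3)
    (hdH : ∀ x ∈ H0, d * x = x * d) : Nat.card (centralizer ({d} : Set G)) = 1080 := by
  haveI : Fact (Nat.Prime 5) := ⟨by norm_num⟩
  have hG := Order.card_of_fus h
  have h60 := ThreeA.card_H0 h F
  obtain ⟨w0, hw0, hwz⟩ := exists_w0 h
  obtain ⟨w, hw⟩ := exists_prime_orderOf_dvd_card' (G := H0) 5 (by rw [h60]; norm_num)
  have hw5 : orderOf (w : G) = 5 := by rw [orderOf_coe]; exact hw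
  have hgood := Cent5.good_of_mem h F h60 w.2 hw5
  obtain ⟨hnc, -⟩ := ThreeC.five_data hG hgood hw0 (FiveFus.real_of_comm h hw0 hwz)
    (FiveFus.not_four_dvd h hw0 hwz)
  obtain ⟨e⟩ := Cent5.exists_equiv_CQ h F h60 hG w.2 hw5
  obtain ⟨e0⟩ := Cent5.exists_equiv h F h60
  refine ThreeC.card_eq_1080 hG (fun P => (FiveFus.sylow_five h P).1) e hw5 hnc hd (hdH w w.2) ?_ ?_
    (ThreeB.not_sixteen_dvd h F hd)
  · -- an element of `H0` inverting `w`
    have h1 : orderOf (e0 w) = 5 := by rw [MulEquiv.orderOf_eq]; exact hw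
    obtain ⟨x, hx⟩ := Cent5.real5 (e0 w) (orderOf_dvd_iff_pow_eq_one.mp h1.dvd)
    refine ⟨((e0.symm x : H0) : G), (hdH _ (e0.symm x).2).symm, ?_⟩
    have h2 : e0.symm x * w * (e0.symm x)⁻¹ = w⁻¹ := by
      apply e0.injective
      rw [map_mul, map_mul, map_inv, map_inv, e0.apply_symm_apply, hx]
    exact congrArg Subtype.val h2
  · have hz0 : z ∈ H0 := F.U_le F.zU
    have h1 := h.card24 d hd (hdH z hz0)
    rw [← h1]
    exact card_dvd_of_le inf_le_right

/-- `|C(f)| = 36`. -/
theorem card_centralizer_f (h : Fus z u) (F : Full z u f U V H0) {d : G} (hd : orderOf d = 3)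
    (hdH : ∀ x ∈ H0, d * x = x * d) : Nat.card (centralizer ({f} : Set G)) = 36 := by
  haveI : Fact (Nat.Prime 5) := ⟨by norm_num⟩
  haveI : Fact (Nat.Prime 3) := ⟨by norm_num⟩
  have hG := Order.card_of_fus h
  have h60 := ThreeA.card_H0 h F
  have hdf : d * f = f * d := hdH f F.f_mem
  have hdc := ThreeB.cube_of_orderOf hd
  -- 9 divides the order
  have h9 : 9 ∣ Nat.card (centralizer ({f} : Set G)) := by
    have hdC : d ∈ centralizer ({f} : Set G) := mem_centralizer_singleton_iff.mpr hdf
    let dC : centralizer ({f} : Set G) := ⟨d, hdC⟩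
    have hne : (dC : CQ f) ≠ 1 := by
      intro h1
      rw [CentQuot.mk_eq_one] at h1
      have h2 : d ∈ H0 := (zpowers_le.mpr F.f_mem) h1
      -- `d` would be central in `H0`
      obtain ⟨e0⟩ := Cent5.exists_equiv h F h60
      obtain ⟨w, hw⟩ := exists_prime_orderOf_dvd_card' (G := H0) 5 (by rw [h60]; norm_num)
      have h3 := A5Facts.mem_zpowers_of_comm e0 (g := w) (x := ⟨d, h2⟩) hw (Subtype.ext (hdH w w.2))
      have h4 := orderOf_dvd_of_mem_zpowers h3
      rw [hw, ← orderOf_coe] at h4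
      change orderOf d ∣ 5 at h4
      rw [hd] at h4
      norm_num at h4
    have h3 : orderOf (dC : CQ f) = 3 := by
      refine orderOf_eq_prime ?_ hne
      have : dC ^ 3 = 1 := Subtype.ext hdc
      rw [← QuotientGroup.mk_pow, this]; rfl
    rw [card_centralizer_eq, F.f_ord]
    have h4 := orderOf_dvd_natCard (dC : CQ f)
    rw [h3] at h4
    obtain ⟨k, hk⟩ := h4
    exact ⟨k, by rw [hk]; ring⟩
  rcases Cent5.card_centralizer_three h F h60 F.f_mem F.f_ord with h1 | h1 | h1
  · rw [h1] at h9; norm_num at h9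
  · exact h1
  · exfalso
    obtain ⟨y, hy⟩ := exists_prime_orderOf_dvd_card' (G := centralizer ({f} : Set G)) 5
      (by rw [h1]; norm_num)
    have hy5 : orderOf (y : G) = 5 := by rw [orderOf_coe]; exact hy
    have hyf : (y : G) * f = f * y := mem_centralizer_singleton_iff.mp y.2
    have h3y : 3 ∣ Nat.card (centralizer ({(y : G)} : Set G)) := by
      have h2 := orderOf_dvd_natCard (⟨f, mem_centralizer_singleton_iff.mpr hyf.symm⟩ :
        centralizer ({(y : G)} : Set G))
      rw [← orderOf_coe] at h2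
      change orderOf f ∣ _ at h2
      rwa [F.f_ord] at h2
    obtain ⟨w0, hw0, hwz⟩ := exists_w0 h
    obtain ⟨w, hw⟩ := exists_prime_orderOf_dvd_card' (G := H0) 5 (by rw [h60]; norm_num)
    have hw5 : orderOf (w : G) = 5 := by rw [orderOf_coe]; exact hw
    have hgood := Cent5.good_of_mem h F h60 w.2 hw5
    obtain ⟨-, hcl⟩ := ThreeC.five_data hG hgood hw0 (FiveFus.real_of_comm h hw0 hwz)
      (FiveFus.not_four_dvd h hw0 hwz)
    -- the case of elements conjugate into `H0`
    have key : ∀ y' : G, IsConj y' y → centralizer ({y'} : Set G) = centralizer ({(w : G)} : Set G) → False := by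
      intro y' hy' hyw
      obtain ⟨c, hc⟩ := isConj_iff.mp hy'.symm
      -- f' := c f c⁻¹ ∈ C(y') = C(w)
      set f' := c * f * c⁻¹ with hf'
      have hf'3 : orderOf f' = 3 := by
        rw [hf', show c * f * c⁻¹ = MulAut.conj c f from rfl, MulEquiv.orderOf_eq]; exact F.f_ord
      have hf'C : f' ∈ centralizer ({(w : G)} : Set G) := by
        rw [← hyw, mem_centralizer_singleton_iff, ← hc, hf']
        calc c * f * c⁻¹ * (c * y * c⁻¹) = c * (f * y) * c⁻¹ := by group
          _ = c * y * c⁻¹ * (c * f * c⁻¹) := by rw [← hyf]; group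
      have hdC : d ∈ centralizer ({(w : G)} : Set G) := mem_centralizer_singleton_iff.mpr (hdH w w.2)
      set K := centralizer ({(w : G)} : Set G) with hK
      have hK300 : Nat.card K = 300 := Cent5.card_centralizer_five h F h60 hG w.2 hw5
      obtain ⟨S⟩ : Nonempty (Sylow 3 K) := inferInstance
      have hS3 : Nat.card (S : Subgroup K) = 3 := by
        have := card_sylow S 1 100 (by rw [hK300]; norm_num) (by norm_num)
        simpa using this
      obtain ⟨a, ha⟩ := exists_conj_mem_sylow S (y := (⟨f', hf'C⟩ : K)) (n := 1)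
        (by rw [← orderOf_coe]; change orderOf f' = _; rw [hf'3]; norm_num)
      obtain ⟨b, hb⟩ := exists_conj_mem_sylow S (y := (⟨d, hdC⟩ : K)) (n := 1)
        (by rw [← orderOf_coe]; change orderOf d = _; rw [hd]; norm_num)
      have hzS : zpowers (b * (⟨d, hdC⟩ : K) * b⁻¹) = (S : Subgroup K) := by
        refine eq_of_le_of_card_ge (zpowers_le.mpr hb) ?_
        rw [hS3, Nat.card_zpowers]
        rw [show b * (⟨d, hdC⟩ : K) * b⁻¹ = MulAut.conj b (⟨d, hdC⟩ : K) from rfl, MulEquiv.orderOf_eq,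
          ← orderOf_coe]
        change 3 ≤ orderOf d
        rw [hd]
      have ha' : a * (⟨f', hf'C⟩ : K) * a⁻¹ ∈ (S : Subgroup K) := ha
      rw [← hzS] at ha'
      obtain ⟨k, hk⟩ := mem_zpowers_iff.mp ha'
      have hk' : (b * d * (b : G)⁻¹) ^ k = a * f' * (a : G)⁻¹ := congrArg Subtype.val hk
      -- centraliser orders
      have hsub : centralizer ({b * d * (b : G)⁻¹} : Set G) ≤ centralizer ({a * f' * (a : G)⁻¹} : Set G) := by
        intro x hx
        rw [mem_centralizer_singleton_iff] at hx ⊢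
        rw [← hk']
        exact (show Commute x (b * d * (b : G)⁻¹) from hx).zpow_right k
      have h2 := card_dvd_of_le hsub
      have h3 : IsConj d (b * d * (b : G)⁻¹) := isConj_iff.mpr ⟨b, rfl⟩
      have h4 : IsConj f (a * f' * (a : G)⁻¹) := isConj_iff.mpr ⟨a * c, by rw [hf']; group⟩
      rw [← Cent5.card_centralizer_of_isConj h3, ← Cent5.card_centralizer_of_isConj h4, h1,
        card_centralizer_d h F hd hdH] at h2
      norm_num at h2
    rcases hcl y hy5 with hc | hc | hc | hc
    · exact key w hc rfl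
    · exact key (w ^ 2) hc (centralizer_sq hw5)
    · rw [← Cent5.card_centralizer_of_isConj hc] at h3y
      exact not_three_dvd h hw0 hwz h3y
    · rw [← Cent5.card_centralizer_of_isConj hc, centralizer_sq hw0] at h3y
      exact not_three_dvd h hw0 hwz h3y

end Cfsg.Agent.J2Type.ThreeD
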