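import Mathlib
import Cfsg.Agent.J2Type.ThreeD
import Cfsg.Agent.J2Type.ExtCube

/-!
The Sylow 3-structure of a group of Hall-Janko type.
-/

set_option autoImplicit false
set_option linter.style.haveILetI false

namespace Cfsg.Agent.J2Type.ThreeE

open Subgroup Cfsg.Agent.J2Type.Base Cfsg.Agent.J2Type.HStr Cfsg.Agent.J2Type.CentU
  Cfsg.Agent.J2Type.FourSelfCent Cfsg.Agent.J2Type.SylowSeven Cfsg.Agent.J2Type.CentQuot
  Cfsg.Agent.J2Type.A5Facts Cfsg.Agent.J2Type.SylowFive

variable {G : Type*} [Group G] [Finite G] {z u f : G} {U V H0 : Subgroup G}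

/-- `d` commutes with no involution of `V`. -/
theorem d_not_comm (h : Fus z u) (F : Full z u f U V H0) {d : G} (hd : orderOf d = 3)
    (hdH : ∀ x ∈ H0, d * x = x * d) {t : G} (ht : t ∈ V) (ht1 : t ≠ 1) : d * t ≠ t * d := by
  intro hdt
  haveI : Fact (Nat.Prime 5) := ⟨by norm_num⟩
  have h60 := ThreeA.card_H0 h F
  have hdC : d ∈ centralizer ({u} : Set G) := by
    rw [← Cent5.centralizer_eq h F h60 ht ht1]
    exact mem_centralizer_singleton_iff.mpr hdt
  obtain ⟨a, ha, b, hb, hab⟩ := Cent5.exists_mul F hdC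
  obtain ⟨e0⟩ := Cent5.exists_equiv h F h60
  obtain ⟨w, hw⟩ := exists_prime_orderOf_dvd_card' (G := H0) 5 (by rw [h60]; norm_num)
  have h1 : b * w = w * b := by
    have h2 : a * (b * w) = a * (w * b) := by
      calc a * (b * w) = a * b * w := by group
        _ = w * (a * b) := by rw [← hab]; exact hdH w w.2
        _ = w * a * b := by group
        _ = a * (w * b) := by rw [← Cent5.V_comm h F h60 ha w.2]; group
    exact mul_left_cancel h2
  have h3 := A5Facts.mem_zpowers_of_comm e0 (g := w) (x := ⟨b, hb⟩) hw (Subtype.ext h1)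
  have h4 := orderOf_dvd_of_mem_zpowers h3
  rw [hw, ← orderOf_coe] at h4
  change orderOf b ∣ 5 at h4
  have h5 : b ^ 5 = 1 := orderOf_dvd_iff_pow_eq_one.mp h4
  have h6 : Commute a b := Cent5.V_comm h F h60 ha hb
  have h7 : d ^ 10 = 1 := by
    rw [hab, h6.mul_pow, show (10 : ℕ) = 2 * 5 by norm_num, pow_mul a, pow_two a, Cent5.sq_V h F ha,
      one_pow, mul_comm 2 5, pow_mul b, h5, one_pow, one_mul]
  have h8 := orderOf_dvd_of_pow_eq_one h7
  rw [hd] at h8
  norm_num at h8

/-- `f` is not a power of `d` (and conversely). -/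
theorem f_notMem (h : Fus z u) (F : Full z u f U V H0) {d : G} (hd : orderOf d = 3)
    (hdH : ∀ x ∈ H0, d * x = x * d) : f ∉ zpowers d := by
  intro hf
  have h1 := ThreeD.card_centralizer_d h F hd hdH
  have h2 := ThreeD.card_centralizer_f h F hd hdH
  have h3 : centralizer ({d} : Set G) ≤ centralizer ({f} : Set G) := by
    intro x hx
    rw [mem_centralizer_singleton_iff] at hx ⊢
    obtain ⟨k, hk⟩ := mem_zpowers_iff.mp hf
    rw [← hk]
    exact (show Commute x d from hx).zpow_right k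
  have h4 := card_dvd_of_le h3
  rw [h1, h2] at h4
  norm_num at h4

theorem nine_dvd (h : Fus z u) (F : Full z u f U V H0) {d : G} (hd : orderOf d = 3)
    (hdH : ∀ x ∈ H0, d * x = x * d) {L : Subgroup G} (hfL : f ∈ L) (hdL : d ∈ L) :
    9 ∣ Nat.card L := by
  have hcomm : Commute f d := (hdH f F.f_mem).symm
  have hc : ∀ x ∈ zpowers f, ∀ y ∈ zpowers d, x * y = y * x := by
    intro x hx y hy
    obtain ⟨i, rfl⟩ := mem_zpowers_iff.mp hx
    obtain ⟨j, rfl⟩ := mem_zpowers_iff.mp hy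
    exact ((hcomm.zpow_left i).zpow_right j).eq
  have hdisj : Disjoint (zpowers f) (zpowers d) := by
    rw [disjoint_iff_inf_le]
    intro x hx
    rw [mem_inf] at hx
    by_contra hx1
    rw [mem_bot] at hx1
    have h1 : orderOf x ∣ 3 := by rw [← F.f_ord]; exact orderOf_dvd_of_mem_zpowers hx.1
    have h3 : orderOf x = 3 := by
      rcases (Nat.dvd_prime (by norm_num : Nat.Prime 3)).mp h1 with h2 | h2
      · exact absurd (orderOf_eq_one_iff.mp h2) hx1
      · exact h2
    have h4 : zpowers x = zpowers f :=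
      eq_of_le_of_card_ge (zpowers_le.mpr hx.1) (by rw [Nat.card_zpowers, Nat.card_zpowers, h3, F.f_ord])
    apply f_notMem h F hd hdH
    have h5 : f ∈ zpowers x := by rw [h4]; exact mem_zpowers f
    exact (zpowers_le.mpr hx.2) h5
  let φ : (zpowers f) × (zpowers d) →* L :=
    { toFun := fun p => ⟨p.1 * p.2, L.mul_mem ((zpowers_le.mpr hfL) p.1.2) ((zpowers_le.mpr hdL) p.2.2)⟩
      map_one' := Subtype.ext (by simp)
      map_mul' := by
        rintro ⟨a, b⟩ ⟨a', b'⟩
        apply Subtype.ext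
        show (a * a' : G) * (b * b') = (a * b) * (a' * b')
        rw [mul_assoc, mul_assoc, ← mul_assoc (a' : G) b, hc a' a'.2 b b.2, mul_assoc] }
  have hinj : Function.Injective φ := by
    intro p q hpq
    exact mul_injective_of_disjoint hdisj (congrArg Subtype.val hpq)
  have h9 := Subgroup.card_dvd_of_injective φ hinj
  rw [Nat.card_prod, Nat.card_zpowers, Nat.card_zpowers, F.f_ord, hd] at h9
  exact h9

/-- Subgroups of `C(f)` containing `f` and `d` and normalising `⟨d⟩` have order 9. -/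
theorem card_nine (h : Fus z u) (F : Full z u f U V H0) {d : G} (hd : orderOf d = 3)
    (hdV : ∀ v ∈ V, d * v * d⁻¹ ∈ V)
    (hdH : ∀ x ∈ H0, d * x = x * d) {L : Subgroup G} (hL : L ≤ centralizer ({f} : Set G))
    (hfL : f ∈ L) (hdL : d ∈ L) (hLd : ∀ x ∈ L, x * d * x⁻¹ ∈ zpowers d) : Nat.card L = 9 := by
  haveI : Fact (Nat.Prime 2) := ⟨by norm_num⟩
  have h60 := ThreeA.card_H0 h F
  have hK := ThreeD.card_centralizer_f h F hd hdH
  set K := centralizer ({f} : Set G) with hKdef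
  have hVK : V ≤ K := by
    intro v hv
    rw [hKdef, mem_centralizer_singleton_iff]
    exact Cent5.V_comm h F h60 hv F.f_mem
  have hdK : d ∈ K := by
    rw [hKdef, mem_centralizer_singleton_iff]
    exact hdH f F.f_mem
  have hfK : f ∈ K := by
    rw [hKdef, mem_centralizer_singleton_iff]
  -- `K` normalises `V`
  have hnorm : K ≤ normalizer (V : Set G) := by
    have h1 : V ≤ normalizer (V : Set G) ⊓ K := le_inf le_normalizer hVK
    have h2 : 4 ∣ Nat.card (normalizer (V : Set G) ⊓ K : Subgroup G) := by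
      rw [← F.cardV]; exact card_dvd_of_le h1
    have h3 : 9 ∣ Nat.card (normalizer (V : Set G) ⊓ K : Subgroup G) := by
      refine nine_dvd h F hd hdH ?_ ?_
      · refine mem_inf.mpr ⟨?_, hfK⟩
        refine mem_normalizer_fintype ?_
        intro v hv
        rw [← Cent5.V_comm h F h60 hv F.f_mem]
        simpa using hv
      · refine mem_inf.mpr ⟨?_, hdK⟩
        exact mem_normalizer_fintype hdV
    have h4 : 36 ∣ Nat.card (normalizer (V : Set G) ⊓ K : Subgroup G) :=
      Nat.Coprime.mul_dvd_of_dvd_of_dvd (by norm_num) h2 h3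
    have h5 : normalizer (V : Set G) ⊓ K = K :=
      eq_of_le_of_card_ge inf_le_right (by rw [hK]; exact Nat.le_of_dvd Nat.card_pos h4)
    rw [← h5]; exact inf_le_left
  -- involutions of `K` lie in `V`
  have hinv : ∀ t ∈ K, t * t = 1 → t ∈ V := by
    intro t ht htt
    haveI : (V.subgroupOf K).Normal := (normal_subgroupOf_iff_le_normalizer hVK).mpr hnorm
    have h1 : (V.subgroupOf K).index = 9 := by
      have h2 := (V.subgroupOf K).card_mul_index
      rw [Nat.card_congr (subgroupOfEquivOfLe hVK).toEquiv, F.cardV, hK] at h2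
      omega
    have h2 := pow_index_mem (V.subgroupOf K) (⟨t, ht⟩ : K)
    rw [h1, mem_subgroupOf] at h2
    have h3 : ((⟨t, ht⟩ ^ 9 : K) : G) = t := by
      show t ^ 9 = t
      have h4 : t ^ 2 = 1 := by rw [pow_two]; exact htt
      rw [show 9 = 2 * 4 + 1 by norm_num, pow_succ, pow_mul, h4, one_pow, one_mul]
    rwa [h3] at h2
  have h9 := nine_dvd h F hd hdH hfL hdL
  have h36 : Nat.card L ∣ 36 := by rw [← hK]; exact card_dvd_of_le hL
  have hodd : ¬ 2 ∣ Nat.card L := by
    intro h2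
    obtain ⟨t, ht⟩ := exists_prime_orderOf_dvd_card' 2 h2
    have ht2 : (t : G) * t = 1 := by
      have h3 := pow_orderOf_eq_one t
      rw [ht, pow_two] at h3
      exact congrArg Subtype.val h3
    have ht1 : (t : G) ≠ 1 := by
      intro h3
      have h4 : t = 1 := Subtype.ext h3
      rw [h4, orderOf_one] at ht; norm_num at ht
    have htV := hinv t (hL t.2) ht2
    have h3 := hLd t t.2
    -- `t d t⁻¹ d⁻¹ ∈ V ∩ ⟨d⟩`
    have h4 : (t : G) * d * (t : G)⁻¹ * d⁻¹ ∈ V := by
      have h5 : (t : G) * d * (t : G)⁻¹ * d⁻¹ = t * (d * (t : G)⁻¹ * d⁻¹) := by group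
      rw [h5]
      exact V.mul_mem htV (hdV _ (V.inv_mem htV))
    have h5 : (t : G) * d * (t : G)⁻¹ * d⁻¹ ∈ zpowers d :=
      (zpowers d).mul_mem h3 ((zpowers d).inv_mem (mem_zpowers d))
    have h6 : (t : G) * d * (t : G)⁻¹ * d⁻¹ = 1 := by
      have h7 := orderOf_dvd_of_mem_zpowers h5
      rw [hd] at h7
      have h8 : orderOf ((t : G) * d * (t : G)⁻¹ * d⁻¹) ∣ 2 :=
        orderOf_dvd_of_pow_eq_one (by rw [pow_two]; exact Cent5.sq_V h F h4)
      have h9 := Nat.dvd_gcd h7 h8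
      exact orderOf_eq_one_iff.mp (Nat.dvd_one.mp (by simpa using h9))
    apply d_not_comm h F hd hdH htV ht1
    calc d * t = (t * d * (t : G)⁻¹ * d⁻¹)⁻¹ * (t * d) := by group
      _ = t * d := by rw [h6]; group
  obtain ⟨k, hk⟩ := h9
  rw [hk] at h36 hodd ⊢
  have h4 : k ∣ 4 := Nat.dvd_of_mul_dvd_mul_left (by norm_num : 0 < 9) (by rw [show 9 * 4 = 36 by norm_num]; exact h36)
  have h5 : k ≤ 4 := Nat.le_of_dvd (by norm_num) h4
  interval_cases k
  · norm_num at h4
  · norm_num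
  · norm_num at hodd
  · norm_num at h4
  · norm_num at hodd

theorem inv3 : ∀ g : alternatingGroup (Fin 5), g ^ 3 = 1 → ∃ x : alternatingGroup (Fin 5), x * x = 1 ∧ x ≠ 1 ∧ x * g * x⁻¹ = g⁻¹ := by
  decide +kernel

/-- An involution of `H0` inverting `f`. -/
theorem exists_inv (h : Fus z u) (F : Full z u f U V H0) : ∃ t ∈ H0, t * t = 1 ∧ t ≠ 1 ∧ t * f * t⁻¹ = f⁻¹ := by
  have h60 := ThreeA.card_H0 h F
  obtain ⟨e0⟩ := Cent5.exists_equiv h F h60
  have hf : orderOf (⟨f, F.f_mem⟩ : H0) = 3 := by rw [← orderOf_coe]; exact F.f_ord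
  have h1 : orderOf (e0 ⟨f, F.f_mem⟩) = 3 := by rw [MulEquiv.orderOf_eq]; exact hf
  obtain ⟨x, hx1, hx2, hx3⟩ := inv3 (e0 ⟨f, F.f_mem⟩) (orderOf_dvd_iff_pow_eq_one.mp h1.dvd)
  refine ⟨((e0.symm x : H0) : G), (e0.symm x).2, ?_, ?_, ?_⟩
  · have : e0.symm x * e0.symm x = 1 := by rw [← map_mul, hx1, map_one]
    exact congrArg Subtype.val this
  · intro h2
    apply hx2
    have h3 : e0.symm x = 1 := Subtype.ext h2
    rw [← e0.apply_symm_apply x, h3, map_one]
  · have h2 : e0.symm x * ⟨f, F.f_mem⟩ * (e0.symm x)⁻¹ = (⟨f, F.f_mem⟩ : H0)⁻¹ := by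
      apply e0.injective
      rw [map_mul, map_mul, map_inv, map_inv, e0.apply_symm_apply, hx3]
    exact congrArg Subtype.val h2

end Cfsg.Agent.J2Type.ThreeE
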