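import Mathlib
import Cfsg.Agent.J2Type.ThreeE

/-!
The Sylow 3-structure of a group of Hall-Janko type: main theorem.
-/

set_option autoImplicit false
set_option linter.style.haveILetI false

namespace Cfsg.Agent.J2Type.ThreeF

open Subgroup Cfsg.Agent.J2Type.Base Cfsg.Agent.J2Type.HStr Cfsg.Agent.J2Type.CentU
  Cfsg.Agent.J2Type.FourSelfCent Cfsg.Agent.J2Type.SylowSeven Cfsg.Agent.J2Type.CentQuot
  Cfsg.Agent.J2Type.A5Facts Cfsg.Agent.J2Type.SylowFive
open scoped commutatorElement

section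

variable {G : Type*} [Group G] [Finite G] {z u f : G} {U V H0 : Subgroup G}

theorem mem_zpowers_three {G : Type*} [Group G] {d x : G} (hd : orderOf d = 3) (hx : x ∈ zpowers d) :
    x = 1 ∨ x = d ∨ x = d⁻¹ := by
  have hd3 := ThreeB.cube_of_orderOf hd
  have hfin : IsOfFinOrder d := orderOf_pos_iff.mp (by rw [hd]; norm_num)
  classical
  rw [hfin.mem_zpowers_iff_mem_range_orderOf, hd, Finset.mem_image] at hx
  obtain ⟨k, hk, rfl⟩ := hx
  rw [Finset.mem_range] at hk
  interval_cases k
  · left; rw [pow_zero]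
  · right; left; rw [pow_one]
  · right; right
    rw [eq_comm, inv_eq_iff_mul_eq_one, ← pow_succ']; exact hd3

omit [Finite G] in
/-- An element of `C(z)` of order 3 is conjugate to its inverse. -/
theorem real3 (h : Fus z u) {d : G} (hd : orderOf d = 3) (hdz : d * z = z * d) : IsConj d d⁻¹ := by
  obtain ⟨g, -, hg⟩ := h.conj3 d d⁻¹ hd (by rw [orderOf_inv]; exact hd) hdz
    (show Commute d⁻¹ z from (show Commute d z from hdz).inv_left)
  exact isConj_iff.mpr ⟨g, hg⟩

theorem card_sylow_three (hG : Nat.card G = 604800) (P : Sylow 3 G) : Nat.card (P : Subgroup G) = 27 := by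
  haveI : Fact (Nat.Prime 3) := ⟨by norm_num⟩
  have := card_sylow P 3 22400 (by rw [hG]; norm_num) (by norm_num)
  simpa using this

/-- A Sylow 3-subgroup of `G` inside `C(d)` containing `f`. -/
theorem exists_sylow (h : Fus z u) (F : Full z u f U V H0) {d : G} (hd : orderOf d = 3)
    (hdH : ∀ x ∈ H0, d * x = x * d) :
    ∃ P : Sylow 3 G, (P : Subgroup G) ≤ centralizer ({d} : Set G) ∧ f ∈ (P : Subgroup G) ∧
      d ∈ (P : Subgroup G) := by
  haveI : Fact (Nat.Prime 3) := ⟨by norm_num⟩
  have hG := Order.card_of_fus h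
  have h1080 := ThreeD.card_centralizer_d h F hd hdH
  set C := centralizer ({d} : Set G) with hC
  have hfC : f ∈ C := by
    rw [hC, mem_centralizer_singleton_iff]; exact (hdH f F.f_mem).symm
  have hdC : d ∈ C := by rw [hC, mem_centralizer_singleton_iff]
  have hf : orderOf (⟨f, hfC⟩ : C) = 3 := by rw [← orderOf_coe]; exact F.f_ord
  have hfp : IsPGroup 3 (zpowers (⟨f, hfC⟩ : C)) := by
    rw [IsPGroup.iff_card]; exact ⟨1, by rw [Nat.card_zpowers, hf]; norm_num⟩
  obtain ⟨S, hS⟩ := hfp.exists_le_sylow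
  have hS27 : Nat.card (S : Subgroup C) = 27 := by
    have := card_sylow S 3 40 (by rw [h1080]; norm_num) (by norm_num)
    simpa using this
  have hM : Nat.card ((S : Subgroup C).map C.subtype) = 27 := by
    rw [card_map_of_injective (subtype_injective _), hS27]
  have hMp : IsPGroup 3 ((S : Subgroup C).map C.subtype) := by
    rw [IsPGroup.iff_card]; exact ⟨3, by rw [hM]; norm_num⟩
  obtain ⟨P, hP⟩ := hMp.exists_le_sylow
  have hP27 := card_sylow_three hG P
  have heq : (S : Subgroup C).map C.subtype = (P : Subgroup G) := eq_of_le_of_card_ge hP (by rw [hM, hP27])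
  have hPC : (P : Subgroup G) ≤ C := by
    rw [← heq]; exact map_subtype_le _
  have hfP : f ∈ (P : Subgroup G) := by
    rw [← heq]; exact ⟨⟨f, hfC⟩, hS (mem_zpowers _), rfl⟩
  refine ⟨P, hPC, hfP, ?_⟩
  -- `d` is central in `C`, so `d` lies in every Sylow subgroup
  have h1 : IsPGroup 3 (zpowers d) := by
    rw [IsPGroup.iff_card]; exact ⟨1, by rw [Nat.card_zpowers, hd]; norm_num⟩
  have h2 : zpowers d ≤ normalizer ((P : Subgroup G) : Set G) := by
    rw [zpowers_le]
    refine centralizer_le_normalizer' _ ?_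
    rw [mem_centralizer_iff]
    intro x hx
    exact mem_centralizer_singleton_iff.mp (hPC hx)
  have h3 : IsPGroup 3 ((P : Subgroup G) ⊔ zpowers d : Subgroup G) :=
    P.isPGroup'.to_sup_of_normal_left' h1 h2
  have h4 : (P : Subgroup G) ⊔ zpowers d = P := P.is_maximal' h3 le_sup_left
  rw [← h4]
  exact (le_sup_right : zpowers d ≤ _) (mem_zpowers d)

/-- The structure of `P`. -/
theorem structure_P (h : Fus z u) (F : Full z u f U V H0) {d : G} (hd : orderOf d = 3)
    (hdH : ∀ x ∈ H0, d * x = x * d) {P : Sylow 3 G}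
    (hPd : (P : Subgroup G) ≤ centralizer ({d} : Set G)) (hfP : f ∈ (P : Subgroup G))
    (hdP : d ∈ (P : Subgroup G)) :
    (∃ x y : (P : Subgroup G), x * y ≠ y * x) ∧
      (∀ x ∈ (P : Subgroup G), (∀ y ∈ (P : Subgroup G), x * y = y * x) → x ∈ zpowers d) ∧
      (∀ x ∈ (P : Subgroup G), ∀ y ∈ (P : Subgroup G), x * y * x⁻¹ * y⁻¹ ∈ zpowers d) := by
  haveI : Fact (Nat.Prime 3) := ⟨by norm_num⟩
  have hG := Order.card_of_fus h
  have h27 := card_sylow_three hG P
  have h36 := ThreeD.card_centralizer_f h F hd hdH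
  have hnab : ∃ x y : (P : Subgroup G), x * y ≠ y * x := by
    by_contra hne
    push Not at hne
    have h1 : (P : Subgroup G) ≤ centralizer ({f} : Set G) := by
      intro x hx
      rw [mem_centralizer_singleton_iff]
      exact congrArg Subtype.val (hne ⟨x, hx⟩ ⟨f, hfP⟩)
    have h2 := card_dvd_of_le h1
    rw [h27, h36] at h2
    norm_num at h2
  have hext : Cfsg.IsExtraspecial 3 (P : Subgroup G) :=
    ExtCube.isExtraspecial_of_card_cube (by rw [h27]; norm_num) hnab
  have hcenter : zpowers (⟨d, hdP⟩ : (P : Subgroup G)) = center (P : Subgroup G) := by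
    refine eq_of_le_of_card_ge ?_ ?_
    · rw [zpowers_le, mem_center_iff]
      intro x
      apply Subtype.ext
      exact mem_centralizer_singleton_iff.mp (hPd x.2)
    · rw [hext.2, Nat.card_zpowers, ← orderOf_coe]
      show 3 ≤ orderOf d
      rw [hd]
  have hmem : ∀ x : (P : Subgroup G), x ∈ center (P : Subgroup G) → (x : G) ∈ zpowers d := by
    intro x hx
    rw [← hcenter] at hx
    obtain ⟨k, hk⟩ := mem_zpowers_iff.mp hx
    rw [← hk]
    exact zpow_mem_zpowers d k
  refine ⟨hnab, ?_, ?_⟩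
  · intro x hx hxy
    refine hmem ⟨x, hx⟩ ?_
    rw [mem_center_iff]
    intro y
    exact Subtype.ext (hxy y y.2).symm
  · intro x hx y hy
    have h1 : ⁅(⟨x, hx⟩ : (P : Subgroup G)), ⟨y, hy⟩⁆ ∈ center (P : Subgroup G) := by
      rw [← hext.1.2.2, _root_.commutator_def]
      exact Subgroup.commutator_mem_commutator (mem_top _) (mem_top _)
    exact hmem _ h1

omit [Finite G] in
/-- Conjugation of `⟨d⟩` by elements of the normaliser of `P`. -/
theorem conj_mem_of_normalizer {d : G} {P : Sylow 3 G}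
    (hPd : (P : Subgroup G) ≤ centralizer ({d} : Set G))
    (hdP : d ∈ (P : Subgroup G))
    (hZ : ∀ x ∈ (P : Subgroup G), (∀ y ∈ (P : Subgroup G), x * y = y * x) → x ∈ zpowers d)
    {n : G} (hn : n ∈ normalizer ((P : Subgroup G) : Set G)) : n * d * n⁻¹ ∈ zpowers d := by
  have h1 := (mem_normalizer_iff.mp hn d).mp hdP
  refine hZ _ h1 ?_
  intro y hy
  have h2 : n⁻¹ * y * n ∈ (P : Subgroup G) := by
    have := (mem_normalizer_iff.mp ((normalizer ((P : Subgroup G) : Set G)).inv_mem hn) y).mp hy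
    rwa [inv_inv] at this
  have h3 : (n⁻¹ * y * n) * d = d * (n⁻¹ * y * n) := mem_centralizer_singleton_iff.mp (hPd h2)
  calc n * d * n⁻¹ * y = n * (d * (n⁻¹ * y * n)) * n⁻¹ := by group
    _ = n * ((n⁻¹ * y * n) * d) * n⁻¹ := by rw [h3]
    _ = y * (n * d * n⁻¹) := by group

/-- The normaliser of `P`. -/
theorem card_normalizer (h : Fus z u) (F : Full z u f U V H0) {d : G} (hd : orderOf d = 3)
    (hdV : ∀ v ∈ V, d * v * d⁻¹ ∈ V)
    (hdH : ∀ x ∈ H0, d * x = x * d) {P : Sylow 3 G}
    (hPd : (P : Subgroup G) ≤ centralizer ({d} : Set G)) (hfP : f ∈ (P : Subgroup G))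
    (hdP : d ∈ (P : Subgroup G)) :
    Nat.card (normalizer ((P : Subgroup G) : Set G)) = 216 ∧
      ∀ x ∈ (P : Subgroup G), x ∉ zpowers d → IsConj f x := by
  haveI : Fact (Nat.Prime 3) := ⟨by norm_num⟩
  have hG := Order.card_of_fus h
  have h27 := card_sylow_three hG P
  obtain ⟨-, hZ, hcomm⟩ := structure_P h F hd hdH hPd hfP hdP
  have hconj : ∀ n ∈ normalizer ((P : Subgroup G) : Set G), n * d * n⁻¹ ∈ zpowers d :=
    fun n hn => conj_mem_of_normalizer hPd hdP hZ hn
  have hfd := ThreeE.f_notMem h F hd hdH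
  set N := normalizer ((P : Subgroup G) : Set G) with hN
  have hPN : (P : Subgroup G) ≤ N := le_normalizer
  -- stabiliser of `f`
  have hst : Nat.card (N ⊓ centralizer ({f} : Set G) : Subgroup G) = 9 := by
    refine ThreeE.card_nine h F hd hdV hdH inf_le_right ?_ ?_ ?_
    · exact mem_inf.mpr ⟨hPN hfP, mem_centralizer_singleton_iff.mpr rfl⟩
    · exact mem_inf.mpr ⟨hPN hdP, mem_centralizer_singleton_iff.mpr (hdH f F.f_mem)⟩
    · intro x hx
      exact hconj x (mem_inf.mp hx).1
  have horb := card_orbit N f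
  rw [hst] at horb
  -- the orbit is contained in `P \ ⟨d⟩`
  have hnorm_d : ∀ n ∈ N, ∀ x ∈ zpowers d, n⁻¹ * x * n ∈ zpowers d := by
    intro n hn x hx
    have h1 := hconj n⁻¹ (N.inv_mem hn)
    rw [inv_inv] at h1
    obtain ⟨k, rfl⟩ := mem_zpowers_iff.mp hx
    have h2 : n⁻¹ * d ^ k * n = (n⁻¹ * d * n) ^ k := by
      have := (conj_zpow (i := k) (a := n⁻¹) (b := d)).symm
      rwa [inv_inv] at this
    rw [h2]
    exact (zpowers d).zpow_mem h1 k
  have hsub : {y : G | ∃ n ∈ N, n * f * n⁻¹ = y} ⊆ ((P : Subgroup G) : Set G) \ (zpowers d : Set G) := by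
    rintro y ⟨n, hn, rfl⟩
    refine ⟨(mem_normalizer_iff.mp hn f).mp hfP, ?_⟩
    intro h1
    apply hfd
    have h2 := hnorm_d n hn _ h1
    have h3 : n⁻¹ * (n * f * n⁻¹) * n = f := by group
    rwa [h3] at h2
  have h24 : (((P : Subgroup G) : Set G) \ (zpowers d : Set G)).ncard = 24 := by
    rw [Set.ncard_sdiff (zpowers_le.mpr hdP), ← Nat.card_coe_set_eq, ← Nat.card_coe_set_eq]
    have h3 : Nat.card (((P : Subgroup G) : Set G)) = 27 := h27
    have h4 : Nat.card ((zpowers d : Subgroup G) : Set G) = 3 := by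
      have := Nat.card_zpowers d
      rw [hd] at this; exact this
    rw [h3, h4]
  have hle : Nat.card {y : G // ∃ n ∈ N, n * f * n⁻¹ = y} ≤ 24 := by
    rw [← h24]
    change Nat.card ({y : G | ∃ n ∈ N, n * f * n⁻¹ = y} : Set G) ≤ _
    rw [Nat.card_coe_set_eq]
    exact Set.ncard_le_ncard hsub
  -- an element of `N` inverting `d`
  have hdz : d * z = z * d := hdH z (F.U_le F.zU)
  obtain ⟨g0, hg0⟩ := isConj_iff.mp (real3 h hd hdz)
  have hdcent : d ∈ centralizer ((P : Subgroup G) : Set G) := by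
    rw [mem_centralizer_iff]
    intro x hx
    exact mem_centralizer_singleton_iff.mp (hPd hx)
  have hdorb : Nat.card {y : G // ∃ n ∈ N, n * d * n⁻¹ = y} = 2 := by
    have h1 : {y : G | ∃ n ∈ N, n * d * n⁻¹ = y} = {d, d⁻¹} := by
      ext y
      rw [Set.mem_ofPred_eq, Set.mem_insert_iff, Set.mem_singleton_iff]
      constructor
      · rintro ⟨n, hn, rfl⟩
        rcases mem_zpowers_three hd (hconj n hn) with h2 | h2 | h2
        · exfalso
          have h3 : d = 1 := by
            calc d = n⁻¹ * (n * d * n⁻¹) * n := by group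
              _ = 1 := by rw [h2]; group
          rw [h3, orderOf_one] at hd; norm_num at hd
        · left; exact h2
        · right; exact h2
      · rintro (rfl | rfl)
        · exact ⟨1, N.one_mem, by group⟩
        · have h2 : (g0⁻¹)⁻¹ * d * g0⁻¹ ∈ centralizer ((P : Subgroup G) : Set G) := by
            rw [inv_inv, hg0]; exact (centralizer ((P : Subgroup G) : Set G)).inv_mem hdcent
          obtain ⟨n, hn, h3⟩ := P.conj_eq_normalizer_conj_of_mem_centralizer d g0⁻¹ hdcent h2
          refine ⟨n⁻¹, N.inv_mem hn, ?_⟩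
          rw [inv_inv, ← h3, inv_inv, hg0]
    change Nat.card ({y : G | ∃ n ∈ N, n * d * n⁻¹ = y} : Set G) = 2
    rw [h1, Nat.card_coe_set_eq]
    apply Set.ncard_pair
    intro h5
    have h6 : d ^ 2 = 1 := by rw [pow_two]; nth_rewrite 1 [h5]; group
    have h7 := orderOf_dvd_of_pow_eq_one h6
    rw [hd] at h7; norm_num at h7
  have hNd := card_orbit N d
  rw [hdorb] at hNd
  -- the involution of `H0` inverting `f` normalises `P`
  obtain ⟨t, htH, htt, ht1, htf⟩ := ThreeE.exists_inv h F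
  have htd : t * d = d * t := (hdH t htH).symm
  have hA : ∀ x ∈ zpowers f ⊔ zpowers d, x * d = d * x := by
    intro x hx
    have h1 : zpowers f ⊔ zpowers d ≤ centralizer ({d} : Set G) := by
      rw [sup_le_iff, zpowers_le, zpowers_le, mem_centralizer_singleton_iff, mem_centralizer_singleton_iff]
      exact ⟨(hdH f F.f_mem).symm, rfl⟩
    exact mem_centralizer_singleton_iff.mp (h1 hx)
  set A : Subgroup G := zpowers f ⊔ zpowers d with hAdef
  have hfA : f ∈ A := (le_sup_left : zpowers f ≤ A) (mem_zpowers f)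
  have hdA : d ∈ A := (le_sup_right : zpowers d ≤ A) (mem_zpowers d)
  have hAf : A ≤ centralizer ({f} : Set G) := by
    rw [hAdef, sup_le_iff, zpowers_le, zpowers_le, mem_centralizer_singleton_iff, mem_centralizer_singleton_iff]
    exact ⟨rfl, hdH f F.f_mem⟩
  have hA9 : Nat.card A = 9 := by
    refine ThreeE.card_nine h F hd hdV hdH hAf hfA hdA ?_
    intro x hx
    rw [hA x hx, mul_inv_cancel_right]; exact mem_zpowers d
  set M : Subgroup G := normalizer (A : Set G) ⊓ centralizer ({d} : Set G) with hM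
  have hmemnorm : ∀ x : G, x * d = d * x → x * f * x⁻¹ ∈ A → x ∈ normalizer (A : Set G) := by
    intro x hxd hxf
    refine mem_normalizer_fintype ?_
    intro a ha
    have h1 : A.map (MulAut.conj x).toMonoidHom ≤ A := by
      rw [hAdef, Subgroup.map_sup, MonoidHom.map_zpowers, MonoidHom.map_zpowers, ← hAdef, sup_le_iff,
        zpowers_le, zpowers_le]
      refine ⟨hxf, ?_⟩
      show x * d * x⁻¹ ∈ A
      rw [hxd, mul_inv_cancel_right]; exact hdA
    exact h1 ⟨a, ha, rfl⟩
  have hPM : (P : Subgroup G) ≤ M := by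
    intro x hx
    have hxd : x * d = d * x := mem_centralizer_singleton_iff.mp (hPd hx)
    refine mem_inf.mpr ⟨hmemnorm x hxd ?_, hPd hx⟩
    have h1 := hcomm x hx f hfP
    have h2 : x * f * x⁻¹ = (x * f * x⁻¹ * f⁻¹) * f := by group
    rw [h2]
    exact A.mul_mem ((le_sup_right : zpowers d ≤ A) h1) hfA
  have htM : t ∈ M := by
    refine mem_inf.mpr ⟨hmemnorm t htd ?_, mem_centralizer_singleton_iff.mpr htd⟩
    rw [htf]; exact A.inv_mem hfA
  -- `|M| ≤ 54`
  have hMst : M ⊓ centralizer ({f} : Set G) = A := by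
    have hAM : A ≤ M := le_inf le_normalizer (by
      intro x hx
      exact mem_centralizer_singleton_iff.mpr (hA x hx))
    refine (eq_of_le_of_card_ge (le_inf hAM hAf) ?_).symm
    rw [hA9, ThreeE.card_nine h F hd hdV hdH inf_le_right (L := M ⊓ centralizer ({f} : Set G))
      (mem_inf.mpr ⟨hAM hfA, hAf hfA⟩) (mem_inf.mpr ⟨hAM hdA, hAf hdA⟩)]
    intro x hx
    have hxd : x * d = d * x := mem_centralizer_singleton_iff.mp (mem_inf.mp (mem_inf.mp hx).1).2
    rw [hxd, mul_inv_cancel_right]; exact mem_zpowers d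
  have hMorb := card_orbit M f
  rw [hMst, hA9] at hMorb
  have hsub2 : {y : G | ∃ n ∈ M, n * f * n⁻¹ = y} ⊆ (A : Set G) \ (zpowers d : Set G) := by
    rintro y ⟨n, hn, rfl⟩
    have hn' := mem_inf.mp hn
    have hnd : n * d = d * n := mem_centralizer_singleton_iff.mp hn'.2
    refine ⟨(mem_normalizer_iff.mp hn'.1 f).mp hfA, ?_⟩
    intro h1
    apply hfd
    obtain ⟨k, hk⟩ := mem_zpowers_iff.mp h1
    have h2 : f = d ^ k := by
      have h3 : Commute n (d ^ k) := (show Commute n d from hnd).zpow_right k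
      calc f = n⁻¹ * (n * f * n⁻¹) * n := by group
        _ = n⁻¹ * (d ^ k * n) := by rw [← hk, mul_assoc]
        _ = d ^ k := by rw [← h3.eq]; group
    rw [h2]; exact zpow_mem_zpowers d k
  have h6 : ((A : Set G) \ (zpowers d : Set G)).ncard = 6 := by
    rw [Set.ncard_sdiff (le_sup_right : zpowers d ≤ A), ← Nat.card_coe_set_eq, ← Nat.card_coe_set_eq]
    have h3 : Nat.card ((A : Set G)) = 9 := hA9
    have h4 : Nat.card ((zpowers d : Subgroup G) : Set G) = 3 := by
      have := Nat.card_zpowers d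
      rw [hd] at this; exact this
    rw [h3, h4]
  have hle2 : Nat.card {y : G // ∃ n ∈ M, n * f * n⁻¹ = y} ≤ 6 := by
    rw [← h6]
    change Nat.card ({y : G | ∃ n ∈ M, n * f * n⁻¹ = y} : Set G) ≤ _
    rw [Nat.card_coe_set_eq]
    exact Set.ncard_le_ncard hsub2
  have hM54 : Nat.card M ≤ 54 := by rw [← hMorb]; omega
  have ht2 : orderOf t = 2 := orderOf_eq_prime (by rw [pow_two]; exact htt) ht1
  have htN : t ∈ N := by
    have h1 := card_mul_relIndex' hPM
    rw [h27] at h1
    have h2 : (P : Subgroup G).relIndex M ≤ 2 := by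
      by_contra h3
      have : 27 * 3 ≤ Nat.card M := by rw [← h1]; exact Nat.mul_le_mul_left _ (by omega)
      omega
    have h3 : (P : Subgroup G).relIndex M ≠ 0 := by
      intro h0; rw [h0] at h1
      have : 0 < Nat.card M := Nat.card_pos
      omega
    have h4 : 2 ∣ Nat.card M := by
      have := orderOf_dvd_natCard (⟨t, htM⟩ : M)
      rw [← orderOf_coe] at this
      change orderOf t ∣ _ at this
      rwa [ht2] at this
    have h5 : (P : Subgroup G).relIndex M = 2 := by
      rw [← h1] at h4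
      interval_cases ((P : Subgroup G).relIndex M) <;> omega
    haveI : ((P : Subgroup G).subgroupOf M).Normal := normal_of_index_eq_two h5
    exact (normal_subgroupOf_iff_le_normalizer hPM).mp inferInstance htM
  have h4N : 4 ∣ Nat.card N := by
    have h1 : 2 ∣ Nat.card (N ⊓ centralizer ({d} : Set G) : Subgroup G) := by
      have := orderOf_dvd_natCard (⟨t, mem_inf.mpr ⟨htN, mem_centralizer_singleton_iff.mpr htd⟩⟩ :
        (N ⊓ centralizer ({d} : Set G) : Subgroup G))
      rw [← orderOf_coe] at this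
      change orderOf t ∣ _ at this
      rwa [ht2] at this
    rw [← hNd]
    exact Nat.mul_dvd_mul (dvd_refl 2) h1
  -- numerics
  obtain ⟨k, hk⟩ : 27 ∣ Nat.card N := by rw [← h27]; exact card_dvd_of_le hPN
  have hmod : Nat.card (Sylow 3 G) ≡ 1 [MOD 3] := card_sylow_modEq_one 3 G
  have hidx : Nat.card (Sylow 3 G) = N.index := P.card_eq_index_normalizer
  have hNG := N.card_mul_index
  rw [hG, ← hidx, hk] at hNG
  have hmod' : Nat.card (Sylow 3 G) % 3 = 1 := hmod
  have hkn : k * Nat.card (Sylow 3 G) = 22400 := by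
    have : 27 * (k * Nat.card (Sylow 3 G)) = 27 * 22400 := by rw [← mul_assoc, hNG]
    exact Nat.eq_of_mul_eq_mul_left (by norm_num) this
  have hk8 : k ≤ 8 := by
    have h1 : Nat.card N ≤ 24 * 9 := by rw [← horb]; exact Nat.mul_le_mul_right _ hle
    omega
  have hk4 : 4 ∣ k := by
    rw [hk] at h4N
    exact (Nat.Coprime.dvd_mul_left (by norm_num)).mp h4N
  have hk_eq : k = 8 := by
    generalize Nat.card (Sylow 3 G) = n at *
    interval_cases k <;> omega
  have h216 : Nat.card N = 216 := by rw [hk, hk_eq]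
  refine ⟨h216, ?_⟩
  have h24' : Nat.card {y : G // ∃ n ∈ N, n * f * n⁻¹ = y} = 24 := by
    rw [h216] at horb; omega
  have heq : {y : G | ∃ n ∈ N, n * f * n⁻¹ = y} = ((P : Subgroup G) : Set G) \ (zpowers d : Set G) := by
    refine Set.eq_of_subset_of_ncard_le hsub ?_
    rw [h24, ← Nat.card_coe_set_eq]
    exact h24'.ge
  intro x hx hxd
  have h1 : x ∈ {y : G | ∃ n ∈ N, n * f * n⁻¹ = y} := by rw [heq]; exact ⟨hx, hxd⟩
  obtain ⟨n, -, hn⟩ := h1
  exact isConj_iff.mpr ⟨n, hn⟩

/-- Main theorem on elements of order 3. -/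
theorem main (h : Fus z u) : ∃ a b : G, orderOf a = 3 ∧ orderOf b = 3 ∧
    Nat.card (centralizer ({a} : Set G)) = 1080 ∧ Nat.card (centralizer ({b} : Set G)) = 36 ∧
    (∀ c : G, orderOf c = 3 → IsConj c a ∨ IsConj c b) ∧
    ∃ P : Sylow 3 G, (∃ x y : (P : Subgroup G), x * y ≠ y * x) ∧
      Nat.card (normalizer ((P : Subgroup G) : Set G)) = 216 := by
  haveI : Fact (Nat.Prime 3) := ⟨by norm_num⟩
  obtain ⟨f, U, V, H0, F⟩ := CentU.main h
  obtain ⟨d, hd, hdV, hdH⟩ := ThreeA.exists_d h F
  obtain ⟨P, hPd, hfP, hdP⟩ := exists_sylow h F hd hdH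
  obtain ⟨hnab, -, -⟩ := structure_P h F hd hdH hPd hfP hdP
  obtain ⟨h216, hcl⟩ := card_normalizer h F hd hdV hdH hPd hfP hdP
  refine ⟨d, f, hd, F.f_ord, ThreeD.card_centralizer_d h F hd hdH,
    ThreeD.card_centralizer_f h F hd hdH, ?_, P, hnab, h216⟩
  intro c hc
  obtain ⟨g, hg⟩ := exists_conj_mem_sylow P (y := c) (n := 1) (by rw [hc]; norm_num)
  have hcg : IsConj c (g * c * g⁻¹) := isConj_iff.mpr ⟨g, rfl⟩
  by_cases h1 : g * c * g⁻¹ ∈ zpowers d
  · left
    rcases mem_zpowers_three hd h1 with h2 | h2 | h2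
    · exfalso
      rw [orderOf_eq_of_isConj hcg, h2, orderOf_one] at hc; norm_num at hc
    · rw [h2] at hcg; exact hcg
    · rw [h2] at hcg
      exact hcg.trans (real3 h hd (hdH z (F.U_le F.zU))).symm
  · right
    exact hcg.trans (hcl _ hg h1).symm

/-- The Sylow 3-structure. -/
theorem sylow_three (h : Fus z u) (P : Sylow 3 G) : Cfsg.IsExtraspecial 3 (P : Subgroup G) ∧
    Nat.card P = 27 ∧ Nat.card (normalizer ((P : Subgroup G) : Set G)) = 216 ∧
    ∃ a b : G, orderOf a = 3 ∧ orderOf b = 3 ∧ ¬ IsConj a b ∧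
      ∀ c : G, orderOf c = 3 → IsConj c a ∨ IsConj c b := by
  haveI : Fact (Nat.Prime 3) := ⟨by norm_num⟩
  have hG := Order.card_of_fus h
  obtain ⟨a, b, ha, hb, hca, hcb, hcl, P0, ⟨x, y, hxy⟩, h216⟩ := main h
  have h27 := card_sylow_three hG P
  refine ⟨?_, h27, ?_, a, b, ha, hb, ?_, hcl⟩
  · refine ExtCube.isExtraspecial_of_card_cube (by rw [h27]; norm_num) ?_
    let e := Sylow.equiv P0 P
    refine ⟨e x, e y, ?_⟩
    intro h1
    apply hxy
    apply e.injective
    rw [map_mul, map_mul, h1]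
  · have h1 := (normalizer ((P : Subgroup G) : Set G)).card_mul_index
    have h2 := (normalizer ((P0 : Subgroup G) : Set G)).card_mul_index
    have h3 : Nat.card (Sylow 3 G) = (normalizer ((P : Subgroup G) : Set G)).index :=
      P.card_eq_index_normalizer
    have h4 : Nat.card (Sylow 3 G) = (normalizer ((P0 : Subgroup G) : Set G)).index :=
      P0.card_eq_index_normalizer
    rw [← h3] at h1
    rw [← h4, ← h1] at h2
    rw [← h216]
    exact (Nat.eq_of_mul_eq_mul_right Nat.card_pos h2).symm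
  · intro hab
    have := Cent5.card_centralizer_of_isConj hab
    rw [hca, hcb] at this
    norm_num at this

theorem not_seven_dvd_three (h : Fus z u) (t : G) (ht : orderOf t = 3) :
    ¬ 7 ∣ Nat.card (centralizer ({t} : Set G)) := by
  obtain ⟨a, b, -, -, hca, hcb, hcl, -⟩ := main h
  rcases hcl t ht with h1 | h1
  · rw [Cent5.card_centralizer_of_isConj h1, hca]; norm_num
  · rw [Cent5.card_centralizer_of_isConj h1, hcb]; norm_num

theorem not_seven_dvd_two (h : Fus z u) (t : G) (ht : orderOf t = 2) :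
    ¬ 7 ∣ Nat.card (centralizer ({t} : Set G)) := by
  rcases h.cover t ht with h1 | h1
  · rw [← Cent5.card_centralizer_of_isConj h1, h.cardC]; norm_num
  · rw [← Cent5.card_centralizer_of_isConj h1, Order.card_centralizer_u h]; norm_num

/-- The Sylow 7-structure. -/
theorem sylow_seven (h : Fus z u) (D : Sylow 7 G) :
    centralizer ((D : Subgroup G) : Set G) = D ∧
      Nat.card (normalizer ((D : Subgroup G) : Set G)) = 42 ∧
      ¬ IsMulCommutative (normalizer ((D : Subgroup G) : Set G)) :=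
  SylowSeven.sylow_seven (Order.card_of_fus h) (not_seven_dvd_two h) (not_seven_dvd_three h) D

end

end Cfsg.Agent.J2Type.ThreeF
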